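import Mathlib

/-!
# Integer tables for the principal block with extraspecial Sylow subgroup of order 27

* `card_of_columns`: the number of rows of a table of columns of norm nine;
* `six_rows`, `Table.counts`: the rows of the table of section coordinates.
-/

set_option autoImplicit false

namespace CfsgLib.Blocks.ExtraThree

open Finset

/-! ### Bessel's inequality -/

section Bessel

variable {ι κ : Type*} [Fintype ι] [Fintype κ] [DecidableEq κ]

theorem bessel (col : κ → ι → ℤ) (w : κ → ℤ) (D : ℤ)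
    (h : ∀ k l, w k * ∑ x, col k x * col l x = if k = l then D else 0) (f deg : ι → ℤ)
    (hd : ∀ k, ∑ x, deg x * col k x = 0) (hD : 0 < D) :
    0 ≤ D * ∑ x, f x ^ 2 - ∑ k, w k * (∑ x, f x * col k x) ^ 2 ∧
      (D * ∑ x, f x ^ 2 - ∑ k, w k * (∑ x, f x * col k x) ^ 2 = 0 → ∑ x, f x * deg x = 0) := by
  set A : κ → ℤ := fun k => ∑ x, f x * col k x with hA
  set g : ι → ℤ := fun x => D * f x - ∑ k, w k * A k * col k x with hg
  have hgc : ∀ l, ∑ x, g x * col l x = 0 := by
    intro l
    simp only [hg, sub_mul, Finset.sum_sub_distrib, Finset.sum_mul]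
    rw [Finset.sum_comm]
    have hterm : ∀ k, ∑ x, w k * A k * col k x * col l x = if k = l then D * A k else 0 := by
      intro k
      have h1 : ∑ x, w k * A k * col k x * col l x = A k * (w k * ∑ x, col k x * col l x) := by
        simp only [Finset.mul_sum]; exact Finset.sum_congr rfl fun x _ => by ring
      rw [h1, h]; split_ifs <;> ring
    simp only [hterm, Finset.sum_ite_eq', Finset.mem_univ, if_true]
    rw [hA, Finset.mul_sum]
    simp [mul_assoc]
  have hgg : ∑ x, g x ^ 2 = D * (D * ∑ x, f x ^ 2 - ∑ k, w k * A k ^ 2) := by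
    have h1 : ∀ x, g x ^ 2 = D * (f x * g x) - ∑ k, w k * A k * (g x * col k x) := by
      intro x
      rw [pow_two]
      nth_rewrite 1 [hg]
      simp only [sub_mul, Finset.sum_mul]
      congr 1
      · ring
      · exact Finset.sum_congr rfl fun k _ => by ring
    simp only [h1, Finset.sum_sub_distrib]
    rw [Finset.sum_comm]
    simp only [← Finset.mul_sum, hgc, mul_zero, Finset.sum_const_zero, sub_zero]
    congr 1
    simp only [hg, mul_sub, Finset.sum_sub_distrib]
    congr 1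
    · rw [Finset.mul_sum]; exact Finset.sum_congr rfl fun x _ => by ring
    · rw [show (∑ x, f x * ∑ k, w k * A k * col k x) = ∑ k, w k * A k * A k by
        simp only [Finset.mul_sum]
        rw [Finset.sum_comm]
        refine Finset.sum_congr rfl fun k _ => ?_
        nth_rewrite 3 [hA]
        simp only [Finset.mul_sum]
        exact Finset.sum_congr rfl fun x _ => by ring]
      exact Finset.sum_congr rfl fun k _ => by ring
  refine ⟨?_, fun h0 => ?_⟩
  · by_contra hneg
    push Not at hneg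
    have h2 : 0 ≤ ∑ x, g x ^ 2 := Finset.sum_nonneg fun x _ => sq_nonneg _
    rw [hgg] at h2
    exact absurd h2 (not_le.2 (mul_neg_of_pos_of_neg hD hneg))
  · rw [h0, mul_zero] at hgg
    have hz : ∀ x, g x = 0 := fun x => pow_eq_zero_iff (two_ne_zero) |>.1
      ((Finset.sum_eq_zero_iff_of_nonneg (fun x _ => sq_nonneg _)).1 hgg x (Finset.mem_univ _))
    have h3 : ∑ x, g x * deg x = D * ∑ x, f x * deg x := by
      simp only [hg, sub_mul, Finset.sum_sub_distrib, Finset.sum_mul]
      rw [Finset.sum_comm]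
      have hterm : ∀ k, ∑ x, w k * A k * col k x * deg x = 0 := fun k => by
        have h1 : ∑ x, w k * A k * col k x * deg x = w k * A k * ∑ x, deg x * col k x := by
          simp only [Finset.mul_sum]; exact Finset.sum_congr rfl fun x _ => by ring
        rw [h1, hd, mul_zero]
      simp only [hterm, Finset.sum_const_zero, sub_zero, Finset.mul_sum]
      exact Finset.sum_congr rfl fun x _ => by ring
    simp only [hz, zero_mul, Finset.sum_const_zero] at h3
    exact (mul_eq_zero.1 h3.symm).resolve_left hD.ne'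

end Bessel

/-! ### Columns of norm nine -/

section Columns

variable {Θ : Type*} [Fintype Θ]

/-- The indicator of an entry of absolute value two. -/
def two' (x : ℤ) : ℤ := if x = 2 ∨ x = -2 then 1 else 0

theorem entry_cases {v : Θ → ℤ} (hv : ∑ t, v t * v t = 9) (hne : ∀ t, v t ≠ 0) {t₀ : Θ}
    (h₀ : v t₀ = 1) (t : Θ) : v t = 1 ∨ v t = -1 ∨ v t = 2 ∨ v t = -2 := by
  classical
  by_contra hc
  push Not at hc
  obtain ⟨h1, h2, h3, h4⟩ := hc
  have h5 := hne t
  have ht : t ≠ t₀ := fun h => h1 (h ▸ h₀)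
  have h6 := Finset.add_le_sum (f := fun t => v t * v t) (s := Finset.univ)
    (fun i _ => mul_self_nonneg _) (Finset.mem_univ t) (Finset.mem_univ t₀) ht
  simp only [h₀, hv] at h6
  have : 3 ≤ v t ∨ v t ≤ -3 := by omega
  rcases this with h | h <;> nlinarith

theorem card_of_one_column (v : Θ → ℤ) (hv : ∑ t, v t * v t = 9) (hne : ∀ t, v t ≠ 0) {t₀ : Θ}
    (h₀ : v t₀ = 1) :
    Fintype.card Θ = 3 ∨ Fintype.card Θ = 6 ∨
      (Fintype.card Θ = 9 ∧ ∀ t, v t = 1 ∨ v t = -1) := by
  have hsq : ∀ t, v t * v t = 1 + 3 * two' (v t) := fun t => by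
    rcases entry_cases hv hne h₀ t with h | h | h | h <;> rw [h] <;> rfl
  have h1 : (Fintype.card Θ : ℤ) + 3 * ∑ t, two' (v t) = 9 := by
    rw [← hv, Finset.sum_congr rfl fun t _ => hsq t, Finset.sum_add_distrib, ← Finset.mul_sum]
    simp
  have h2 : 0 ≤ ∑ t, two' (v t) := Finset.sum_nonneg fun t _ => by
    unfold two'; split_ifs <;> norm_num
  have h3 : 0 < Fintype.card Θ := Fintype.card_pos_iff.2 ⟨t₀⟩
  by_cases h9 : Fintype.card Θ = 9
  · refine Or.inr (Or.inr ⟨h9, fun t => ?_⟩)
    have hS : ∑ t, two' (v t) = 0 := by omega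
    have := (Finset.sum_eq_zero_iff_of_nonneg (fun t _ => by unfold two'; split_ifs <;> norm_num)).1
      hS t (Finset.mem_univ _)
    rcases entry_cases hv hne h₀ t with h | h | h | h
    · exact Or.inl h
    · exact Or.inr h
    · rw [h] at this; simp [two'] at this
    · rw [h] at this; simp [two'] at this
  · omega

theorem card_of_two_columns (v w : Θ → ℤ) (hv : ∑ t, v t * v t = 9) (hw : ∑ t, w t * w t = 9)
    (hvw : ∑ t, v t * w t = 0) (hnev : ∀ t, v t ≠ 0) (hnew : ∀ t, w t ≠ 0)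
    (hcong : ∀ t, (3 : ℤ) ∣ v t - w t) {t₀ : Θ} (h₀v : v t₀ = 1) (h₀w : w t₀ = 1) :
    Fintype.card Θ = 6 := by
  classical
  have hsq : ∀ t, v t * v t = 1 + 3 * two' (v t) := fun t => by
    rcases entry_cases hv hnev h₀v t with h | h | h | h <;> rw [h] <;> rfl
  have hsq' : ∀ t, w t * w t = 1 + 3 * two' (w t) := fun t => by
    rcases entry_cases hw hnew h₀w t with h | h | h | h <;> rw [h] <;> rfl
  have hprod : ∀ t, v t * w t = 1 - 3 * two' (v t) - 3 * two' (w t) + 9 * (two' (v t) * two' (w t)) := by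
    intro t
    have h3 := hcong t
    rcases entry_cases hv hnev h₀v t with h | h | h | h <;>
      rcases entry_cases hw hnew h₀w t with h' | h' | h' | h' <;> rw [h, h'] at h3 ⊢ <;>
      first | rfl | norm_num at h3
  set SA := ∑ t, two' (v t) with hSA
  set SB := ∑ t, two' (w t) with hSB
  set C := ∑ t, two' (v t) * two' (w t) with hC
  have h1 : (Fintype.card Θ : ℤ) + 3 * SA = 9 := by
    rw [← hv, Finset.sum_congr rfl fun t _ => hsq t, Finset.sum_add_distrib, ← Finset.mul_sum]
    simp [hSA]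
  have h2 : (Fintype.card Θ : ℤ) + 3 * SB = 9 := by
    rw [← hw, Finset.sum_congr rfl fun t _ => hsq' t, Finset.sum_add_distrib, ← Finset.mul_sum]
    simp [hSB]
  have h3 : (Fintype.card Θ : ℤ) - 3 * SA - 3 * SB + 9 * C = 0 := by
    rw [← hvw, Finset.sum_congr rfl fun t _ => hprod t, Finset.sum_add_distrib,
      Finset.sum_sub_distrib, Finset.sum_sub_distrib, ← Finset.mul_sum, ← Finset.mul_sum, ← Finset.mul_sum]
    simp [hSA, hSB, hC]
  have h4 : SA + SB - C + 1 ≤ Fintype.card Θ := by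
    have hle : ∀ t, two' (v t) + two' (w t) - two' (v t) * two' (w t) + (if t = t₀ then (1 : ℤ) else 0) ≤ 1 := by
      intro t
      split_ifs with ht
      · subst ht; simp [two', h₀v, h₀w]
      · unfold two'; split_ifs <;> norm_num
    have := Finset.sum_le_sum (s := Finset.univ) fun t _ => hle t
    simp only [Finset.sum_add_distrib, Finset.sum_sub_distrib, Finset.sum_const, Finset.sum_ite_eq',
      Finset.mem_univ, if_true, Finset.card_univ, nsmul_eq_mul, mul_one] at this
    exact this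
  have h5 : 0 ≤ C := Finset.sum_nonneg fun t _ => by
    unfold two'; split_ifs <;> norm_num
  omega

end Columns

/-! ### The fixed rows -/

section Rows

variable {F κ : Type*} [Fintype F] [Fintype κ] [DecidableEq κ]

theorem sq_ge_nine {x : ℤ} (h : (3 : ℤ) ∣ x) (h0 : x ≠ 0) : 9 ≤ x ^ 2 := by
  obtain ⟨c, rfl⟩ := h
  have : c ≠ 0 := fun h => h0 (by rw [h, mul_zero])
  have : 0 < c ^ 2 := by positivity
  nlinarith

theorem six_rows (z : κ → F → ℤ) (j : F → ℤ) (hκ : Fintype.card κ = 6)
    (hgram : ∀ a b, ∑ x, z a x * z b x = if a = b then 9 else 0)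
    (hcong : ∀ a x, (3 : ℤ) ∣ z a x - j x) (hne : ∀ x, ∃ a, z a x ≠ 0) (x₀ : F)
    (hj₀ : j x₀ = 1) (hw₀ : ∑ a, z a x₀ ^ 2 = 9) :
    Fintype.card F = 6 ∧ ∀ x, ¬ (3 : ℤ) ∣ j x := by
  classical
  have hnd : ∀ x, ¬ (3 : ℤ) ∣ j x := by
    intro x hx
    obtain ⟨a, ha⟩ := hne x
    have h1 : (3 : ℤ) ∣ z a x := by simpa using dvd_add (hcong a x) hx
    have h9 := sq_ge_nine h1 ha
    have hne₀ : x ≠ x₀ := fun h => by rw [h, hj₀] at hx; norm_num at hx
    have h0 : z a x₀ ≠ 0 := fun h => by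
      have := hcong a x₀; rw [h, hj₀] at this; norm_num at this
    have h2 := Finset.add_le_sum (f := fun y => z a y * z a y) (s := Finset.univ)
      (fun i _ => mul_self_nonneg _) (Finset.mem_univ x) (Finset.mem_univ x₀) hne₀
    rw [hgram, if_pos rfl] at h2
    have : 0 < z a x₀ * z a x₀ := mul_self_pos.2 h0
    rw [pow_two] at h9
    omega
  refine ⟨?_, hnd⟩
  have hone : ∀ a x, 1 ≤ z a x ^ 2 := by
    intro a x
    have : z a x ≠ 0 := fun h => hnd x (by have := hcong a x; rw [h, zero_sub, dvd_neg] at this; exact this)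
    have := mul_self_pos.2 this
    nlinarith
  set W : F → ℤ := fun x => ∑ a, z a x ^ 2 with hW
  have hb : ∀ f : F → ℤ, 0 ≤ 9 * ∑ x, f x ^ 2 - ∑ a, (∑ x, f x * z a x) ^ 2 := by
    intro f
    have h := (bessel z (fun _ => 1) 9 (fun a b => by rw [one_mul, hgram]) f (fun _ => 0)
      (fun k => by simp) (by norm_num)).1
    simpa only [one_mul] using h
  have hWle : ∀ x, W x ≤ 9 := by
    intro x
    have h := hb (fun y => if y = x then 1 else 0)
    simp only [ite_pow, one_pow, ne_eq, OfNat.ofNat_ne_zero, not_false_eq_true, zero_pow, ite_mul,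
      one_mul, zero_mul, Finset.sum_ite_eq', Finset.mem_univ, if_true] at h
    simp only [hW]; linarith
  have hWge : ∀ x, 6 ≤ W x := by
    intro x
    have h := Finset.sum_le_sum (s := (Finset.univ : Finset κ)) fun a _ => hone a x
    simpa [hκ, hW] using h
  have hW3 : ∀ x, (3 : ℤ) ∣ W x := by
    intro x
    have hsum : (3 : ℤ) ∣ ∑ a, (z a x ^ 2 - j x ^ 2) :=
      Finset.dvd_sum fun a _ => (hcong a x).trans ⟨z a x + j x, by ring⟩
    rw [Finset.sum_sub_distrib, Finset.sum_const, Finset.card_univ, hκ] at hsum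
    have h6 : (3 : ℤ) ∣ (6 : ℕ) • j x ^ 2 := ⟨2 * j x ^ 2, by rw [nsmul_eq_mul]; push_cast; ring⟩
    simpa using dvd_add hsum h6
  have htot : ∑ x, W x = 54 := by
    simp only [hW]
    rw [Finset.sum_comm]
    have : ∀ a, ∑ x, z a x ^ 2 = 9 := fun a => by
      simpa [pow_two] using hgram a a
    simp [this, hκ]
  have hsix : ((Finset.univ : Finset F).filter fun x => W x = 6).card ≤ 1 := by
    rw [Finset.card_le_one]
    intro x hx y hy
    by_contra hxy
    simp only [Finset.mem_filter, Finset.mem_univ, true_and] at hx hy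
    have hunit : ∀ x, W x = 6 → ∀ a, z a x ^ 2 = 1 := by
      intro x hx a
      have h : ∑ a, (z a x ^ 2 - 1) = 0 := by
        rw [Finset.sum_sub_distrib]; simp only [hW] at hx; simp [hx, hκ]
      have := (Finset.sum_eq_zero_iff_of_nonneg (fun a _ => by linarith [hone a x])).1 h a
        (Finset.mem_univ _)
      linarith
    have hsgn : ∀ x, W x = 6 → ∃ s : ℤ, s ^ 2 = 1 ∧ ∀ a, s * z a x = 1 := by
      intro x hx
      obtain ⟨a₀⟩ : Nonempty κ := Fintype.card_pos_iff.1 (by omega)
      refine ⟨z a₀ x, hunit x hx a₀, fun a => ?_⟩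
      have h3 : (3 : ℤ) ∣ z a x - z a₀ x := by
        simpa using dvd_sub (hcong a x) (hcong a₀ x)
      rcases sq_eq_one_iff.1 (hunit x hx a) with h | h <;>
        rcases sq_eq_one_iff.1 (hunit x hx a₀) with h' | h' <;> rw [h, h'] at h3 <;> rw [h, h'] <;>
        omega
    obtain ⟨s, hs, hsz⟩ := hsgn x hx
    obtain ⟨t, ht, htz⟩ := hsgn y hy
    have h := hb (fun w => (if w = x then s else 0) + (if w = y then t else 0))
    simp only [add_mul, ite_mul, zero_mul, Finset.sum_add_distrib, Finset.sum_ite_eq', Finset.mem_univ,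
      if_true, hsz, htz] at h
    have hf : ∑ w, ((if w = x then s else 0) + (if w = y then t else 0)) ^ 2 = 2 := by
      have hpt : ∀ w, ((if w = x then s else 0) + (if w = y then t else 0)) ^ 2 =
          (if w = x then (1 : ℤ) else 0) + (if w = y then 1 else 0) := by
        intro w
        by_cases h1 : w = x
        · subst h1; rw [if_pos rfl, if_neg hxy, if_pos rfl, if_neg hxy]; simpa using hs
        · by_cases h2 : w = y
          · rw [if_neg h1, if_pos h2, if_neg h1, if_pos h2]; simpa using ht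
          · simp [h1, h2]
      simp [hpt, Finset.sum_add_distrib]
    rw [hf] at h
    simp [hκ] at h
  have hW' : ∀ x, W x = 9 - (if W x = 6 then 3 else 0) := by
    intro x
    obtain ⟨c, hc⟩ := hW3 x
    have := hWle x; have := hWge x
    split_ifs <;> omega
  rw [Finset.sum_congr rfl fun x _ => hW' x, Finset.sum_sub_distrib, ← Finset.sum_filter,
    Finset.sum_const, Finset.sum_const, Finset.card_univ] at htot
  simp only [nsmul_eq_mul] at htot
  have hcast : (((Finset.univ : Finset F).filter fun x => W x = 6).card : ℤ) ≤ 1 := by exact_mod_cast hsix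
  omega

end Rows

/-! ### The table -/

/-- Coordinates of the members of the block on the sections of `z` (`Y`, `β`) and of the noncentral
elements (`u`). -/
structure Table (ι : Type*) [Fintype ι] (n m : ℕ) where
  Y : ι → Fin n → ℤ
  β : ι → Fin n → ℤ
  u : ι → Fin m → ℤ
  j : ι → ℤ
  deg : ι → ℤ
  one : ι
  hnm : n + m = 6
  hm : 1 ≤ m
  gYY : ∀ a b, ∑ x, Y x a * Y x b = if a = b then 54 else 0
  gββ : ∀ a b, ∑ x, β x a * β x b = if a = b then 2 else 0
  guu : ∀ a b, ∑ x, u x a * u x b = if a = b then 9 else 0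
  gYβ : ∀ a b, ∑ x, Y x a * β x b = 0
  gYu : ∀ a b, ∑ x, Y x a * u x b = 0
  gβu : ∀ a b, ∑ x, β x a * u x b = 0
  dY : ∀ a, ∑ x, deg x * Y x a = 0
  dβ : ∀ a, ∑ x, deg x * β x a = 0
  du : ∀ a, ∑ x, deg x * u x a = 0
  beta_unit : ∀ x a, β x a = 0 ∨ β x a = 1 ∨ β x a = -1
  beta_single : ∀ x a b, β x a ≠ 0 → β x b ≠ 0 → a = b
  parity : ∀ x a, Odd (Y x a) ↔ β x a ≠ 0
  congY : ∀ x a, (3 : ℤ) ∣ Y x a - j x
  congu : ∀ x a, (3 : ℤ) ∣ u x a - j x
  one_beta : ∀ a, β one a = 0
  one_u : ∀ a, u one a = 1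
  one_j : j one = 1
  one_deg : deg one = 1
  one_Y : ∑ a, Y one a ^ 2 = 4 * (9 - (m : ℤ))
  nonzero : ∀ x, (∃ a, Y x a ≠ 0) ∨ (∃ a, β x a ≠ 0) ∨ ∃ a, u x a ≠ 0

namespace Table

variable {ι : Type*} [Fintype ι] {n m : ℕ} (T : Table ι n m)

theorem even_Y {x : ι} {a : Fin n} (h : T.β x a = 0) : (2 : ℤ) ∣ T.Y x a := by
  rw [← even_iff_two_dvd, ← Int.not_odd_iff_even]
  exact fun ho => (T.parity x a).1 ho h

theorem odd_Y {x : ι} {a : Fin n} (h : T.β x a ≠ 0) : Odd (T.Y x a) := (T.parity x a).2 h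

/-- The quadratic form given by the columns. -/
def bessForm [DecidableEq ι] (f : ι → ℤ) : ℤ :=
  54 * ∑ x, f x ^ 2 - (∑ a, (∑ x, f x * T.Y x a) ^ 2 + 27 * ∑ a, (∑ x, f x * T.β x a) ^ 2 +
    6 * ∑ a, (∑ x, f x * T.u x a) ^ 2)

theorem bessForm_nonneg [DecidableEq ι] (f : ι → ℤ) :
    0 ≤ T.bessForm f ∧ (T.bessForm f = 0 → ∑ x, f x * T.deg x = 0) := by
  let col : Fin n ⊕ (Fin n ⊕ Fin m) → ι → ℤ :=
    Sum.elim (fun a x => T.Y x a) (Sum.elim (fun a x => T.β x a) (fun a x => T.u x a))
  let w : Fin n ⊕ (Fin n ⊕ Fin m) → ℤ := Sum.elim (fun _ => 1) (Sum.elim (fun _ => 27) (fun _ => 6))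
  have hsymm : ∀ (φ ψ : ι → ℤ), ∑ x, φ x * ψ x = ∑ x, ψ x * φ x := fun φ ψ =>
    Finset.sum_congr rfl fun x _ => mul_comm _ _
  have h := bessel col w 54 (by
    rintro (a | a | a) (b | b | b) <;>
      simp only [col, w, Sum.elim_inl, Sum.elim_inr, reduceCtorEq, if_false, Sum.inl.injEq, Sum.inr.injEq]
    · rw [T.gYY, one_mul]
    · rw [T.gYβ, mul_zero]
    · rw [T.gYu, mul_zero]
    · rw [hsymm, T.gYβ, mul_zero]
    · rw [T.gββ]; split_ifs <;> norm_num
    · rw [T.gβu, mul_zero]
    · rw [hsymm, T.gYu, mul_zero]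
    · rw [hsymm, T.gβu, mul_zero]
    · rw [T.guu]; split_ifs <;> norm_num) f T.deg (by
    rintro (a | a | a) <;> simp only [col, Sum.elim_inl, Sum.elim_inr]
    · exact T.dY a
    · exact T.dβ a
    · exact T.du a) (by norm_num)
  simp only [col, w, Fintype.sum_sum_type, Sum.elim_inl, Sum.elim_inr, one_mul, ← Finset.mul_sum] at h
  simp only [bessForm]
  rw [add_assoc]
  exact h

theorem exists_pair (a : Fin n) : ∃ p q, p ≠ q ∧ T.β p a ≠ 0 ∧ T.β q a ≠ 0 ∧
    ∀ x, x ≠ p → x ≠ q → T.β x a = 0 := by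
  classical
  set s := (Finset.univ : Finset ι).filter fun x => T.β x a ≠ 0
  have hs : s.card = 2 := by
    have h := T.gββ a a
    rw [if_pos rfl] at h
    have hpt : ∀ x, T.β x a * T.β x a = if T.β x a ≠ 0 then 1 else 0 := fun x => by
      rcases T.beta_unit x a with h | h | h <;> simp [h]
    rw [Finset.sum_congr rfl fun x _ => hpt x, Finset.sum_boole] at h
    exact_mod_cast h
  obtain ⟨p, q, hpq, hs'⟩ := Finset.card_eq_two.1 hs
  have hmem : ∀ x, T.β x a ≠ 0 ↔ x = p ∨ x = q := fun x => by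
    have : x ∈ s ↔ x ∈ ({p, q} : Finset ι) := by rw [hs']
    simpa [s] using this
  exact ⟨p, q, hpq, (hmem p).2 (Or.inl rfl), (hmem q).2 (Or.inr rfl), fun x h1 h2 => by
    by_contra h; rcases (hmem x).1 h with h' | h' <;> contradiction⟩

/-- A column orthogonal to `β a` takes values of equal size on the pair of `a`. -/
theorem twin {a : Fin n} {p q : ι} (hpq : p ≠ q) (hp : T.β p a ≠ 0) (hq : T.β q a ≠ 0)
    (h : ∀ x, x ≠ p → x ≠ q → T.β x a = 0) (φ : ι → ℤ) (hφ : ∑ x, φ x * T.β x a = 0) :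
    φ q ^ 2 = φ p ^ 2 := by
  classical
  rw [Fintype.sum_eq_add p q hpq fun x hx => by rw [h x hx.1 hx.2, mul_zero]] at hφ
  rcases T.beta_unit p a with h1 | h1 | h1 <;> rcases T.beta_unit q a with h2 | h2 | h2 <;>
    first
      | exact absurd h1 hp
      | exact absurd h2 hq
      | (rw [h1, h2] at hφ; rw [show φ q = φ p by linarith])
      | (rw [h1, h2] at hφ; rw [show φ q = -φ p by linarith, neg_sq])

theorem even_three_sq {y : ℤ} (h2 : (2 : ℤ) ∣ y) (h3 : (3 : ℤ) ∣ y - 1) : y = -2 ∨ 16 ≤ y ^ 2 := by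
  obtain ⟨c, hc⟩ := h2
  obtain ⟨d, hd⟩ := h3
  by_cases h : y = -2
  · exact Or.inl h
  · right
    have : 4 ≤ y ∨ y ≤ -8 := by omega
    rcases this with h | h <;> nlinarith

theorem one_Y_cases (a : Fin n) : T.Y T.one a = -2 ∨ T.Y T.one a = 4 := by
  have h3 : (3 : ℤ) ∣ T.Y T.one a - 1 := by simpa [T.one_j] using T.congY T.one a
  rcases even_three_sq (T.even_Y (T.one_beta a)) h3 with h | h
  · exact Or.inl h
  · right
    have hge : ∀ b, 4 ≤ T.Y T.one b ^ 2 := by
      intro b
      rcases even_three_sq (T.even_Y (T.one_beta b))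
        (by simpa [T.one_j] using T.congY T.one b) with h' | h'
      · rw [h']; norm_num
      · linarith
    have h1 : ∑ b, (T.Y T.one b ^ 2 - 4) = 4 * (9 - (m : ℤ)) - 4 * n := by
      rw [Finset.sum_sub_distrib, T.one_Y]; simp; ring
    have h2 := Finset.single_le_sum (f := fun b => T.Y T.one b ^ 2 - 4)
      (fun b _ => by linarith [hge b]) (Finset.mem_univ a)
    rw [h1] at h2
    have hnm : (n : ℤ) + m = 6 := by exact_mod_cast T.hnm
    have h5 : T.Y T.one a ^ 2 ≤ 16 := by linarith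
    have h7 : T.Y T.one a < 5 ∧ -5 < T.Y T.one a := by constructor <;> nlinarith
    obtain ⟨c, hc⟩ := T.even_Y (T.one_beta a)
    obtain ⟨d, hd⟩ := h3
    rcases h7 with ⟨h8, h9⟩
    by_contra h10
    have : T.Y T.one a = -2 := by omega
    rw [this] at h
    norm_num at h

theorem sum_one_Y : ∑ a, T.Y T.one a = 6 - 2 * (n : ℤ) := by
  have h : ∀ a, 2 * T.Y T.one a = T.Y T.one a ^ 2 - 8 := fun a => by
    rcases T.one_Y_cases a with h | h <;> rw [h] <;> norm_num
  have h2 := Finset.sum_congr rfl (fun a (_ : a ∈ (Finset.univ : Finset (Fin n))) => h a)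
  rw [← Finset.mul_sum, Finset.sum_sub_distrib, T.one_Y] at h2
  simp at h2
  have hnm : (n : ℤ) + m = 6 := by exact_mod_cast T.hnm
  linarith

theorem dvd_j_of_beta {x : ι} {i : Fin n} (hx : T.β x i ≠ 0) : (3 : ℤ) ∣ T.j x := by
  classical
  by_contra hj
  obtain ⟨g, hg, hgj⟩ : ∃ g : ℤ, g * g = 1 ∧ (3 : ℤ) ∣ g * T.j x - 1 := by
    by_cases h : (3 : ℤ) ∣ T.j x - 1
    · exact ⟨1, by norm_num, by simpa using h⟩
    · exact ⟨-1, by norm_num, by omega⟩
  have hnm : (n : ℤ) + m = 6 := by exact_mod_cast T.hnm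
  have hm : (1 : ℤ) ≤ m := by exact_mod_cast T.hm
  have hgY : ∀ a, (3 : ℤ) ∣ g * T.Y x a - 1 := fun a => by
    have := dvd_add ((T.congY x a).mul_left g) hgj
    rwa [show g * (T.Y x a - T.j x) + (g * T.j x - 1) = g * T.Y x a - 1 by ring] at this
  have hgu : ∀ a, (3 : ℤ) ∣ g * T.u x a - 1 := fun a => by
    have := dvd_add ((T.congu x a).mul_left g) hgj
    rwa [show g * (T.u x a - T.j x) + (g * T.j x - 1) = g * T.u x a - 1 by ring] at this
  have hsqg : ∀ y : ℤ, (g * y) ^ 2 = y ^ 2 := fun y => by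
    rw [mul_pow, pow_two g, hg, one_mul]
  have hY2 : ∀ a, a ≠ i → g * T.Y x a = -2 ∨ 16 ≤ (g * T.Y x a) ^ 2 := fun a ha =>
    even_three_sq ((T.even_Y (by by_contra h; exact ha (T.beta_single x a i h hx))).mul_left g) (hgY a)
  have hYi : g * T.Y x i = 1 ∨ 25 ≤ (g * T.Y x i) ^ 2 := by
    obtain ⟨c, hc⟩ := T.odd_Y hx
    have hgo : ∃ c', g * T.Y x i = 2 * c' + 1 := by
      rcases mul_self_eq_one_iff.1 hg with h | h
      · exact ⟨c, by rw [h, one_mul, hc]⟩
      · exact ⟨-c - 1, by rw [h, hc]; ring⟩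
    obtain ⟨c', hc'⟩ := hgo
    obtain ⟨d, hd⟩ := hgY i
    by_cases h : g * T.Y x i = 1
    · exact Or.inl h
    · right
      generalize g * T.Y x i = y at *
      have : 7 ≤ y ∨ y ≤ -5 := by omega
      rcases this with h' | h' <;> nlinarith
  have hu1 : ∀ a, g * T.u x a = 1 ∨ 4 ≤ (g * T.u x a) ^ 2 := fun a => by
    obtain ⟨d, hd⟩ := hgu a
    by_cases h : g * T.u x a = 1
    · exact Or.inl h
    · right
      generalize g * T.u x a = y at *
      have : 2 ≤ y ∨ y ≤ -2 := by omega
      rcases this with h' | h' <;> nlinarith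
  have hbsum : ∑ a, T.β x a ^ 2 = 1 := by
    rw [Fintype.sum_eq_single i fun a ha => by
      have : T.β x a = 0 := by by_contra h; exact ha (T.beta_single x a i h hx)
      rw [this]; norm_num]
    rcases T.beta_unit x i with h | h | h
    · exact absurd h hx
    · rw [h]; norm_num
    · rw [h]; norm_num
  have hb := (T.bessForm_nonneg (fun y => if y = x then 1 else 0)).1
  simp only [bessForm, ite_pow, one_pow, ne_eq, OfNat.ofNat_ne_zero, not_false_eq_true, zero_pow, ite_mul,
    one_mul, zero_mul, Finset.sum_ite_eq', Finset.mem_univ, if_true, hbsum] at hb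
  -- the base values
  set e : Fin n → ℤ := fun a => (g * T.Y x a) ^ 2 - (if a = i then 1 else 4) with he
  have hemin : ∀ a, 0 ≤ e a := by
    intro a
    by_cases ha : a = i
    · subst ha; simp only [he, if_true]
      rcases hYi with h | h
      · rw [h]; norm_num
      · linarith
    · simp only [he, if_neg ha]
      rcases hY2 a ha with h | h
      · rw [h]; norm_num
      · linarith
  have hesum : ∑ a, e a = ∑ a, T.Y x a ^ 2 - (4 * (n : ℤ) - 3) := by
    simp only [he, Finset.sum_sub_distrib, hsqg]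
    congr 1
    have hite : ∀ a : Fin n, (if a = i then (1 : ℤ) else 4) = 4 - (if a = i then 3 else 0) := fun a => by
      split_ifs <;> norm_num
    simp [hite, Finset.sum_sub_distrib]; ring
  have humin : ∀ a, 1 ≤ (g * T.u x a) ^ 2 := fun a => by
    rcases hu1 a with h | h
    · rw [h]; norm_num
    · linarith
  have husum : (m : ℤ) ≤ ∑ a, T.u x a ^ 2 := by
    simp only [← hsqg (T.u x _)]
    simpa using Finset.sum_le_sum (s := (Finset.univ : Finset (Fin m))) fun a _ => humin a
  have hE : 0 ≤ ∑ a, e a := Finset.sum_nonneg fun a _ => hemin a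
  have hYexact : ∀ a, g * T.Y x a = if a = i then 1 else -2 := by
    intro a
    by_contra hne
    have : 12 ≤ e a := by
      by_cases ha : a = i
      · subst ha
        simp only [if_true] at hne
        have := hYi.resolve_left hne
        simp only [he, if_true]; linarith
      · rw [if_neg ha] at hne
        have := (hY2 a ha).resolve_left hne
        simp only [he, if_neg ha]; linarith
    have h2 := Finset.single_le_sum (fun b _ => hemin b) (Finset.mem_univ a)
    linarith
  have huexact : ∀ a, g * T.u x a = 1 := by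
    intro a
    by_contra hne
    have h4 := (hu1 a).resolve_left hne
    rw [hsqg] at h4
    have h3 : ∑ b, (T.u x b ^ 2 - 1) = (∑ b, T.u x b ^ 2) - m := by
      simp [Finset.sum_sub_distrib]
    have h2 := Finset.single_le_sum (f := fun b => T.u x b ^ 2 - 1)
      (fun b _ => by have := humin b; rw [hsqg] at this; linarith) (Finset.mem_univ a)
    rw [h3] at h2
    linarith
  -- the test vector
  have hxne : x ≠ T.one := fun h => hx (h ▸ T.one_beta i)
  set f : ι → ℤ := fun y => (if y = T.one then 1 else 0) + (if y = x then 2 * g else 0) with hf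
  have hfc : ∀ φ : ι → ℤ, ∑ y, f y * φ y = φ T.one + 2 * g * φ x := by
    intro φ
    simp [hf, add_mul, Finset.sum_add_distrib]
  have hff : ∑ y, f y ^ 2 = 5 := by
    simp only [pow_two, hfc]
    simp only [hf, if_neg hxne, if_neg hxne.symm, if_true]
    ring_nf
    rw [show g ^ 2 = 1 by rw [pow_two, hg]]
    norm_num
  obtain ⟨hb2, hb3⟩ := T.bessForm_nonneg f
  simp only [bessForm, hfc, hff] at hb2 hb3
  have hsY : ∑ a, (T.Y T.one a + 2 * g * T.Y x a) ^ 2 =
      ∑ a, T.Y T.one a ^ 2 + 4 * ((4 * (n : ℤ) - 3)) + 4 * (-2 * ∑ a, T.Y T.one a + 3 * T.Y T.one i) := by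
    have hpt : ∀ a, (T.Y T.one a + 2 * g * T.Y x a) ^ 2 = T.Y T.one a ^ 2 +
        (16 - (if a = i then 12 else 0)) + (-8 * T.Y T.one a + (if a = i then 12 * T.Y T.one a else 0)) := by
      intro a
      rw [mul_assoc 2 g, hYexact a]
      split_ifs <;> ring
    simp [hpt, Finset.sum_add_distrib, Finset.sum_sub_distrib, ← Finset.mul_sum]
    ring
  have hsβ : ∑ a, (T.β T.one a + 2 * g * T.β x a) ^ 2 = 4 := by
    simp only [T.one_beta, zero_add, mul_pow, ← Finset.mul_sum, hbsum]
    rw [pow_two g, hg]; norm_num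
  have hsu : ∑ a, (T.u T.one a + 2 * g * T.u x a) ^ 2 = 9 * (m : ℤ) := by
    rw [Finset.sum_congr rfl fun a _ => show (T.u T.one a + 2 * g * T.u x a) ^ 2 = (9 : ℤ) by
      rw [mul_assoc 2 g, huexact, T.one_u]; norm_num]
    simp; ring
  rw [hsY, hsβ, hsu, T.one_Y, T.sum_one_Y] at hb2 hb3
  have hYlow : -2 ≤ T.Y T.one i := by rcases T.one_Y_cases i with h | h <;> omega
  have h0 := hb3 (by linarith)
  rw [T.one_deg] at h0
  rcases mul_self_eq_one_iff.1 hg with hg' | hg' <;> subst hg' <;> omega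

theorem Y_of_beta {x : ι} {i : Fin n} (hx : T.β x i ≠ 0) :
    T.Y x i ^ 2 = 9 ∧ (∀ a, a ≠ i → T.Y x a = 0) ∧ ∀ a, T.u x a = 0 := by
  classical
  obtain ⟨p, q, hpq, hp, hq, hoth⟩ := T.exists_pair i
  obtain ⟨y, hy, hxy, hyo⟩ : ∃ y, T.β y i ≠ 0 ∧ x ≠ y ∧ ∀ z, z ≠ x → z ≠ y → T.β z i = 0 := by
    rcases eq_or_ne x p with rfl | h
    · exact ⟨q, hq, hpq, hoth⟩
    · have : x = q := by by_contra h'; exact hx (hoth x h h')
      subst this
      exact ⟨p, hp, hpq.symm, fun z h1 h2 => hoth z h2 h1⟩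
  have hjx := T.dvd_j_of_beta hx
  have h3 : ∀ {z : ι} {b : Fin n}, T.β z b ≠ 0 → ∀ a, (3 : ℤ) ∣ T.Y z a := fun {z} {b} hz a => by
    simpa using dvd_add (T.congY z a) (T.dvd_j_of_beta hz)
  refine ⟨?_, fun a ha => ?_, fun a => ?_⟩
  · have htw := T.twin hxy hx hy hyo (fun z => T.Y z i) (T.gYβ i i)
    have h := Finset.add_le_sum (f := fun z => T.Y z i * T.Y z i) (s := Finset.univ)
      (fun z _ => mul_self_nonneg _) (Finset.mem_univ x) (Finset.mem_univ y) hxy
    rw [T.gYY, if_pos rfl, ← pow_two, ← pow_two, htw] at h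
    obtain ⟨c, hc⟩ := h3 hx i
    obtain ⟨d, hd⟩ := T.odd_Y hx
    have : T.Y x i < 6 ∧ -6 < T.Y x i := by constructor <;> nlinarith
    obtain ⟨h1, h2⟩ := this
    have : T.Y x i = 3 ∨ T.Y x i = -3 := by omega
    rcases this with h' | h' <;> rw [h'] <;> norm_num
  · by_contra hne
    have hβxa : T.β x a = 0 := by by_contra h; exact ha (T.beta_single x a i h hx)
    obtain ⟨p', q', hpq', hp', hq', -⟩ := T.exists_pair a
    have hdis : ∀ z, T.β z a ≠ 0 → z ≠ x ∧ z ≠ y := fun z hz =>
      ⟨fun h => hz (h ▸ hβxa), fun h => ha (T.beta_single z a i hz (h ▸ hy))⟩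
    have htw := T.twin hxy hx hy hyo (fun z => T.Y z a) (T.gYβ a i)
    have h36 : 36 ≤ T.Y x a ^ 2 := by
      obtain ⟨c, hc⟩ := h3 hx a
      obtain ⟨d, hd⟩ := T.even_Y hβxa
      have : 6 ≤ T.Y x a ∨ T.Y x a ≤ -6 := by omega
      rcases this with h | h <;> nlinarith
    have h9 : ∀ z, T.β z a ≠ 0 → 9 ≤ T.Y z a ^ 2 := fun z hz =>
      sq_ge_nine (h3 hz a) (fun h => by have := T.odd_Y hz; rw [h] at this; simp at this)
    have hsub : ({x, y, p', q'} : Finset ι) ⊆ Finset.univ := Finset.subset_univ _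
    have h := Finset.sum_le_sum_of_subset_of_nonneg hsub
      (f := fun z => T.Y z a * T.Y z a) (fun z _ _ => mul_self_nonneg _)
    rw [T.gYY, if_pos rfl, Finset.sum_insert (by simp [hxy, (hdis p' hp').1.symm, (hdis q' hq').1.symm]),
      Finset.sum_insert (by simp [(hdis p' hp').2.symm, (hdis q' hq').2.symm]),
      Finset.sum_insert (by simpa using hpq'), Finset.sum_singleton] at h
    simp only [← pow_two, htw] at h
    have := h9 p' hp'
    have := h9 q' hq'
    linarith
  · by_contra hne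
    have htw := T.twin hxy hx hy hyo (fun z => T.u z a) (by
      rw [← T.gβu i a]; exact Finset.sum_congr rfl fun z _ => mul_comm _ _)
    have h := Finset.add_le_sum (f := fun z => T.u z a * T.u z a) (s := Finset.univ)
      (fun z _ => mul_self_nonneg _) (Finset.mem_univ x) (Finset.mem_univ y) hxy
    rw [T.guu, if_pos rfl, ← pow_two, ← pow_two, htw] at h
    have h9 : 9 ≤ T.u x a ^ 2 := sq_ge_nine (by simpa using dvd_add (T.congu x a) hjx) hne
    linarith

theorem sum_moving (a b : Fin n) (hmov : ∀ x, (∃ i, T.β x i ≠ 0) → ∀ i, T.Y x i ^ 2 = 9 * T.β x i ^ 2) :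
    ∑ x ∈ Finset.univ.filter (fun x => ∃ i, T.β x i ≠ 0), T.Y x a * T.Y x b =
      if a = b then 18 else 0 := by
  classical
  split_ifs with hab
  · subst hab
    have h : ∀ x ∈ Finset.univ.filter (fun x => ∃ i, T.β x i ≠ 0),
        T.Y x a * T.Y x a = 9 * (T.β x a * T.β x a) := fun x hx => by
      have := hmov x (Finset.mem_filter.1 hx).2 a
      rw [pow_two, pow_two] at this
      linarith
    rw [Finset.sum_congr rfl h, ← Finset.mul_sum, Finset.sum_filter_of_ne, T.gββ, if_pos rfl]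
    · norm_num
    · intro x _ hne; exact ⟨a, fun h => hne (by rw [h]; ring)⟩
  · refine Finset.sum_eq_zero fun x hx => ?_
    obtain ⟨i, hi⟩ := (Finset.mem_filter.1 hx).2
    by_cases ha : a = i
    · rw [(T.Y_of_beta hi).2.1 b (fun h => hab (ha.trans h.symm)), mul_zero]
    · rw [(T.Y_of_beta hi).2.1 a ha, zero_mul]

/-- The table has `2n + 6` rows, six of them with `j` prime to three. -/
theorem counts (T : Table ι n m) :
    Fintype.card ι = 2 * n + 6 ∧ Nat.card {x : ι // ¬ (3 : ℤ) ∣ T.j x} = 6 := by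
  classical
  set mv : Finset ι := Finset.univ.filter fun x => ∃ i, T.β x i ≠ 0 with hmv
  have hmov : ∀ x, (∃ i, T.β x i ≠ 0) → ∀ i, T.Y x i ^ 2 = 9 * T.β x i ^ 2 := by
    rintro x ⟨i, hi⟩ a
    by_cases ha : a = i
    · subst ha
      rcases T.beta_unit x a with h | h | h
      · exact absurd h hi
      · rw [(T.Y_of_beta hi).1, h]; norm_num
      · rw [(T.Y_of_beta hi).1, h]; norm_num
    · have hb : T.β x a = 0 := by by_contra h; exact ha (T.beta_single x a i h hi)
      rw [(T.Y_of_beta hi).2.1 a ha, hb]; norm_num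
  have hcardmv : mv.card = 2 * n := by
    have hpt : ∀ x, ∑ a, T.β x a ^ 2 = if x ∈ mv then 1 else 0 := by
      intro x
      simp only [hmv, Finset.mem_filter, Finset.mem_univ, true_and]
      split_ifs with h
      · obtain ⟨i, hi⟩ := h
        rw [Fintype.sum_eq_single i fun a ha => by
          have : T.β x a = 0 := by by_contra h; exact ha (T.beta_single x a i h hi)
          rw [this]; norm_num]
        rcases T.beta_unit x i with h | h | h
        · exact absurd h hi
        · rw [h]; norm_num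
        · rw [h]; norm_num
      · push Not at h; simp [h]
    have h1 : ∑ x, ∑ a, T.β x a ^ 2 = 2 * (n : ℤ) := by
      rw [Finset.sum_comm]
      simp only [pow_two, T.gββ, if_true, Finset.sum_const, Finset.card_univ, Fintype.card_fin, nsmul_eq_mul]
      ring
    simp only [hpt, Finset.sum_boole, Finset.filter_univ_mem] at h1
    exact_mod_cast h1
  let F := {x : ι // ∀ i, T.β x i = 0}
  have hFsum : ∀ φ : ι → ℤ, ∑ x : F, φ x.1 = ∑ x, φ x - ∑ x ∈ mv, φ x := by
    intro φ
    rw [eq_sub_iff_add_eq, ← Finset.sum_subtype (Finset.univ.filter fun x => ∀ i, T.β x i = 0)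
      (fun x => by simp) φ, add_comm]
    have hnot : (Finset.univ.filter fun x => ∀ i, T.β x i = 0) =
        Finset.univ.filter fun x => ¬ ∃ i, T.β x i ≠ 0 :=
      Finset.filter_congr fun x _ => by simp
    rw [hnot, hmv, Finset.sum_filter_add_sum_filter_not]
  let z : Fin n ⊕ Fin m → F → ℤ := Sum.elim (fun a x => -(T.Y x.1 a / 2)) (fun a x => T.u x.1 a)
  have hhalf : ∀ (x : F) a, 2 * (T.Y x.1 a / 2) = T.Y x.1 a := fun x a =>
    Int.mul_ediv_cancel' (T.even_Y (x.2 a))
  have humv : ∀ x ∈ mv, ∀ a, T.u x a = 0 := fun x hx a => by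
    obtain ⟨i, hi⟩ := (Finset.mem_filter.1 hx).2
    exact (T.Y_of_beta hi).2.2 a
  have hZ := six_rows z (fun x => T.j x.1)
    (by simp [T.hnm]) (by
    rintro (a | a) (b | b) <;> simp only [z, Sum.elim_inl, Sum.elim_inr, reduceCtorEq, if_false,
      Sum.inl.injEq, Sum.inr.injEq]
    · have h : 4 * ∑ x : F, -(T.Y x.1 a / 2) * -(T.Y x.1 b / 2) = ∑ x : F, T.Y x.1 a * T.Y x.1 b := by
        rw [Finset.mul_sum]
        refine Finset.sum_congr rfl fun x _ => ?_
        nth_rewrite 2 [← hhalf x a]; nth_rewrite 2 [← hhalf x b]; ring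
      rw [hFsum (fun x => T.Y x a * T.Y x b), T.gYY, T.sum_moving a b hmov] at h
      split_ifs at h ⊢ <;> linarith
    · have h : 2 * ∑ x : F, -(T.Y x.1 a / 2) * T.u x.1 b = -∑ x : F, T.Y x.1 a * T.u x.1 b := by
        rw [Finset.mul_sum, ← Finset.sum_neg_distrib]
        refine Finset.sum_congr rfl fun x _ => ?_
        nth_rewrite 2 [← hhalf x a]; ring
      rw [hFsum (fun x => T.Y x a * T.u x b), T.gYu,
        Finset.sum_eq_zero (s := mv) (f := fun x => T.Y x a * T.u x b) fun x hx => by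
          simp only [humv x hx b, mul_zero]] at h
      linarith
    · have h : 2 * ∑ x : F, T.u x.1 a * -(T.Y x.1 b / 2) = -∑ x : F, T.Y x.1 b * T.u x.1 a := by
        rw [Finset.mul_sum, ← Finset.sum_neg_distrib]
        refine Finset.sum_congr rfl fun x _ => ?_
        nth_rewrite 2 [← hhalf x b]; ring
      rw [hFsum (fun x => T.Y x b * T.u x a), T.gYu,
        Finset.sum_eq_zero (s := mv) (f := fun x => T.Y x b * T.u x a) fun x hx => by
          simp only [humv x hx a, mul_zero]] at h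
      linarith
    · rw [hFsum (fun x => T.u x a * T.u x b), T.guu,
        Finset.sum_eq_zero fun x hx => by rw [humv x hx a, zero_mul], sub_zero])
    (by
      rintro (a | a) x <;> simp only [z, Sum.elim_inl, Sum.elim_inr]
      · have h1 := T.congY x.1 a
        have h2 := hhalf x a
        omega
      · exact T.congu x.1 a)
    (by
      intro x
      rcases T.nonzero x.1 with ⟨a, ha⟩ | ⟨a, ha⟩ | ⟨a, ha⟩
      · refine ⟨Sum.inl a, ?_⟩
        simp only [z, Sum.elim_inl]
        intro h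
        have := hhalf x a
        omega
      · exact absurd (x.2 a) ha
      · exact ⟨Sum.inr a, ha⟩)
    ⟨T.one, T.one_beta⟩ T.one_j (by
      simp only [z, Fintype.sum_sum_type, Sum.elim_inl, Sum.elim_inr, T.one_u, neg_sq]
      have h : 4 * ∑ a, (T.Y T.one a / 2) ^ 2 = ∑ a, T.Y T.one a ^ 2 := by
        rw [Finset.mul_sum]
        refine Finset.sum_congr rfl fun a _ => ?_
        nth_rewrite 2 [← hhalf ⟨T.one, T.one_beta⟩ a]; ring
      rw [T.one_Y] at h
      simp
      linarith)
  have hF : (Fintype.card F : ℤ) = Fintype.card ι - mv.card := by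
    have h := hFsum (fun _ => 1)
    simpa using h
  refine ⟨?_, ?_⟩
  · rw [hZ.1, hcardmv] at hF; omega
  · rw [Nat.card_congr (β := F) (Equiv.subtypeEquivRight fun x => ?_), Nat.card_eq_fintype_card, hZ.1]
    exact ⟨fun h i => by by_contra hi; exact h (T.dvd_j_of_beta hi), fun h => hZ.2 ⟨x, h⟩⟩

end Table

end CfsgLib.Blocks.ExtraThree
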