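import Mathlib
import Cfsg.Agent.Lib.Blocks.ExtraThree.Comb

/-!
# From coefficient vectors to the table

The coefficients `a + b ω` of the restrictions to the section of `z`, taken modulo the columns of the
quotient, give a `Table`.
-/

set_option autoImplicit false

namespace CfsgLib.Blocks.ExtraThree

open Finset

/-- The coefficient data. -/
structure Coef (ι Θ : Type*) [Fintype ι] [Fintype Θ] (m : ℕ) where
  v : Fin m → Θ → ℤ
  θ₀ : Θ
  a : ι → Θ → ℤ
  b : ι → Θ → ℤ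
  u : ι → Fin m → ℤ
  j : ι → ℤ
  deg : ι → ℤ
  one : ι
  hm : 1 ≤ m
  cardΘ : Fintype.card Θ = 6 ∨ (Fintype.card Θ = 9 ∧ m = 1 ∧ ∀ k t, v k t = 1 ∨ v k t = -1)
  gvv : ∀ k l, ∑ t, v k t * v l t = if k = l then 9 else 0
  v_ne : ∀ k t, v k t ≠ 0
  v_cong : ∀ k l t, (3 : ℤ) ∣ v k t - v l t
  v_one : ∀ k, v k θ₀ = 1
  /-- nine times the inner product modulo the columns -/
  Φ : (Θ → ℤ) → (Θ → ℤ) → ℤ
  Φ_def : ∀ p q, Φ p q = 9 * ∑ t, p t * q t - ∑ k, (∑ t, v k t * p t) * (∑ t, v k t * q t)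
  gaa : ∀ p q, ∑ x, Φ (a x) p * Φ (a x) q = 18 * Φ p q
  gbb : ∀ p q, ∑ x, Φ (b x) p * Φ (b x) q = 18 * Φ p q
  gab : ∀ p q, ∑ x, Φ (a x) p * Φ (b x) q = 9 * Φ p q
  guu : ∀ k l, ∑ x, u x k * u x l = if k = l then 9 else 0
  gau : ∀ k p, ∑ x, u x k * Φ (a x) p = 0
  gbu : ∀ k p, ∑ x, u x k * Φ (b x) p = 0
  da : ∀ p, ∑ x, deg x * Φ (a x) p = 0
  db : ∀ p, ∑ x, deg x * Φ (b x) p = 0
  du : ∀ k, ∑ x, deg x * u x k = 0
  b_cong : ∀ k x, (3 : ℤ) ∣ ∑ t, v k t * b x t
  a_cong : ∀ k x, (3 : ℤ) ∣ (∑ t, v k t * a x t) - j x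
  u_cong : ∀ k x, (3 : ℤ) ∣ u x k - j x
  one_a : ∀ p, Φ (a one) p = 9 * p θ₀ - ∑ k, ∑ t, v k t * p t
  one_b : ∀ p, Φ (b one) p = 0
  one_u : ∀ k, u one k = 1
  one_j : j one = 1
  one_deg : deg one = 1
  nonzero : ∀ x, (∃ k, u x k ≠ 0) ∨ Φ (a x) (a x) ≠ 0 ∨ Φ (b x) (b x) ≠ 0

namespace Coef

variable {ι Θ : Type*} [Fintype ι] [Fintype Θ] {m : ℕ} (C : Coef ι Θ m)

theorem Φ_comm (p q : Θ → ℤ) : C.Φ p q = C.Φ q p := by
  rw [C.Φ_def, C.Φ_def]
  congr 1
  · congr 1; exact Finset.sum_congr rfl fun t _ => mul_comm _ _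
  · exact Finset.sum_congr rfl fun k _ => mul_comm _ _

theorem Φ_nonneg (p : Θ → ℤ) : 0 ≤ C.Φ p p := by
  have h := C.gaa p p
  have : 0 ≤ ∑ x, C.Φ (C.a x) p * C.Φ (C.a x) p := Finset.sum_nonneg fun x _ => mul_self_nonneg _
  linarith

theorem Φ_null {p : Θ → ℤ} (hp : C.Φ p p = 0) (q : Θ → ℤ) : C.Φ p q = 0 := by
  have h := C.gaa p p
  rw [hp, mul_zero] at h
  have hz := (Finset.sum_eq_zero_iff_of_nonneg (fun x _ => mul_self_nonneg _)).1 h
  have h2 := C.gaa p q
  rw [Finset.sum_eq_zero fun x hx => by rw [mul_self_eq_zero.1 (hz x hx), zero_mul]] at h2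
  linarith

/-- One third of the pairing of a column with `b x`. -/
def t (x : ι) (k : Fin m) : ℤ := (∑ θ, C.v k θ * C.b x θ) / 3

theorem three_t (x : ι) (k : Fin m) : 3 * C.t x k = ∑ θ, C.v k θ * C.b x θ :=
  Int.mul_ediv_cancel' (C.b_cong k x)

/-- The integral form on the vectors `b`. -/
def N (x y : ι) : ℤ := ∑ θ, C.b x θ * C.b y θ - ∑ k, C.t x k * C.t y k

theorem Φ_bb (x y : ι) : C.Φ (C.b x) (C.b y) = 9 * C.N x y := by
  rw [C.Φ_def, N, mul_sub]
  congr 1
  simp only [Finset.mul_sum, ← C.three_t]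
  exact Finset.sum_congr rfl fun k _ => by ring

theorem N_comm (x y : ι) : C.N x y = C.N y x := by
  have h := C.Φ_comm (C.b x) (C.b y)
  rw [C.Φ_bb, C.Φ_bb] at h
  linarith

theorem N_nonneg (x : ι) : 0 ≤ C.N x x := by
  have := C.Φ_nonneg (C.b x)
  rw [C.Φ_bb] at this
  linarith

theorem N_null {x : ι} (h : C.N x x = 0) (y : ι) : C.N x y = 0 := by
  have := C.Φ_null (by rw [C.Φ_bb, h, mul_zero] : C.Φ (C.b x) (C.b x) = 0) (C.b y)
  rw [C.Φ_bb] at this
  linarith

theorem sum_N_sq (x y : ι) : ∑ z, C.N z x * C.N z y = 2 * C.N x y := by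
  have h := C.gbb (C.b x) (C.b y)
  simp only [C.Φ_bb] at h
  have h2 : ∑ z, 9 * C.N z x * (9 * C.N z y) = 81 * ∑ z, C.N z x * C.N z y := by
    rw [Finset.mul_sum]; exact Finset.sum_congr rfl fun z _ => by ring
  rw [h2] at h
  linarith

theorem N_eq_one {x : ι} (h : C.N x x ≠ 0) : C.N x x = 1 := by
  classical
  have h1 := C.sum_N_sq x x
  have hle := Finset.single_le_sum (f := fun z => C.N z x * C.N z x) (fun z _ => mul_self_nonneg _)
    (Finset.mem_univ x)
  rw [h1] at hle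
  have hpos : 0 < C.N x x := lt_of_le_of_ne (C.N_nonneg x) (Ne.symm h)
  have hle2 : C.N x x ≤ 2 := by nlinarith
  by_contra hne
  have h2 : C.N x x = 2 := by omega
  have hoth : ∀ z, z ≠ x → C.N z x = 0 := by
    intro z hz
    have h3 := Finset.add_le_sum (f := fun z => C.N z x * C.N z x) (s := Finset.univ)
      (fun z _ => mul_self_nonneg _) (Finset.mem_univ x) (Finset.mem_univ z) hz.symm
    rw [h1, h2] at h3
    have : C.N z x * C.N z x ≤ 0 := by linarith
    exact mul_self_eq_zero.1 (le_antisymm this (mul_self_nonneg _))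
  have hq : ∀ q, 2 * C.Φ (C.a x) q = C.Φ q (C.b x) := by
    intro q
    have h3 := C.gab q (C.b x)
    rw [Fintype.sum_eq_single x fun z hz => by rw [C.Φ_bb, hoth z hz]; ring, C.Φ_bb, h2] at h3
    linarith
  have e1 := hq (C.a x)
  have e2 := hq (C.b x)
  rw [C.Φ_bb, h2] at e2
  omega

theorem Φ_of_N_ne {x y : ι} (hxy : C.N x y ≠ 0) :
    (C.N x y = 1 ∨ C.N x y = -1) ∧ C.N x x = 1 ∧ C.N y y = 1 ∧
      ∀ q, C.Φ (C.b x) q = C.N x y * C.Φ (C.b y) q := by
  classical
  have hx : C.N x x ≠ 0 := fun h => hxy (C.N_null h y)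
  have hy : C.N y y ≠ 0 := fun h => hxy (by rw [C.N_comm]; exact C.N_null h x)
  have hx1 := C.N_eq_one hx
  have hy1 := C.N_eq_one hy
  have hs : C.N x y = 1 ∨ C.N x y = -1 := by
    have h := Finset.single_le_sum (f := fun z => C.N z y * C.N z y) (fun z _ => mul_self_nonneg _)
      (Finset.mem_univ x)
    rw [C.sum_N_sq, hy1] at h
    have h1 : C.N x y ≤ 1 ∧ -1 ≤ C.N x y := by constructor <;> nlinarith
    omega
  refine ⟨hs, hx1, hy1, fun q => ?_⟩
  set s := C.N x y with hsdef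
  have hlin : ∀ r, C.Φ (fun θ => C.b x θ - s * C.b y θ) r = C.Φ (C.b x) r - s * C.Φ (C.b y) r := by
    intro r
    have e1 : ∀ w : Θ → ℤ, ∑ θ, w θ * (C.b x θ - s * C.b y θ) =
        ∑ θ, w θ * C.b x θ - s * ∑ θ, w θ * C.b y θ := fun w => by
      rw [Finset.mul_sum, ← Finset.sum_sub_distrib]
      exact Finset.sum_congr rfl fun θ _ => by ring
    have e2 : ∑ θ, (C.b x θ - s * C.b y θ) * r θ = ∑ θ, C.b x θ * r θ - s * ∑ θ, C.b y θ * r θ := by
      rw [Finset.mul_sum, ← Finset.sum_sub_distrib]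
      exact Finset.sum_congr rfl fun θ _ => by ring
    simp only [C.Φ_def, e1, e2, sub_mul, Finset.sum_sub_distrib, mul_assoc s, ← Finset.mul_sum]
    ring
  have hnull : C.Φ (fun θ => C.b x θ - s * C.b y θ) (fun θ => C.b x θ - s * C.b y θ) = 0 := by
    rw [hlin, C.Φ_comm (C.b x), C.Φ_comm (C.b y), hlin, hlin, C.Φ_bb, C.Φ_bb, C.Φ_bb, C.Φ_bb, hx1, hy1,
      C.N_comm y x, ← hsdef]
    rcases hs with h | h <;> rw [h] <;> norm_num
  have h := C.Φ_null hnull q
  rw [hlin] at h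
  linarith

/-- Representatives of the pairs. -/
noncomputable def reps : Finset ι := by
  classical
  exact Finset.univ.filter fun x =>
    C.N x x ≠ 0 ∧ ∀ y, C.N x y ≠ 0 → Fintype.equivFin ι x ≤ Fintype.equivFin ι y

theorem mem_reps {x : ι} : x ∈ C.reps ↔
    C.N x x ≠ 0 ∧ ∀ y, C.N x y ≠ 0 → Fintype.equivFin ι x ≤ Fintype.equivFin ι y := by
  classical
  simp [reps]

theorem N_trans {x y z : ι} (hxy : C.N x y ≠ 0) (hyz : C.N y z ≠ 0) : C.N x z ≠ 0 := by
  obtain ⟨-, -, -, h⟩ := C.Φ_of_N_ne hxy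
  have h' := h (C.b z)
  rw [C.Φ_bb, C.Φ_bb] at h'
  intro h0
  rw [h0] at h'
  have : C.N x y * C.N y z = 0 := by linarith
  rcases mul_eq_zero.1 this with h | h <;> contradiction

theorem exists_rep {x : ι} (hx : C.N x x ≠ 0) : ∃ r ∈ C.reps, C.N x r ≠ 0 := by
  classical
  obtain ⟨r, hr, hmin⟩ := Finset.exists_min_image (Finset.univ.filter fun y => C.N x y ≠ 0)
    (Fintype.equivFin ι) ⟨x, by simp [hx]⟩
  have hxr := (Finset.mem_filter.1 hr).2
  refine ⟨r, C.mem_reps.2 ⟨fun h => hxr (by rw [C.N_comm]; exact C.N_null h x), fun y hy => ?_⟩, hxr⟩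
  exact hmin y (Finset.mem_filter.2 ⟨Finset.mem_univ _, C.N_trans hxr hy⟩)

theorem rep_unique {r s : ι} (hr : r ∈ C.reps) (hs : s ∈ C.reps) (h : C.N r s ≠ 0) : r = s :=
  (Fintype.equivFin ι).injective (le_antisymm ((C.mem_reps.1 hr).2 s h)
    ((C.mem_reps.1 hs).2 r (by rwa [C.N_comm])))

theorem sum_rep_sq (x : ι) (q : Θ → ℤ) :
    C.Φ (C.b x) q ^ 2 = ∑ r ∈ C.reps, C.N x r ^ 2 * C.Φ (C.b r) q ^ 2 := by
  classical
  by_cases hx : C.N x x = 0
  · rw [C.Φ_null (by rw [C.Φ_bb, hx, mul_zero]) q, Finset.sum_eq_zero fun r _ => by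
      rw [C.N_null hx r]; ring]
    ring
  obtain ⟨r, hr, hxr⟩ := C.exists_rep hx
  rw [Finset.sum_eq_single_of_mem r hr fun s hs hne => ?_, (C.Φ_of_N_ne hxr).2.2.2 q]
  · ring
  · have : C.N x s = 0 := by
      by_contra h
      exact hne (C.rep_unique hs hr (C.N_trans (by rwa [C.N_comm]) hxr))
    rw [this]; ring

/-- Parseval. -/
theorem parseval (q : Θ → ℤ) : ∑ r ∈ C.reps, C.Φ (C.b r) q ^ 2 = 9 * C.Φ q q := by
  classical
  have h := C.gbb q q
  rw [Finset.sum_congr rfl fun x _ => (pow_two _).symm.trans (C.sum_rep_sq x q)] at h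
  rw [Finset.sum_comm] at h
  have hterm : ∀ r ∈ C.reps, ∑ x, C.N x r ^ 2 * C.Φ (C.b r) q ^ 2 = 2 * C.Φ (C.b r) q ^ 2 := by
    intro r hr
    rw [← Finset.sum_mul]
    congr 1
    simp only [pow_two, C.sum_N_sq]
    rw [C.N_eq_one (C.mem_reps.1 hr).1]; norm_num
  rw [Finset.sum_congr rfl hterm, ← Finset.mul_sum] at h
  linarith

theorem card_reps' : (C.reps.card : ℤ) + m = Fintype.card Θ := by
  classical
  have h := Finset.sum_congr rfl (fun (θ : Θ) (_ : θ ∈ Finset.univ) => C.parseval (Pi.single θ 1))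
  rw [Finset.sum_comm] at h
  have h1 : ∀ r ∈ C.reps, ∑ θ, C.Φ (C.b r) (Pi.single θ 1) ^ 2 = 81 := by
    intro r hr
    have hN := C.N_eq_one (C.mem_reps.1 hr).1
    have hΦ : ∀ θ, C.Φ (C.b r) (Pi.single θ 1) = 9 * C.b r θ - 3 * ∑ k, C.t r k * C.v k θ := by
      intro θ
      rw [C.Φ_def]
      simp [Pi.single_apply, ← C.three_t, Finset.mul_sum, mul_assoc]
    simp only [hΦ, sub_sq, Finset.sum_add_distrib, Finset.sum_sub_distrib]
    have e1 : ∑ θ, (9 * C.b r θ) ^ 2 = 81 * ∑ θ, C.b r θ * C.b r θ := by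
      rw [Finset.mul_sum]; exact Finset.sum_congr rfl fun θ _ => by ring
    have e2 : ∑ θ, 2 * (9 * C.b r θ) * (3 * ∑ k, C.t r k * C.v k θ) = 162 * ∑ k, C.t r k * C.t r k := by
      calc ∑ θ, 2 * (9 * C.b r θ) * (3 * ∑ k, C.t r k * C.v k θ)
          = ∑ k, 54 * C.t r k * ∑ θ, C.v k θ * C.b r θ := by
            simp only [Finset.mul_sum]
            rw [Finset.sum_comm]
            exact Finset.sum_congr rfl fun k _ => Finset.sum_congr rfl fun θ _ => by ring
        _ = _ := by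
            simp only [← C.three_t, Finset.mul_sum]
            exact Finset.sum_congr rfl fun k _ => by ring
    have e3 : ∑ θ, (3 * ∑ k, C.t r k * C.v k θ) ^ 2 = 81 * ∑ k, C.t r k * C.t r k := by
      calc ∑ θ, (3 * ∑ k, C.t r k * C.v k θ) ^ 2
          = ∑ k, ∑ l, 9 * C.t r k * C.t r l * ∑ θ, C.v k θ * C.v l θ := by
            simp only [pow_two, Finset.mul_sum, Finset.sum_mul]
            rw [Finset.sum_comm]
            refine Finset.sum_congr rfl fun k _ => ?_
            rw [Finset.sum_comm]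
            exact Finset.sum_congr rfl fun l _ => Finset.sum_congr rfl fun θ _ => by ring
        _ = _ := by
            simp [C.gvv, Finset.mul_sum, mul_ite]
            exact Finset.sum_congr rfl fun k _ => by ring
    rw [e1, e2, e3]
    rw [N] at hN
    linarith
  rw [Finset.sum_congr rfl h1] at h
  have h2 : ∀ θ, C.Φ (Pi.single θ 1) (Pi.single θ 1) = 9 - ∑ k, C.v k θ * C.v k θ := fun θ => by
    rw [C.Φ_def]; simp [Pi.single_apply]
  simp only [h2, mul_sub, Finset.sum_sub_distrib, Finset.sum_const, Finset.card_univ,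
    ← Finset.mul_sum, nsmul_eq_mul] at h
  rw [Finset.sum_comm] at h
  simp [C.gvv] at h
  omega

theorem two_dvd_of_unit {v : ℤ} (b : ℤ) (hv : v = 1 ∨ v = -1) : (2 : ℤ) ∣ b * b - v * b := by
  rcases hv with h | h <;> subst h
  · rw [one_mul, show b * b - b = (b - 1) * b by ring]
    simpa [mul_comm] using (Int.even_mul_succ_self (b - 1)).two_dvd
  · rw [show b * b - -1 * b = b * (b + 1) by ring]
    exact (Int.even_mul_succ_self b).two_dvd

theorem card_reps : C.reps.card = 6 - m ∧ m ≤ 6 := by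
  have h := C.card_reps'
  rcases C.cardΘ with h6 | ⟨h9, hm1, hv⟩
  · rw [h6] at h; omega
  exfalso
  subst hm1
  obtain ⟨r, hr⟩ : C.reps.Nonempty := Finset.card_pos.1 (by omega)
  have hN := C.N_eq_one (C.mem_reps.1 hr).1
  rw [N] at hN
  have h2 : (2 : ℤ) ∣ ∑ θ, (C.b r θ * C.b r θ - C.v 0 θ * C.b r θ) :=
    Finset.dvd_sum fun θ _ => two_dvd_of_unit _ (hv 0 θ)
  rw [Finset.sum_sub_distrib, ← C.three_t] at h2
  simp only [Fin.sum_univ_one] at hN
  rw [show ∑ θ, C.b r θ * C.b r θ = 1 + C.t r 0 * C.t r 0 by linarith] at h2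
  have h3 := two_dvd_of_unit (C.t r 0) (Or.inl rfl : (1 : ℤ) = 1 ∨ (1 : ℤ) = -1)
  omega

theorem sum_t_ne {r : ι} (hr : r ∈ C.reps) : ¬ (3 : ℤ) ∣ ∑ k, C.t r k := by
  classical
  intro hT
  have hN := C.N_eq_one (C.mem_reps.1 hr).1
  obtain ⟨k₀⟩ : Nonempty (Fin m) := ⟨⟨0, C.hm⟩⟩
  have hd : ∀ θ, (3 : ℤ) ∣ ∑ k, C.t r k * C.v k θ := by
    intro θ
    have h1 : (3 : ℤ) ∣ ∑ k, C.t r k * (C.v k θ - C.v k₀ θ) :=
      Finset.dvd_sum fun k _ => (C.v_cong k k₀ θ).mul_left _
    simp only [mul_sub, Finset.sum_sub_distrib, ← Finset.sum_mul] at h1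
    simpa using dvd_add h1 (hT.mul_right (C.v k₀ θ))
  set b' : Θ → ℤ := fun θ => C.b r θ - (∑ k, C.t r k * C.v k θ) / 3 with hb'
  have h3 : ∀ θ, 3 * b' θ = 3 * C.b r θ - ∑ k, C.t r k * C.v k θ := fun θ => by
    rw [hb', mul_sub, Int.mul_ediv_cancel' (hd θ)]
  have hsum : ∀ l, ∑ θ, C.v l θ * (∑ k, C.t r k * C.v k θ) = 9 * C.t r l := by
    intro l
    simp only [Finset.mul_sum]
    rw [Finset.sum_comm]
    simp only [mul_left_comm _ (C.t r _), ← Finset.mul_sum, C.gvv, mul_ite, mul_zero, Finset.sum_ite_eq,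
      Finset.mem_univ, if_true]
    ring
  have hv : ∀ l, ∑ θ, C.v l θ * b' θ = 0 := by
    intro l
    have h4 : ∑ θ, C.v l θ * (3 * b' θ) = 0 := by
      simp only [h3, mul_sub, Finset.sum_sub_distrib, hsum, mul_left_comm _ (3 : ℤ), ← Finset.mul_sum,
        ← C.three_t]
      ring
    simp only [mul_left_comm _ (3 : ℤ), ← Finset.mul_sum] at h4
    linarith
  have hnorm : ∑ θ, b' θ * b' θ = 1 := by
    have h4 : 9 * ∑ θ, b' θ * b' θ = 9 * C.N r r := by
      rw [Finset.mul_sum]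
      calc ∑ θ, 9 * (b' θ * b' θ) = ∑ θ, (3 * C.b r θ * (3 * b' θ) - (∑ k, C.t r k * C.v k θ) * (3 * b' θ)) :=
            Finset.sum_congr rfl fun θ _ => by
              have := h3 θ
              rw [← sub_mul, ← this]; ring
        _ = _ := by
          rw [Finset.sum_sub_distrib]
          have e1 : ∑ θ, (∑ k, C.t r k * C.v k θ) * (3 * b' θ) = 0 := by
            simp only [Finset.sum_mul]
            rw [Finset.sum_comm]
            refine Finset.sum_eq_zero fun k _ => ?_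
            rw [show (∑ θ, C.t r k * C.v k θ * (3 * b' θ)) = 3 * C.t r k * ∑ θ, C.v k θ * b' θ by
              rw [Finset.mul_sum]; exact Finset.sum_congr rfl fun θ _ => by ring, hv, mul_zero]
          rw [e1, sub_zero]
          simp only [h3, mul_sub, Finset.sum_sub_distrib, N, Finset.mul_sum]
          congr 1
          · exact Finset.sum_congr rfl fun θ _ => by ring
          · rw [Finset.sum_comm]
            refine Finset.sum_congr rfl fun k _ => ?_
            calc ∑ θ, 3 * C.b r θ * (C.t r k * C.v k θ) = 3 * C.t r k * ∑ θ, C.v k θ * C.b r θ := by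
                  rw [Finset.mul_sum]; exact Finset.sum_congr rfl fun θ _ => by ring
              _ = _ := by rw [← C.three_t]; ring
    rw [hN] at h4
    linarith
  obtain ⟨θ, hθ⟩ : ∃ θ, b' θ ≠ 0 := by
    by_contra h
    push Not at h
    simp [h] at hnorm
  have hoth : ∀ θ', θ' ≠ θ → b' θ' = 0 := by
    intro θ' hne
    by_contra h
    have h4 := Finset.add_le_sum (f := fun θ => b' θ * b' θ) (s := Finset.univ)
      (fun z _ => mul_self_nonneg _) (Finset.mem_univ θ) (Finset.mem_univ θ') hne.symm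
    rw [hnorm] at h4
    have := mul_self_pos.2 hθ
    have := mul_self_pos.2 h
    omega
  have h5 := hv k₀
  rw [Fintype.sum_eq_single θ fun x hx => by rw [hoth x hx, mul_zero]] at h5
  rcases mul_eq_zero.1 h5 with h | h
  · exact C.v_ne k₀ θ h
  · exact hθ h

theorem three_y (x : ι) (r : ι) : C.Φ (C.a x) (C.b r) =
    3 * (3 * ∑ θ, C.a x θ * C.b r θ - ∑ k, (∑ θ, C.v k θ * C.a x θ) * C.t r k) := by
  rw [C.Φ_def, mul_sub, Finset.mul_sum, Finset.mul_sum, Finset.mul_sum, Finset.mul_sum]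
  congr 1
  · exact Finset.sum_congr rfl fun θ _ => by ring
  · exact Finset.sum_congr rfl fun k _ => by rw [← C.three_t]; ring

theorem exists_table : ∃ (n : ℕ) (T : Table ι n m), T.j = C.j ∧ n = 6 - m := by
  classical
  obtain ⟨hn, hm6⟩ := C.card_reps
  obtain ⟨e⟩ : Nonempty (Fin (6 - m) ≃ C.reps) :=
    ⟨(Fintype.equivFinOfCardEq (by rw [Fintype.card_coe, hn])).symm⟩
  set r : Fin (6 - m) → ι := fun i => (e i : ι) with hr
  have hrm : ∀ i, r i ∈ C.reps := fun i => (e i).2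
  have hN1 : ∀ i, C.N (r i) (r i) = 1 := fun i => C.N_eq_one (C.mem_reps.1 (hrm i)).1
  have hN0 : ∀ i l, i ≠ l → C.N (r i) (r l) = 0 := fun i l hil => by
    by_contra h
    exact hil (e.injective (Subtype.ext (C.rep_unique (hrm i) (hrm l) h)))
  have hNd : ∀ i l, C.N (r i) (r l) = if i = l then 1 else 0 := fun i l => by
    split_ifs with h
    · subst h; exact hN1 i
    · exact hN0 i l h
  set σ : Fin (6 - m) → ℤ := fun i => if (3 : ℤ) ∣ (∑ k, C.t (r i) k) - 1 then 1 else -1 with hσ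
  have hσ2 : ∀ i, σ i * σ i = 1 := fun i => by simp only [hσ]; split_ifs <;> norm_num
  have hσT : ∀ i, (3 : ℤ) ∣ σ i * (∑ k, C.t (r i) k) - 1 := fun i => by
    have h := C.sum_t_ne (hrm i)
    simp only [hσ]
    split_ifs with h' <;> omega
  set y : ι → Fin (6 - m) → ℤ := fun x i =>
    3 * ∑ θ, C.a x θ * C.b (r i) θ - ∑ k, (∑ θ, C.v k θ * C.a x θ) * C.t (r i) k with hy
  have hΦy : ∀ x i, C.Φ (C.a x) (C.b (r i)) = 3 * y x i := fun x i => C.three_y x (r i)
  set β : ι → Fin (6 - m) → ℤ := fun x i => C.N x (r i) with hβ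
  have hsplit : ∀ (φ : ι → ℤ) i, 3 * ∑ x, φ x * (σ i * (2 * y x i - 3 * β x i)) =
      σ i * (2 * ∑ x, φ x * C.Φ (C.a x) (C.b (r i)) - ∑ x, φ x * C.Φ (C.b x) (C.b (r i))) := by
    intro φ i
    simp only [hΦy, C.Φ_bb, Finset.mul_sum, ← Finset.sum_sub_distrib]
    exact Finset.sum_congr rfl fun x _ => by simp only [hβ]; ring
  have hB : ∀ (φ : ι → ℤ) i, ∑ x, φ x * C.Φ (C.b x) (C.b (r i)) = 9 * ∑ x, φ x * β x i := fun φ i => by
    simp only [C.Φ_bb, Finset.mul_sum]
    exact Finset.sum_congr rfl fun x _ => by simp only [hβ]; ring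
  have hu : ∀ k i, ∑ x, C.u x k * β x i = 0 := fun k i => by
    have h := hB (fun x => C.u x k) i
    rw [C.gbu] at h
    linarith
  have hd : ∀ i, ∑ x, C.deg x * β x i = 0 := fun i => by
    have h := hB C.deg i
    rw [C.db] at h
    linarith
  refine ⟨6 - m,
    { Y := fun x i => σ i * (2 * y x i - 3 * β x i)
      β := β
      u := C.u
      j := C.j
      deg := C.deg
      one := C.one
      hnm := by omega
      hm := C.hm
      gYY := ?_
      gββ := ?_
      guu := C.guu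
      gYβ := ?_
      gYu := ?_
      gβu := ?_
      dY := ?_
      dβ := hd
      du := C.du
      beta_unit := ?_
      beta_single := ?_
      parity := ?_
      congY := ?_
      congu := fun x k => C.u_cong k x
      one_beta := ?_
      one_u := C.one_u
      one_j := C.one_j
      one_deg := C.one_deg
      one_Y := ?_
      nonzero := ?_ }, rfl, rfl⟩
  · intro i l
    have h1 : 9 * ∑ x, σ i * (2 * y x i - 3 * β x i) * (σ l * (2 * y x l - 3 * β x l)) =
        σ i * σ l * (4 * ∑ x, C.Φ (C.a x) (C.b (r i)) * C.Φ (C.a x) (C.b (r l)) -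
          2 * ∑ x, C.Φ (C.a x) (C.b (r i)) * C.Φ (C.b x) (C.b (r l)) -
          2 * ∑ x, C.Φ (C.a x) (C.b (r l)) * C.Φ (C.b x) (C.b (r i)) +
          ∑ x, C.Φ (C.b x) (C.b (r i)) * C.Φ (C.b x) (C.b (r l))) := by
      simp only [hΦy, C.Φ_bb, Finset.mul_sum, ← Finset.sum_sub_distrib, ← Finset.sum_add_distrib]
      exact Finset.sum_congr rfl fun x _ => by simp only [hβ]; ring
    rw [C.gaa, C.gab, C.gab, C.gbb, C.Φ_comm (C.b (r l)), C.Φ_bb, hNd] at h1
    split_ifs at h1 ⊢ with h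
    · subst h; rw [hσ2] at h1; linarith
    · simp at h1; linarith
  · intro i l
    simp only [hβ, C.sum_N_sq, hNd]
    split_ifs <;> norm_num
  · intro i l
    have h := hsplit (fun x => β x l) i
    have h1 : ∑ x, β x l * C.Φ (C.a x) (C.b (r i)) = if i = l then 9 else 0 := by
      have h2 := C.gab (C.b (r i)) (C.b (r l))
      simp only [C.Φ_bb, hNd] at h2
      have h3 : ∑ x, C.Φ (C.a x) (C.b (r i)) * (9 * C.N x (r l)) =
          9 * ∑ x, β x l * C.Φ (C.a x) (C.b (r i)) := by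
        rw [Finset.mul_sum]; exact Finset.sum_congr rfl fun x _ => by simp only [hβ]; ring
      rw [h3] at h2
      split_ifs at h2 ⊢ <;> linarith
    have h4 : ∑ x, β x l * β x i = if i = l then 2 else 0 := by
      simp only [hβ, C.sum_N_sq, C.N_comm (r l), hNd]
      split_ifs <;> norm_num
    rw [h1, hB, h4] at h
    rw [Finset.sum_congr rfl fun x _ => mul_comm (σ i * (2 * y x i - 3 * β x i)) (β x l)]
    split_ifs at h <;> linarith
  · intro i k
    have h := hsplit (fun x => C.u x k) i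
    rw [C.gau, C.gbu] at h
    rw [Finset.sum_congr rfl fun x _ => mul_comm (σ i * (2 * y x i - 3 * β x i)) (C.u x k)]
    linarith
  · intro i k
    rw [Finset.sum_congr rfl fun x _ => mul_comm (β x i) (C.u x k)]
    exact hu k i
  · intro i
    have h := hsplit C.deg i
    rw [C.da, C.db] at h
    linarith
  · intro x i
    by_cases h : C.N x (r i) = 0
    · exact Or.inl h
    · exact Or.inr (C.Φ_of_N_ne h).1
  · intro x i l hi hl
    by_contra hne
    exact C.N_trans (by rw [C.N_comm]; exact hi) hl (hN0 i l hne)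
  · intro x i
    have hodd : Odd (σ i) := by simp only [hσ]; split_ifs <;> decide
    rw [Int.odd_mul, and_iff_right hodd]
    by_cases h : C.N x (r i) = 0
    · simp [hβ, h, parity_simps]
    · simp only [hβ]
      rcases (C.Φ_of_N_ne h).1 with h' | h' <;> rw [h'] <;> simp [parity_simps] <;> norm_num [Int.even_iff]
  · intro x i
    have h1 : (3 : ℤ) ∣ y x i + C.j x * ∑ k, C.t (r i) k := by
      have hd : (3 : ℤ) ∣ ∑ k, ((∑ θ, C.v k θ * C.a x θ) - C.j x) * C.t (r i) k :=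
        Finset.dvd_sum fun k _ => (C.a_cong k x).mul_right _
      simp only [sub_mul, Finset.sum_sub_distrib, ← Finset.mul_sum] at hd
      have : y x i + C.j x * ∑ k, C.t (r i) k = 3 * ∑ θ, C.a x θ * C.b (r i) θ -
          ((∑ k, (∑ θ, C.v k θ * C.a x θ) * C.t (r i) k) - C.j x * ∑ k, C.t (r i) k) := by
        simp only [hy]; ring
      rw [this]
      exact dvd_sub (dvd_mul_right 3 _) hd
    obtain ⟨c, hc⟩ := h1
    obtain ⟨d, hd⟩ := hσT i
    refine ⟨2 * σ i * c - C.j x * (2 * d + 1) - σ i * β x i, ?_⟩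
    linear_combination (2 * σ i) * hc - 2 * C.j x * hd
  · intro i
    have h := C.one_b (C.b (r i))
    rw [C.Φ_bb] at h
    simp only [hβ]
    linarith
  · have hp := C.parseval (C.a C.one)
    rw [← Finset.sum_coe_sort C.reps, ← Equiv.sum_comp e] at hp
    have h1 : ∀ i, C.Φ (C.b (r i)) (C.a C.one) = 3 * y C.one i := fun i => by rw [C.Φ_comm, hΦy]
    have h2 : C.Φ (C.a C.one) (C.a C.one) = 9 - (m : ℤ) := by
      rw [C.one_a]
      have h3 := C.one_a (Pi.single C.θ₀ 1)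
      rw [C.Φ_comm, C.Φ_def] at h3
      simp [Pi.single_apply, C.v_one] at h3
      have hfun : C.Φ (Pi.single C.θ₀ 1) (Pi.single C.θ₀ 1) = 9 - (m : ℤ) := by
        rw [C.Φ_def]; simp [Pi.single_apply, C.v_one]
      have hdiff : ∀ q, C.Φ (C.a C.one) q = C.Φ (Pi.single C.θ₀ 1) q := fun q => by
        rw [C.one_a, C.Φ_def]; simp [Pi.single_apply, C.v_one]
      rw [← C.one_a, hdiff, C.Φ_comm, hdiff, hfun]
    rw [h2] at hp
    have h4 : ∀ i, (σ i * (2 * y C.one i - 3 * β C.one i)) ^ 2 = 4 * y C.one i ^ 2 := fun i => by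
      have : β C.one i = 0 := by
        have h := C.one_b (C.b (r i))
        rw [C.Φ_bb] at h
        simp only [hβ]; linarith
      rw [this, mul_pow, pow_two (σ i), hσ2]; ring
    simp only [h4, ← Finset.mul_sum]
    have h5 : ∑ i, C.Φ (C.b (r i)) (C.a C.one) ^ 2 = 9 * ∑ i, y C.one i ^ 2 := by
      simp only [h1, Finset.mul_sum]; exact Finset.sum_congr rfl fun i _ => by ring
    simp only [hr] at h5
    rw [h5] at hp
    linarith
  · intro x
    rcases C.nonzero x with h | h | h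
    · exact Or.inr (Or.inr h)
    · by_contra hno
      push Not at hno
      refine h ?_
      have hp := C.parseval (C.a x)
      rw [Finset.sum_eq_zero fun s hs => ?_] at hp
      · linarith
      · obtain ⟨i, hi⟩ := e.surjective ⟨s, hs⟩
        have hi' : r i = s := congrArg Subtype.val hi
        have hy0 : y x i = 0 := by
          have h1 := hno.1 i
          rw [hno.2.1 i] at h1
          rcases mul_eq_zero.1 h1 with h' | h'
          · have := hσ2 i; rw [h'] at this; norm_num at this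
          · linarith
        rw [← hi', C.Φ_comm, hΦy, hy0]; norm_num
    · right; left
      obtain ⟨s, hs, hxs⟩ := C.exists_rep (x := x) (fun h0 => h (by rw [C.Φ_bb, h0, mul_zero]))
      obtain ⟨i, hi⟩ := e.surjective ⟨s, hs⟩
      have hi' : r i = s := congrArg Subtype.val hi
      exact ⟨i, by simp only [hβ, hi']; exact hxs⟩

/-- The counts. -/
theorem counts : Fintype.card ι = 2 * (6 - m) + 6 ∧ Nat.card {x : ι // ¬ (3 : ℤ) ∣ C.j x} = 6 := by
  obtain ⟨n, T, hj, rfl⟩ := C.exists_table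
  rw [← hj]
  exact T.counts

end Coef

end CfsgLib.Blocks.ExtraThree
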