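import Mathlib
import Cfsg.Prelude.Def_Transfer
import Cfsg.Agent.Lib.Transfer.Frobenius

/-!
# Fusion in an extraspecial Sylow subgroup of order 27 centralized in its centre by its normalizer

* `not_conj_z`, `fusion`: `N(P)` controls fusion, the centre is not fused;
* `relIndex_centralizer`, `exists_reps`: there are `8 / e` classes of noncentral elements;
* `complement_centralizer`: their centralizers have normal 3-complements;
* `conj_inv`: for even `e` these elements are real.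
-/

set_option autoImplicit false

namespace CfsgLib.Blocks.ExtraThree

open Subgroup
open scoped commutatorElement

variable {G : Type*} [Group G] [Finite G]

/-- A Sylow subgroup of order 27 with centre generated by `z`, centralized by the normalizer. -/
structure Setup (P : Sylow 3 G) where
  z : G
  hzP : z ∈ (P : Subgroup G)
  hz1 : z ≠ 1
  hzc : ∀ y ∈ (P : Subgroup G), z * y = y * z
  hcen : ∀ w ∈ (P : Subgroup G), (∀ y ∈ (P : Subgroup G), w * y = y * w) → w ∈ zpowers z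
  hcomm : ∀ a ∈ (P : Subgroup G), ∀ b ∈ (P : Subgroup G), ⁅a, b⁆ ∈ zpowers z
  h27 : Nat.card (P : Subgroup G) = 27
  hexp : ∀ x ∈ (P : Subgroup G), x ^ 3 = 1
  hN : ∀ n ∈ normalizer ((P : Subgroup G) : Set G), n * z * n⁻¹ = z

/-- An extraspecial group of order 27 gives a `Setup`. -/
theorem exists_setup (P : Sylow 3 G) (hE : Cfsg.IsExtraspecial 3 ↥(P : Subgroup G))
    (h27 : Nat.card ↥(P : Subgroup G) = 27) (hexp : ∀ x ∈ (P : Subgroup G), x ^ 3 = 1)
    (hNC : ∀ g ∈ normalizer ((P : Subgroup G) : Set G), ∀ z ∈ (P : Subgroup G),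
      (∀ y ∈ (P : Subgroup G), z * y = y * z) → g * z = z * g) : Nonempty (Setup P) := by
  obtain ⟨⟨-, -, hc⟩, hcard⟩ := hE
  haveI : Nontrivial (center (P : Subgroup G)) := Finite.one_lt_card_iff_nontrivial.1 (by omega)
  obtain ⟨⟨⟨z, hzP⟩, hz⟩, hne⟩ := exists_ne (1 : center (P : Subgroup G))
  have hz1 : z ≠ 1 := fun h => hne (Subtype.ext (Subtype.ext h))
  have hzc : ∀ y ∈ (P : Subgroup G), z * y = y * z := fun y hy =>
    (congrArg Subtype.val (mem_center_iff.1 hz ⟨y, hy⟩)).symm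
  haveI : Fact (Nat.Prime 3) := ⟨by norm_num⟩
  have htop : ∀ w ∈ center (P : Subgroup G), (w : G) ∈ zpowers z := by
    intro w hw
    have h := mem_zpowers_of_prime_card (G := center (P : Subgroup G)) hcard hne (g' := ⟨w, hw⟩)
    obtain ⟨k, hk⟩ := h
    refine ⟨k, ?_⟩
    have hk' := congrArg (fun c : center (P : Subgroup G) => ((c : (P : Subgroup G)) : G)) hk
    simpa using hk'
  refine ⟨⟨z, hzP, hz1, hzc, fun w hw h => htop ⟨w, hw⟩ ?_, fun a ha b hb => ?_, h27, hexp,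
    fun n hn => mul_inv_eq_iff_eq_mul.2 (hNC n hn z hzP hzc)⟩⟩
  · exact mem_center_iff.2 fun y => Subtype.ext (h y y.2).symm
  · have hm : ⁅(⟨a, ha⟩ : (P : Subgroup G)), ⟨b, hb⟩⁆ ∈ center (P : Subgroup G) :=
      hc ▸ Subgroup.commutator_mem_commutator (mem_top _) (mem_top _)
    have := htop _ hm
    simpa [commutatorElement_def] using this

/-- Sylow's theorem inside a subgroup. -/
theorem exists_conj_le_of_max {p : ℕ} [Fact p.Prime] {K A B : Subgroup G} (hAK : A ≤ K) (hBK : B ≤ K)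
    (hA : IsPGroup p A) (hB : IsPGroup p B)
    (hmax : ∀ C : Subgroup G, C ≤ K → IsPGroup p C → Nat.card C ≤ Nat.card B) :
    ∃ c ∈ K, ∀ a ∈ A, c * a * c⁻¹ ∈ B := by
  obtain ⟨S, hS⟩ := (hA.of_equiv (subgroupOfEquivOfLe hAK).symm).exists_le_sylow
  obtain ⟨T, hT⟩ := (hB.of_equiv (subgroupOfEquivOfLe hBK).symm).exists_le_sylow
  have hTB : (T : Subgroup K) = B.subgroupOf K := by
    refine (Subgroup.eq_of_le_of_card_ge hT ?_).symm
    rw [Nat.card_congr (subgroupOfEquivOfLe hBK).toEquiv,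
      Nat.card_congr (Subgroup.equivMapOfInjective (T : Subgroup K) K.subtype K.subtype_injective).toEquiv]
    exact hmax _ (map_subtype_le _) (T.2.map _)
  obtain ⟨c, hc⟩ := MulAction.exists_smul_eq K S T
  refine ⟨c, c.2, fun a ha => ?_⟩
  have hm : c * ⟨a, hAK ha⟩ * c⁻¹ ∈ ((c • S : Sylow p K) : Subgroup K) := by
    rw [Sylow.coe_subgroup_smul]
    exact ⟨_, hS (by simpa [mem_subgroupOf] using ha), rfl⟩
  rw [hc, hTB, mem_subgroupOf] at hm
  exact hm

theorem relIndex_centralizer_eq (K : Subgroup G) (x : G) :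
    (K ⊓ centralizer ({x} : Set G)).relIndex K = Nat.card {w : G // ∃ k ∈ K, k * x * k⁻¹ = w} := by
  classical
  rw [Subgroup.relIndex, Subgroup.index_eq_card]
  refine Nat.card_congr (Equiv.ofBijective
    (fun q => ⟨(q.out : G) * x * (q.out : G)⁻¹, q.out, q.out.2, rfl⟩) ⟨fun p q h => ?_, fun w => ?_⟩)
  · have h' : (p.out : G) * x * (p.out : G)⁻¹ = (q.out : G) * x * (q.out : G)⁻¹ := congrArg Subtype.val h
    rw [← QuotientGroup.out_eq' p, ← QuotientGroup.out_eq' q, QuotientGroup.eq, mem_subgroupOf]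
    refine ⟨(p.out⁻¹ * q.out).2, mem_centralizer_singleton_iff.2 ?_⟩
    rw [Subgroup.coe_mul, Subgroup.coe_inv]
    calc (p.out : G)⁻¹ * q.out * x = (p.out : G)⁻¹ * ((q.out : G) * x * (q.out : G)⁻¹) * q.out := by group
      _ = (p.out : G)⁻¹ * ((p.out : G) * x * (p.out : G)⁻¹) * q.out := by rw [h']
      _ = _ := by group
  · obtain ⟨w, k, hk, rfl⟩ := w
    refine ⟨QuotientGroup.mk ⟨k, hk⟩, Subtype.ext ?_⟩
    obtain ⟨⟨c, hc⟩, he⟩ := QuotientGroup.mk_out_eq_mul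
      ((K ⊓ centralizer ({x} : Set G)).subgroupOf K) ⟨k, hk⟩
    show ((QuotientGroup.mk (⟨k, hk⟩ : K) : K ⧸ _).out : G) * x * _⁻¹ = k * x * k⁻¹
    rw [he]
    have hcx : (c : G) * x = x * c := mem_centralizer_singleton_iff.1 (mem_subgroupOf.1 hc).2
    simp only [Subgroup.coe_mul]
    calc k * c * x * (k * c)⁻¹ = k * (c * x) * (c : G)⁻¹ * k⁻¹ := by group
      _ = k * (x * c) * (c : G)⁻¹ * k⁻¹ := by rw [hcx]
      _ = _ := by group

namespace Setup

variable {P : Sylow 3 G} (D : Setup P)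

instance fact_three : Fact (Nat.Prime 3) := ⟨by norm_num⟩

theorem orderOf_z : orderOf D.z = 3 := orderOf_eq_prime (D.hexp _ D.hzP) D.hz1

theorem card_zpowers_z : Nat.card (zpowers D.z) = 3 := by rw [Nat.card_zpowers, D.orderOf_z]

theorem zpowers_le : zpowers D.z ≤ (P : Subgroup G) := Subgroup.zpowers_le.2 D.hzP

theorem comm_zpowers {w y : G} (hw : w ∈ zpowers D.z) (hy : y ∈ (P : Subgroup G)) : w * y = y * w := by
  obtain ⟨k, rfl⟩ := hw
  exact ((show Commute D.z y from D.hzc y hy).zpow_left k).eq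

theorem mem_zpowers_cases {w : G} (hw : w ∈ zpowers D.z) : w = 1 ∨ w = D.z ∨ w = D.z⁻¹ := by
  classical
  rw [(isOfFinOrder_of_finite D.z).mem_zpowers_iff_mem_range_orderOf, D.orderOf_z] at hw
  simp only [Finset.mem_image, Finset.mem_range] at hw
  obtain ⟨k, hk, rfl⟩ := hw
  interval_cases k
  · simp
  · simp
  · right; right
    rw [eq_inv_iff_mul_eq_one, ← pow_succ]
    exact D.hexp _ D.hzP

/-- An element of the centre of `P` is only conjugate to itself within the centre. -/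
theorem central_conj {w g : G} (hwP : w ∈ (P : Subgroup G))
    (hwc : ∀ y ∈ (P : Subgroup G), w * y = y * w) (hg : g * D.z * g⁻¹ = w) : w = D.z := by
  obtain ⟨c, hc, hcP⟩ := exists_conj_le_of_max (p := 3) (K := centralizer ({w} : Set G))
    (A := (P : Subgroup G).map (MulAut.conj g).toMonoidHom) (B := (P : Subgroup G))
    (by
      rintro _ ⟨y, hy, rfl⟩
      rw [mem_centralizer_singleton_iff]
      simp only [MulEquiv.coe_toMonoidHom, MulAut.conj_apply, ← hg]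
      calc g * y * g⁻¹ * (g * D.z * g⁻¹) = g * (y * D.z) * g⁻¹ := by group
        _ = g * (D.z * y) * g⁻¹ := by rw [D.hzc y hy]
        _ = _ := by group)
    (fun y hy => mem_centralizer_singleton_iff.2 (hwc y hy).symm) (P.2.map _) P.2
    (fun C _ hC => by
      obtain ⟨Q, hQ⟩ := hC.exists_le_sylow
      exact (card_le_of_le hQ).trans_eq (Q.card_eq_multiplicity.trans P.card_eq_multiplicity.symm))
  have hn : c * g ∈ normalizer ((P : Subgroup G) : Set G) := by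
    refine mem_normalizer_fintype fun y hy => ?_
    have := hcP _ ⟨y, hy, rfl⟩
    show _ ∈ (P : Subgroup G)
    simpa [mul_assoc] using this
  have h := D.hN _ hn
  rw [show c * g * D.z * (c * g)⁻¹ = c * (g * D.z * g⁻¹) * c⁻¹ by group, hg,
    mem_centralizer_singleton_iff.1 hc, mul_inv_cancel_right] at h
  exact h

theorem exists_noncomm {x : G} (hx : x ∈ (P : Subgroup G)) (hxZ : x ∉ zpowers D.z) :
    ∃ y ∈ (P : Subgroup G), y * x ≠ x * y := by
  by_contra h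
  push Not at h
  exact hxZ (D.hcen x hx fun y hy => (h y hy).symm)

/-- Conjugation by an element of `P` multiplies by a power of `z`. -/
theorem conj_mem_coset {x y : G} (hx : x ∈ (P : Subgroup G)) (hy : y ∈ (P : Subgroup G)) :
    x⁻¹ * (y * x * y⁻¹) ∈ zpowers D.z := by
  have h := D.hcomm x⁻¹ (inv_mem hx) y hy
  rw [commutatorElement_def, inv_inv] at h
  simpa [mul_assoc] using h

theorem conj_pow {x y : G} {u : G} (hy : y ∈ (P : Subgroup G)) (hu : u ∈ zpowers D.z)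
    (h : y * x * y⁻¹ = x * u) (k : ℕ) : y ^ k * x * (y ^ k)⁻¹ = x * u ^ k := by
  induction k with
  | zero => simp
  | succ k ih =>
    calc y ^ (k + 1) * x * (y ^ (k + 1))⁻¹ = y * (y ^ k * x * (y ^ k)⁻¹) * y⁻¹ := by
          rw [pow_succ']; group
      _ = (y * x * y⁻¹) * (y * u ^ k * y⁻¹) := by rw [ih]; group
      _ = x * u * u ^ k := by
          rw [h, ← D.comm_zpowers (pow_mem hu k) hy, mul_inv_cancel_right]
      _ = _ := by rw [mul_assoc, ← pow_succ']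

theorem exists_conj_eq {x y w : G} (hx : x ∈ (P : Subgroup G)) (hy : y ∈ (P : Subgroup G))
    (hxy : y * x ≠ x * y) (hw : w ∈ zpowers D.z) : ∃ k : ℕ, y ^ k * x * (y ^ k)⁻¹ = x * w := by
  set u := x⁻¹ * (y * x * y⁻¹) with hu
  have huz : u ∈ zpowers D.z := D.conj_mem_coset hx hy
  have hu1 : u ≠ 1 := fun h => hxy (by
    rw [hu, inv_mul_eq_one] at h
    exact (eq_mul_inv_iff_mul_eq.1 h).symm)
  have hgen : w ∈ zpowers u := by
    have h := mem_zpowers_of_prime_card (G := zpowers D.z) D.card_zpowers_z (g := ⟨u, huz⟩)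
      (fun h => hu1 (congrArg Subtype.val h)) (g' := ⟨w, hw⟩)
    obtain ⟨k, hk⟩ := h
    exact ⟨k, by simpa using congrArg Subtype.val hk⟩
  obtain ⟨k, rfl⟩ := (isOfFinOrder_of_finite u).mem_powers_iff_mem_zpowers.2 hgen
  exact ⟨k, D.conj_pow hy huz (by rw [hu, mul_inv_cancel_left]) k⟩

theorem exists_conj_coset {x w : G} (hx : x ∈ (P : Subgroup G)) (hxZ : x ∉ zpowers D.z)
    (hw : x⁻¹ * w ∈ zpowers D.z) : ∃ y ∈ (P : Subgroup G), y * x * y⁻¹ = w := by
  obtain ⟨y, hy, hxy⟩ := D.exists_noncomm hx hxZ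
  obtain ⟨k, hk⟩ := D.exists_conj_eq hx hy hxy hw
  exact ⟨y ^ k, pow_mem hy k, by rw [hk, mul_inv_cancel_left]⟩

/-- The centralizer in `P` of a noncentral element. -/
theorem card_inf_centralizer {x : G} (hx : x ∈ (P : Subgroup G)) (hxZ : x ∉ zpowers D.z) :
    Nat.card ((P : Subgroup G) ⊓ centralizer ({x} : Set G) : Subgroup G) = 9 ∧
      ∀ w, w ∈ (P : Subgroup G) → w * x = x * w → ∃ a : ℕ, ∃ u ∈ zpowers D.z, w = x ^ a * u := by
  classical
  set V := (P : Subgroup G) ⊓ centralizer ({x} : Set G) with hV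
  have hdvd : Nat.card V ∣ 27 := D.h27 ▸ card_dvd_of_le inf_le_left
  have hlt : Nat.card V ≠ 27 := by
    intro h
    obtain ⟨y, hy, hyx⟩ := D.exists_noncomm hx hxZ
    have he : V = (P : Subgroup G) := Subgroup.eq_of_le_of_card_ge inf_le_left (by rw [h, D.h27])
    exact hyx (mem_centralizer_singleton_iff.1 (he ▸ hy : y ∈ V).2)
  let f : Fin 3 × zpowers D.z → V := fun q => ⟨x ^ (q.1 : ℕ) * (q.2 : G),
    mul_mem (pow_mem hx _) (D.zpowers_le q.2.2), mem_centralizer_singleton_iff.2 (by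
      rw [mul_assoc, D.comm_zpowers q.2.2 hx, ← mul_assoc, ← mul_assoc, ← pow_succ, ← pow_succ'])⟩
  have hf : Function.Injective f := by
    have key : ∀ i j : ℕ, i < j → j < 3 → ∀ a ∈ zpowers D.z, ∀ b ∈ zpowers D.z,
        x ^ i * a = x ^ j * b → False := by
      intro i j hij hj a ha b hb h
      apply hxZ
      have h2 : x ^ (j - i) = a * b⁻¹ := by
        have : x ^ j = x ^ i * x ^ (j - i) := by rw [← pow_add]; congr 1; omega
        rw [this, mul_assoc] at h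
        rw [mul_left_cancel h, mul_inv_cancel_right]
      have h3 : x ^ (j - i) ∈ zpowers D.z := h2 ▸ mul_mem ha (inv_mem hb)
      have hd : j - i = 1 ∨ j - i = 2 := by omega
      rcases hd with hd | hd <;> rw [hd] at h3
      · simpa using h3
      · have : x = (x ^ 2)⁻¹ := by
          rw [eq_inv_iff_mul_eq_one, ← pow_succ']; exact D.hexp x hx
        rw [this]; exact inv_mem h3
    rintro ⟨i, a⟩ ⟨j, b⟩ h
    have h' : x ^ (i : ℕ) * (a : G) = x ^ (j : ℕ) * (b : G) := congrArg Subtype.val h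
    rcases lt_trichotomy (i : ℕ) (j : ℕ) with hl | he | hl
    · exact (key _ _ hl j.2 _ a.2 _ b.2 h').elim
    · rw [he] at h'
      exact Prod.ext (Fin.ext he) (Subtype.ext (mul_left_cancel h'))
    · exact (key _ _ hl i.2 _ b.2 _ a.2 h'.symm).elim
  have h9 : 9 ≤ Nat.card V := by
    have := Nat.card_le_card_of_injective f hf
    simpa [D.card_zpowers_z] using this
  obtain ⟨k, hk, hk'⟩ := (Nat.dvd_prime_pow (by norm_num : Nat.Prime 3) (m := 3)).1 (by simpa using hdvd)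
  have hV9 : Nat.card V = 9 := by
    interval_cases k <;> omega
  refine ⟨hV9, fun w hw hwx => ?_⟩
  have hbij := hf.bijective_of_nat_card_le (by simp [hV9, D.card_zpowers_z])
  obtain ⟨⟨i, a⟩, hq⟩ := hbij.2 ⟨w, hw, mem_centralizer_singleton_iff.2 hwx⟩
  exact ⟨i, a, a.2, (congrArg Subtype.val hq).symm⟩

/-- `z` is not conjugate to any other element of `P`. -/
theorem not_conj_z {g w : G} (hw : w ∈ (P : Subgroup G)) (hg : g * D.z * g⁻¹ = w) : w = D.z := by
  by_cases hwZ : w ∈ zpowers D.z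
  · exact D.central_conj hw (fun y hy => D.comm_zpowers hwZ hy) hg
  exfalso
  -- move `g` so that `z` lies in the conjugate of `P`
  have hK : ∀ C : Subgroup G, C ≤ centralizer ({w} : Set G) → IsPGroup 3 C →
      Nat.card C ≤ Nat.card ((P : Subgroup G).map (MulAut.conj g).toMonoidHom) := by
    intro C _ hC
    obtain ⟨Q, hQ⟩ := hC.exists_le_sylow
    rw [Subgroup.card_map_of_injective (MulEquiv.injective _)]
    exact (card_le_of_le hQ).trans_eq (Q.card_eq_multiplicity.trans P.card_eq_multiplicity.symm)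
  obtain ⟨c, hc, hcz⟩ := exists_conj_le_of_max (p := 3) (K := centralizer ({w} : Set G))
    (A := zpowers D.z) (B := (P : Subgroup G).map (MulAut.conj g).toMonoidHom)
    (Subgroup.zpowers_le.2 (mem_centralizer_singleton_iff.2 (D.hzc w hw)))
    (by
      rintro _ ⟨y, hy, rfl⟩
      rw [mem_centralizer_singleton_iff]
      simp only [MulEquiv.coe_toMonoidHom, MulAut.conj_apply, ← hg]
      calc g * y * g⁻¹ * (g * D.z * g⁻¹) = g * (y * D.z) * g⁻¹ := by group
        _ = g * (D.z * y) * g⁻¹ := by rw [D.hzc y hy]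
        _ = _ := by group)
    (P.2.to_le D.zpowers_le) (P.2.map _) hK
  have hcw : c * w = w * c := mem_centralizer_singleton_iff.1 hc
  obtain ⟨g₁, hg₁, z₁, hz₁, hzz⟩ : ∃ g₁, g₁ * D.z * g₁⁻¹ = w ∧ ∃ z₁ ∈ (P : Subgroup G),
      g₁ * z₁ * g₁⁻¹ = D.z := by
    obtain ⟨z₁, hz₁, hzz⟩ := hcz D.z (mem_zpowers _)
    simp only [MulEquiv.coe_toMonoidHom, MulAut.conj_apply] at hzz
    refine ⟨c⁻¹ * g, ?_, z₁, hz₁, ?_⟩
    · calc c⁻¹ * g * D.z * (c⁻¹ * g)⁻¹ = c⁻¹ * (g * D.z * g⁻¹) * c := by group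
        _ = c⁻¹ * (w * c) := by rw [hg]; group
        _ = _ := by rw [← hcw]; group
    · calc c⁻¹ * g * z₁ * (c⁻¹ * g)⁻¹ = c⁻¹ * (g * z₁ * g⁻¹) * c := by group
        _ = _ := by rw [hzz]; group
  clear hg hcz hK hcw
  have hz₁Z : z₁ ∉ zpowers D.z := by
    intro h
    apply hwZ
    rcases D.mem_zpowers_cases h with h' | h' | h'
    · rw [h', mul_one, mul_inv_cancel] at hzz; exact absurd hzz.symm D.hz1
    · rw [h', hg₁] at hzz; exact hzz ▸ mem_zpowers _
    · rw [h', show g₁ * D.z⁻¹ * g₁⁻¹ = (g₁ * D.z * g₁⁻¹)⁻¹ by group, hg₁, inv_eq_iff_eq_inv] at hzz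
      exact hzz ▸ inv_mem (mem_zpowers _)
  -- an element fixing `w` and sending `z` to `z * w⁻¹`
  obtain ⟨v, hv, hv1⟩ : ∃ v ∈ (P : Subgroup G), v * z₁ * v⁻¹ = z₁ * D.z⁻¹ :=
    D.exists_conj_coset hz₁ hz₁Z (by rw [inv_mul_cancel_left]; exact inv_mem (mem_zpowers _))
  set W := g₁ * v * g₁⁻¹ with hW
  have hWw : W * w * W⁻¹ = w := by
    rw [hW, ← hg₁]
    calc g₁ * v * g₁⁻¹ * (g₁ * D.z * g₁⁻¹) * (g₁ * v * g₁⁻¹)⁻¹ = g₁ * (v * D.z) * v⁻¹ * g₁⁻¹ := by group
      _ = g₁ * (D.z * v) * v⁻¹ * g₁⁻¹ := by rw [D.hzc v hv]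
      _ = _ := by group
  have hWz : W * D.z * W⁻¹ = D.z * w⁻¹ := by
    calc W * D.z * W⁻¹ = g₁ * v * g₁⁻¹ * (g₁ * z₁ * g₁⁻¹) * (g₁ * v * g₁⁻¹)⁻¹ := by rw [hW, hzz]
      _ = g₁ * (v * z₁ * v⁻¹) * g₁⁻¹ := by group
      _ = (g₁ * z₁ * g₁⁻¹) * (g₁ * D.z * g₁⁻¹)⁻¹ := by rw [hv1]; group
      _ = _ := by rw [hzz, hg₁]
  obtain ⟨U, hUP, hUw⟩ : ∃ U ∈ (P : Subgroup G), U * w * U⁻¹ = w * D.z :=
    D.exists_conj_coset hw hwZ (by rw [inv_mul_cancel_left]; exact mem_zpowers _)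
  have hUz : U * D.z * U⁻¹ = D.z := by rw [← D.hzc U hUP, mul_inv_cancel_right]
  have hwz : w * D.z = D.z * w := (D.hzc w hw).symm
  have hwz' : w⁻¹ * D.z = D.z * w⁻¹ := (Commute.inv_left hwz).eq
  set s := U * W * U with hs
  have hsz : s * D.z * s⁻¹ = w⁻¹ := by
    calc s * D.z * s⁻¹ = U * (W * (U * D.z * U⁻¹) * W⁻¹) * U⁻¹ := by rw [hs]; group
      _ = U * (D.z * w⁻¹) * U⁻¹ := by rw [hUz, hWz]
      _ = (U * D.z * U⁻¹) * (U * w * U⁻¹)⁻¹ := by group
      _ = _ := by rw [hUz, hUw, mul_inv_rev, mul_inv_cancel_left]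
  have hsw : s * w * s⁻¹ = D.z := by
    calc s * w * s⁻¹ = U * (W * (U * w * U⁻¹) * W⁻¹) * U⁻¹ := by rw [hs]; group
      _ = U * ((W * w * W⁻¹) * (W * D.z * W⁻¹)) * U⁻¹ := by rw [hUw]; group
      _ = U * (w * (D.z * w⁻¹)) * U⁻¹ := by rw [hWw, hWz]
      _ = _ := by rw [← hwz', mul_inv_cancel_left, hUz]
  set t := s * s with ht
  have htz : t * D.z * t⁻¹ = D.z⁻¹ := by
    calc t * D.z * t⁻¹ = s * (s * D.z * s⁻¹) * s⁻¹ := by rw [ht]; group
      _ = (s * w * s⁻¹)⁻¹ := by rw [hsz]; group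
      _ = _ := by rw [hsw]
  have htw : t * w * t⁻¹ = w⁻¹ := by
    calc t * w * t⁻¹ = s * (s * w * s⁻¹) * s⁻¹ := by rw [ht]; group
      _ = _ := by rw [hsw, hsz]
  -- the stabilizer of `z` and of the coset of `w`
  let H : Subgroup G :=
    { carrier := {h | h * D.z * h⁻¹ = D.z ∧ w⁻¹ * (h * w * h⁻¹) ∈ zpowers D.z}
      one_mem' := ⟨by group, by simp⟩
      mul_mem' := fun {a b} ⟨ha1, ha2⟩ ⟨hb1, hb2⟩ => ⟨by
        calc a * b * D.z * (a * b)⁻¹ = a * (b * D.z * b⁻¹) * a⁻¹ := by group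
          _ = _ := by rw [hb1, ha1], by
        obtain ⟨i, hi⟩ := hb2
        have hb' : b * w * b⁻¹ = w * D.z ^ i := by
          rw [show D.z ^ i = w⁻¹ * (b * w * b⁻¹) from hi, mul_inv_cancel_left]
        have : w⁻¹ * (a * b * w * (a * b)⁻¹) = (w⁻¹ * (a * w * a⁻¹)) * (a * D.z * a⁻¹) ^ i := by
          calc w⁻¹ * (a * b * w * (a * b)⁻¹) = w⁻¹ * (a * (b * w * b⁻¹) * a⁻¹) := by group
            _ = w⁻¹ * (a * w * a⁻¹) * (a * D.z ^ i * a⁻¹) := by rw [hb']; group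
            _ = _ := by rw [conj_zpow]
        rw [this, ha1]
        exact mul_mem ha2 (zpow_mem (mem_zpowers _) i)⟩
      inv_mem' := fun {a} ⟨ha1, ha2⟩ => by
        have hai : a⁻¹ * D.z * a⁻¹⁻¹ = D.z := by
          nth_rewrite 1 [← ha1]; group
        refine ⟨hai, ?_⟩
        obtain ⟨i, hi⟩ := ha2
        have : w⁻¹ * (a⁻¹ * w * a⁻¹⁻¹) = (a⁻¹ * D.z * a⁻¹⁻¹) ^ (-i) := by
          rw [conj_zpow, zpow_neg, show D.z ^ i = w⁻¹ * (a * w * a⁻¹) from hi]; group
        rw [this, hai]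
        exact zpow_mem (mem_zpowers _) _ }
  have hmemH : ∀ h, h ∈ H ↔ h * D.z * h⁻¹ = D.z ∧ w⁻¹ * (h * w * h⁻¹) ∈ zpowers D.z := fun h => Iff.rfl
  have hPH : (P : Subgroup G) ≤ H := fun y hy =>
    (hmemH y).2 ⟨by rw [← D.hzc y hy, mul_inv_cancel_right], D.conj_mem_coset hw hy⟩
  have hPH' : (P : Subgroup G).map (MulAut.conj t).toMonoidHom ≤ H := by
    rintro _ ⟨y, hy, rfl⟩
    simp only [MulEquiv.coe_toMonoidHom, MulAut.conj_apply]
    obtain ⟨hy1, hy2⟩ := (hmemH y).1 (hPH hy)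
    have ht' : t⁻¹ * D.z * t = D.z⁻¹ := by
      calc t⁻¹ * D.z * t = t⁻¹ * (t * D.z * t⁻¹)⁻¹ * t := by rw [htz, inv_inv]
        _ = _ := by group
    have ht'' : t⁻¹ * w * t = w⁻¹ := by
      calc t⁻¹ * w * t = t⁻¹ * (t * w * t⁻¹)⁻¹ * t := by rw [htw, inv_inv]
        _ = _ := by group
    refine (hmemH _).2 ⟨?_, ?_⟩
    · calc t * y * t⁻¹ * D.z * (t * y * t⁻¹)⁻¹ = t * y * (t⁻¹ * D.z * t) * y⁻¹ * t⁻¹ := by group
        _ = t * (y * D.z * y⁻¹)⁻¹ * t⁻¹ := by rw [ht']; group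
        _ = (t * D.z * t⁻¹)⁻¹ := by rw [hy1]; group
        _ = _ := by rw [htz, inv_inv]
    · obtain ⟨i, hi⟩ := hy2
      have hyw : y * w * y⁻¹ = w * D.z ^ i := by
        rw [show D.z ^ i = w⁻¹ * (y * w * y⁻¹) from hi, mul_inv_cancel_left]
      have : t * y * t⁻¹ * w * (t * y * t⁻¹)⁻¹ = (t * D.z * t⁻¹) ^ (-i) * (t * w * t⁻¹)⁻¹ := by
        calc t * y * t⁻¹ * w * (t * y * t⁻¹)⁻¹ = t * y * (t⁻¹ * w * t) * y⁻¹ * t⁻¹ := by group
          _ = t * (y * w * y⁻¹)⁻¹ * t⁻¹ := by rw [ht'']; group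
          _ = _ := by rw [hyw, conj_zpow]; group
      rw [this, htz, htw, inv_inv]
      have hcm : (D.z⁻¹) ^ (-i) * w = w * (D.z⁻¹) ^ (-i) :=
        D.comm_zpowers (zpow_mem (inv_mem (mem_zpowers _)) _) hw
      rw [hcm, inv_mul_cancel_left]
      exact zpow_mem (inv_mem (mem_zpowers _)) _
  obtain ⟨d, hd, hdP⟩ := exists_conj_le_of_max (p := 3) hPH' hPH (P.2.map _) P.2 (fun C _ hC => by
    obtain ⟨Q, hQ⟩ := hC.exists_le_sylow
    exact (card_le_of_le hQ).trans_eq (Q.card_eq_multiplicity.trans P.card_eq_multiplicity.symm))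
  have hn : d * t ∈ normalizer ((P : Subgroup G) : Set G) := by
    refine mem_normalizer_fintype fun y hy => ?_
    show _ ∈ (P : Subgroup G)
    simpa [mul_assoc] using hdP _ ⟨y, hy, rfl⟩
  have hfin := D.hN _ hn
  rw [show d * t * D.z * (d * t)⁻¹ = d * (t * D.z * t⁻¹) * d⁻¹ by group, htz,
    show d * D.z⁻¹ * d⁻¹ = (d * D.z * d⁻¹)⁻¹ by group, ((hmemH d).1 hd).1] at hfin
  have h3 := D.hexp _ D.hzP
  refine D.hz1 ?_
  have h2 : D.z * D.z = 1 := by nth_rewrite 1 [← hfin]; exact inv_mul_cancel _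
  rwa [pow_succ, pow_two, h2, one_mul] at h3

theorem not_mem_zpowers_conj {g x y : G} (hxZ : x ∉ zpowers D.z) (hx : x ∈ (P : Subgroup G))
    (h : g * x * g⁻¹ = y) : y ∉ zpowers D.z := by
  intro hy
  rcases D.mem_zpowers_cases hy with h' | h' | h'
  · rw [h', conj_eq_one_iff] at h
    exact hxZ (h ▸ one_mem _)
  · have := D.not_conj_z (g := g⁻¹) hx (by rw [← h', ← h]; group)
    exact hxZ (this ▸ mem_zpowers _)
  · have := D.not_conj_z (g := g⁻¹) (inv_mem hx) (by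
      rw [← inv_inv D.z, ← h', ← h]; group)
    exact hxZ (by rw [← inv_inv x, this]; exact inv_mem (mem_zpowers _))

theorem card_le_nine {x : G} (hx : x ∈ (P : Subgroup G)) (hxZ : x ∉ zpowers D.z) {C : Subgroup G}
    (hCK : C ≤ centralizer ({x} : Set G)) (hC : IsPGroup 3 C) : Nat.card C ≤ 9 := by
  have hC' : IsPGroup 3 (C ⊔ zpowers x : Subgroup G) := by
    refine hC.to_sup_of_normal_right' (P.2.to_le (Subgroup.zpowers_le.2 hx)) ?_
    intro c hc
    refine mem_normalizer_fintype ?_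
    rintro _ ⟨k, rfl⟩
    have hcx : c * x = x * c := mem_centralizer_singleton_iff.1 (hCK hc)
    rw [((show Commute c x from hcx).zpow_right k).eq, mul_inv_cancel_right]
    exact zpow_mem (mem_zpowers _) k
  obtain ⟨Q, hQ⟩ := hC'.exists_le_sylow
  obtain ⟨g, hg⟩ := MulAction.exists_smul_eq G Q P
  by_contra hlt
  have h27 : Nat.card (C ⊔ zpowers x : Subgroup G) = 27 := by
    obtain ⟨k, hk⟩ := IsPGroup.iff_card.1 hC'
    have hQc : Nat.card Q = 27 := by
      show Nat.card (Q : Subgroup G) = 27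
      rw [Q.card_eq_multiplicity, ← P.card_eq_multiplicity, D.h27]
    have h1 := card_le_of_le hQ
    have h2 := card_le_of_le (show C ≤ C ⊔ zpowers x from le_sup_left)
    have hk3 : k ≤ 3 := by
      by_contra h
      have := Nat.pow_le_pow_right (show 0 < 3 by norm_num) (show 4 ≤ k by omega)
      rw [← hk] at this
      change Nat.card (C ⊔ zpowers x : Subgroup G) ≤ Nat.card Q at h1
      omega
    interval_cases k <;> omega
  have heq : (C ⊔ zpowers x : Subgroup G) = Q := by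
    refine Subgroup.eq_of_le_of_card_ge hQ ?_
    rw [h27, Q.card_eq_multiplicity, ← P.card_eq_multiplicity, D.h27]
  have hcen : ∀ q ∈ (Q : Subgroup G), x * q = q * x := by
    intro q hq
    rw [← heq] at hq
    have hle : C ⊔ zpowers x ≤ centralizer ({x} : Set G) :=
      sup_le hCK (Subgroup.zpowers_le.2 (mem_centralizer_singleton_iff.2 rfl))
    exact (mem_centralizer_singleton_iff.1 (hle hq)).symm
  have hxQ : x ∈ (Q : Subgroup G) := hQ (mem_sup_right (mem_zpowers x))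
  have hconjmem : ∀ q ∈ (Q : Subgroup G), g * q * g⁻¹ ∈ (P : Subgroup G) := by
    intro q hq
    rw [← hg, Sylow.coe_subgroup_smul]
    exact ⟨q, hq, rfl⟩
  have hcen' : g * x * g⁻¹ ∈ zpowers D.z := by
    refine D.hcen _ (hconjmem x hxQ) fun y hy => ?_
    rw [← hg, Sylow.coe_subgroup_smul] at hy
    obtain ⟨q, hq, rfl⟩ := hy
    show g * x * g⁻¹ * (g * q * g⁻¹) = g * q * g⁻¹ * (g * x * g⁻¹)
    calc g * x * g⁻¹ * (g * q * g⁻¹) = g * (x * q) * g⁻¹ := by group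
      _ = g * (q * x) * g⁻¹ := by rw [hcen q hq]
      _ = _ := by group
  exact D.not_mem_zpowers_conj hxZ hx rfl hcen'

/-- `N(P)` controls the fusion of noncentral elements. -/
theorem fusion {g x y : G} (hx : x ∈ (P : Subgroup G)) (hxZ : x ∉ zpowers D.z)
    (hy : y ∈ (P : Subgroup G)) (h : g * x * g⁻¹ = y) :
    ∃ n ∈ normalizer ((P : Subgroup G) : Set G), n * x * n⁻¹ = y := by
  have hyZ := D.not_mem_zpowers_conj hxZ hx h
  set Vx := (P : Subgroup G) ⊓ centralizer ({x} : Set G)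
  set Vy := (P : Subgroup G) ⊓ centralizer ({y} : Set G)
  obtain ⟨c, hc, hcV⟩ := exists_conj_le_of_max (p := 3) (K := centralizer ({y} : Set G))
    (A := Vx.map (MulAut.conj g).toMonoidHom) (B := Vy)
    (by
      rintro _ ⟨v, hv, rfl⟩
      rw [mem_centralizer_singleton_iff]
      simp only [MulEquiv.coe_toMonoidHom, MulAut.conj_apply, ← h]
      calc g * v * g⁻¹ * (g * x * g⁻¹) = g * (v * x) * g⁻¹ := by group
        _ = g * (x * v) * g⁻¹ := by rw [mem_centralizer_singleton_iff.1 hv.2]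
        _ = _ := by group)
    inf_le_right ((P.2.to_le inf_le_left).map _) (P.2.to_le inf_le_left)
    (fun C hCK hC => (D.card_le_nine hy hyZ hCK hC).trans_eq (D.card_inf_centralizer hy hyZ).1.symm)
  set g₁ := c * g with hg₁
  have hg₁x : g₁ * x * g₁⁻¹ = y := by
    rw [hg₁, show c * g * x * (c * g)⁻¹ = c * (g * x * g⁻¹) * c⁻¹ by group, h,
      mem_centralizer_singleton_iff.1 hc, mul_inv_cancel_right]
  have hz : g₁ * D.z * g₁⁻¹ = D.z := by
    refine D.not_conj_z ?_ rfl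
    have h2 := hcV (g * D.z * g⁻¹) ⟨D.z, ⟨D.hzP, mem_centralizer_singleton_iff.2 (D.hzc x hx)⟩, rfl⟩
    rw [show g₁ * D.z * g₁⁻¹ = c * (g * D.z * g⁻¹) * c⁻¹ by rw [hg₁]; group]
    exact h2.1
  let H : Subgroup G :=
    { carrier := {h | h * D.z * h⁻¹ = D.z ∧ y⁻¹ * (h * y * h⁻¹) ∈ zpowers D.z}
      one_mem' := ⟨by group, by simp⟩
      mul_mem' := fun {a b} ⟨ha1, ha2⟩ ⟨hb1, hb2⟩ => ⟨by
        calc a * b * D.z * (a * b)⁻¹ = a * (b * D.z * b⁻¹) * a⁻¹ := by group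
          _ = _ := by rw [hb1, ha1], by
        obtain ⟨i, hi⟩ := hb2
        have hb' : b * y * b⁻¹ = y * D.z ^ i := by
          rw [show D.z ^ i = y⁻¹ * (b * y * b⁻¹) from hi, mul_inv_cancel_left]
        have : y⁻¹ * (a * b * y * (a * b)⁻¹) = (y⁻¹ * (a * y * a⁻¹)) * (a * D.z * a⁻¹) ^ i := by
          calc y⁻¹ * (a * b * y * (a * b)⁻¹) = y⁻¹ * (a * (b * y * b⁻¹) * a⁻¹) := by group
            _ = y⁻¹ * (a * y * a⁻¹) * (a * D.z ^ i * a⁻¹) := by rw [hb']; group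
            _ = _ := by rw [conj_zpow]
        rw [this, ha1]
        exact mul_mem ha2 (zpow_mem (mem_zpowers _) i)⟩
      inv_mem' := fun {a} ⟨ha1, ha2⟩ => by
        have hai : a⁻¹ * D.z * a⁻¹⁻¹ = D.z := by
          nth_rewrite 1 [← ha1]; group
        refine ⟨hai, ?_⟩
        obtain ⟨i, hi⟩ := ha2
        have : y⁻¹ * (a⁻¹ * y * a⁻¹⁻¹) = (a⁻¹ * D.z * a⁻¹⁻¹) ^ (-i) := by
          rw [conj_zpow, zpow_neg, show D.z ^ i = y⁻¹ * (a * y * a⁻¹) from hi]; group
        rw [this, hai]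
        exact zpow_mem (mem_zpowers _) _ }
  have hmemH : ∀ h, h ∈ H ↔ h * D.z * h⁻¹ = D.z ∧ y⁻¹ * (h * y * h⁻¹) ∈ zpowers D.z := fun h => Iff.rfl
  have hPH : (P : Subgroup G) ≤ H := fun v hv =>
    (hmemH v).2 ⟨by rw [← D.hzc v hv, mul_inv_cancel_right], D.conj_mem_coset hy hv⟩
  have hPH' : (P : Subgroup G).map (MulAut.conj g₁).toMonoidHom ≤ H := by
    rintro _ ⟨v, hv, rfl⟩
    simp only [MulEquiv.coe_toMonoidHom, MulAut.conj_apply]
    have hgz : g₁⁻¹ * D.z * g₁ = D.z := by nth_rewrite 1 [← hz]; group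
    refine (hmemH _).2 ⟨?_, ?_⟩
    · calc g₁ * v * g₁⁻¹ * D.z * (g₁ * v * g₁⁻¹)⁻¹ = g₁ * v * (g₁⁻¹ * D.z * g₁) * v⁻¹ * g₁⁻¹ := by group
        _ = g₁ * (D.z * v * v⁻¹) * g₁⁻¹ := by rw [hgz, D.hzc v hv]; group
        _ = _ := by rw [mul_inv_cancel_right, hz]
    · obtain ⟨i, hi⟩ := D.conj_mem_coset hx hv
      have : y⁻¹ * (g₁ * v * g₁⁻¹ * y * (g₁ * v * g₁⁻¹)⁻¹) = (g₁ * D.z * g₁⁻¹) ^ i := by
        rw [conj_zpow, show D.z ^ i = x⁻¹ * (v * x * v⁻¹) from hi, ← hg₁x]; group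
      rw [this, hz]
      exact zpow_mem (mem_zpowers _) i
  obtain ⟨d, hd, hdP⟩ := exists_conj_le_of_max (p := 3) hPH' hPH (P.2.map _) P.2 (fun C _ hC => by
    obtain ⟨Q, hQ⟩ := hC.exists_le_sylow
    exact (card_le_of_le hQ).trans_eq (Q.card_eq_multiplicity.trans P.card_eq_multiplicity.symm))
  have hn : d * g₁ ∈ normalizer ((P : Subgroup G) : Set G) := by
    refine mem_normalizer_fintype fun v hv => ?_
    show _ ∈ (P : Subgroup G)
    simpa [mul_assoc] using hdP _ ⟨v, hv, rfl⟩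
  obtain ⟨hd1, hd2⟩ := (hmemH d).1 hd
  obtain ⟨p, hp, hpy⟩ := D.exists_conj_coset hy hyZ hd2
  refine ⟨p⁻¹ * (d * g₁), mul_mem (inv_mem (le_normalizer hp)) hn, ?_⟩
  calc p⁻¹ * (d * g₁) * x * (p⁻¹ * (d * g₁))⁻¹ = p⁻¹ * (d * (g₁ * x * g₁⁻¹) * d⁻¹) * p := by group
    _ = _ := by rw [hg₁x, ← hpy]; group

theorem complement_centralizer {x : G} (hx : x ∈ (P : Subgroup G)) (hxZ : x ∉ zpowers D.z) :
    Cfsg.HasNormalPComplement 3 (centralizer ({x} : Set G)) := by
  set C := centralizer ({x} : Set G) with hC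
  set V := ((P : Subgroup G) ⊓ C).subgroupOf C with hV
  have hVP : IsPGroup 3 V := (P.2.to_le inf_le_left).of_equiv (subgroupOfEquivOfLe inf_le_right).symm
  obtain ⟨S, hS⟩ := hVP.exists_le_sylow
  have hSV : (S : Subgroup C) = V := by
    refine (Subgroup.eq_of_le_of_card_ge hS ?_).symm
    rw [hV, Nat.card_congr (subgroupOfEquivOfLe (inf_le_right : (P : Subgroup G) ⊓ C ≤ C)).toEquiv,
      (D.card_inf_centralizer hx hxZ).1, ← Subgroup.card_map_of_injective C.subtype_injective]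
    exact D.card_le_nine hx hxZ (map_subtype_le _) (S.2.map _)
  refine CfsgLib.Transfer.hasNormalPComplement_of_normalizer_le_centralizer S fun n hn => ?_
  rw [mem_centralizer_iff]
  intro v hv
  have hv' : (v : G) ∈ (P : Subgroup G) := by
    have : v ∈ V := by rw [← hSV]; exact hv
    exact this.1
  have hnx : (n : G) * x = x * n := mem_centralizer_singleton_iff.1 n.2
  have hzS : (⟨D.z, mem_centralizer_singleton_iff.2 (D.hzc x hx)⟩ : C) ∈ (S : Subgroup C) := by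
    rw [hSV]; exact ⟨D.hzP, mem_centralizer_singleton_iff.2 (D.hzc x hx)⟩
  have h2 := (mem_normalizer_iff.1 hn _).1 hzS
  rw [hSV] at h2
  have hnz : (n : G) * D.z * (n : G)⁻¹ = D.z := D.not_conj_z h2.1 rfl
  obtain ⟨a, u, hu, hvu⟩ := (D.card_inf_centralizer hx hxZ).2 v hv' (mem_centralizer_singleton_iff.1 v.2)
  apply Subtype.ext
  simp only [Subgroup.coe_mul]
  have h3 : Commute (n : G) (x ^ a) := (show Commute (n : G) x from hnx).pow_right a
  have h4 : Commute (n : G) u := by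
    obtain ⟨k, rfl⟩ := hu
    exact (show Commute (n : G) D.z from mul_inv_eq_iff_eq_mul.1 hnz).zpow_right k
  rw [hvu]
  exact (h3.mul_right h4).eq.symm

/-- `P C(P)`. -/
def PC : Subgroup G := (P : Subgroup G) ⊔ centralizer ((P : Subgroup G) : Set G)

omit [Finite G] in
theorem PC_le : Setup.PC (P := P) ≤ normalizer ((P : Subgroup G) : Set G) :=
  sup_le le_normalizer (centralizer_le_normalizer _)

theorem conj_mem_coset_PC {x k : G} (hx : x ∈ (P : Subgroup G)) (hk : k ∈ Setup.PC (P := P)) :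
    x⁻¹ * (k * x * k⁻¹) ∈ zpowers D.z := by
  have hle : centralizer ((P : Subgroup G) : Set G) ≤ normalizer ((P : Subgroup G) : Set G) :=
    centralizer_le_normalizer _
  rw [Setup.PC, ← SetLike.mem_coe, Subgroup.coe_mul_of_right_le_normalizer_left _ _ hle] at hk
  obtain ⟨y, hy, c, hc, rfl⟩ := hk
  have hcx : c * x = x * c := (mem_centralizer_iff.1 hc x hx).symm
  have : y * c * x * (y * c)⁻¹ = y * x * y⁻¹ := by
    calc y * c * x * (y * c)⁻¹ = y * (c * x) * c⁻¹ * y⁻¹ := by group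
      _ = y * (x * c) * c⁻¹ * y⁻¹ := by rw [hcx]
      _ = _ := by group
  simp only [this]
  exact D.conj_mem_coset hx hy

theorem not_dvd_relIndex : ¬ 3 ∣ (Setup.PC (P := P)).relIndex (normalizer ((P : Subgroup G) : Set G)) :=
  fun h => P.not_dvd_index' (Nat.card_pos.ne') (h.trans
    ((Subgroup.relIndex_dvd_index_of_le PC_le).trans (Subgroup.index_dvd_of_le le_sup_left)))

theorem PC_normal_conj {n k : G} (hn : n ∈ normalizer ((P : Subgroup G) : Set G))
    (hk : k ∈ Setup.PC (P := P)) : n * k * n⁻¹ ∈ Setup.PC (P := P) := by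
  have hle : centralizer ((P : Subgroup G) : Set G) ≤ normalizer ((P : Subgroup G) : Set G) :=
    centralizer_le_normalizer _
  rw [Setup.PC, ← SetLike.mem_coe, Subgroup.coe_mul_of_right_le_normalizer_left _ _ hle] at hk
  obtain ⟨y, hy, c, hc, rfl⟩ := hk
  rw [show n * (y * c) * n⁻¹ = (n * y * n⁻¹) * (n * c * n⁻¹) by group]
  refine mul_mem (mem_sup_left ((mem_normalizer_iff.1 hn y).1 hy)) (mem_sup_right ?_)
  rw [mem_centralizer_iff]
  intro v hv
  have hv' : n⁻¹ * v * n ∈ (P : Subgroup G) := (mem_normalizer_iff''.1 hn v).1 hv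
  have h := mem_centralizer_iff.1 hc _ hv'
  calc v * (n * c * n⁻¹) = n * ((n⁻¹ * v * n) * c) * n⁻¹ := by group
    _ = n * (c * (n⁻¹ * v * n)) * n⁻¹ := by rw [h]
    _ = _ := by group

/-- The inertial group acts semiregularly on the noncentral cosets. -/
theorem mem_PC_of_fix {x n : G} (hx : x ∈ (P : Subgroup G)) (hxZ : x ∉ zpowers D.z)
    (hn : n ∈ normalizer ((P : Subgroup G) : Set G)) (hfix : x⁻¹ * (n * x * n⁻¹) ∈ zpowers D.z) :
    n ∈ Setup.PC (P := P) := by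
  obtain ⟨y, hy, hxy⟩ := D.exists_noncomm hx hxZ
  have hnz := D.hN n hn
  obtain ⟨j, hj⟩ := hfix
  have hnx : n * x * n⁻¹ = x * D.z ^ j := by
    rw [show D.z ^ j = x⁻¹ * (n * x * n⁻¹) from hj, mul_inv_cancel_left]
  have hnzp : ∀ u ∈ zpowers D.z, n * u * n⁻¹ = u := by
    rintro _ ⟨k, rfl⟩
    show n * D.z ^ k * n⁻¹ = D.z ^ k
    rw [← conj_zpow, hnz]
  -- the image of `y`
  have hny : n * y * n⁻¹ ∈ (P : Subgroup G) := (mem_normalizer_iff.1 hn y).1 hy
  obtain ⟨a, ha⟩ := D.exists_conj_eq hx hy hxy (D.conj_mem_coset hx hny)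
  rw [mul_inv_cancel_left] at ha
  obtain ⟨b, u, hu, hb⟩ := (D.card_inf_centralizer hx hxZ).2 ((y ^ a)⁻¹ * (n * y * n⁻¹))
    (mul_mem (inv_mem (pow_mem hy a)) hny) (by
      calc (y ^ a)⁻¹ * (n * y * n⁻¹) * x
          = (y ^ a)⁻¹ * ((n * y * n⁻¹) * x * (n * y * n⁻¹)⁻¹) * (n * y * n⁻¹) := by group
        _ = (y ^ a)⁻¹ * (y ^ a * x * (y ^ a)⁻¹) * (n * y * n⁻¹) := by rw [← ha]
        _ = _ := by group)
  have hny' : n * y * n⁻¹ = y ^ a * x ^ b * u := by
    rw [mul_assoc (y ^ a), ← hb, mul_inv_cancel_left]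
  -- `y ^ a = y`
  set c := x⁻¹ * (y * x * y⁻¹) with hc
  have hcz : c ∈ zpowers D.z := D.conj_mem_coset hx hy
  have hyx : y * x * y⁻¹ = x * c := by rw [hc, mul_inv_cancel_left]
  have hya : y ^ a = y := by
    have e1 : n * (y * x * y⁻¹) * n⁻¹ = x * D.z ^ j * c := by
      calc n * (y * x * y⁻¹) * n⁻¹ = (n * x * n⁻¹) * (n * c * n⁻¹) := by rw [hyx]; group
        _ = _ := by rw [hnzp c hcz, hnx]
    have e2 : n * (y * x * y⁻¹) * n⁻¹ = x * c ^ a * D.z ^ j := by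
      have hu1 := D.comm_zpowers hu hx
      have hzj : ∀ {v : G}, v ∈ (P : Subgroup G) → D.z ^ j * v = v * D.z ^ j := fun hv =>
        D.comm_zpowers (zpow_mem (mem_zpowers D.z) j) hv
      calc n * (y * x * y⁻¹) * n⁻¹ = (n * y * n⁻¹) * (n * x * n⁻¹) * (n * y * n⁻¹)⁻¹ := by group
        _ = y ^ a * x ^ b * (u * x) * D.z ^ j * u⁻¹ * (x ^ b)⁻¹ * (y ^ a)⁻¹ := by rw [hnx, hny']; group
        _ = y ^ a * x ^ b * x * (u * D.z ^ j) * u⁻¹ * (x ^ b)⁻¹ * (y ^ a)⁻¹ := by rw [hu1]; group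
        _ = y ^ a * (x ^ b * x) * (D.z ^ j * (x ^ b)⁻¹) * (y ^ a)⁻¹ := by
            rw [D.comm_zpowers hu (D.zpowers_le (zpow_mem (mem_zpowers D.z) j))]; group
        _ = (y ^ a * x * (y ^ a)⁻¹) * (y ^ a * D.z ^ j * (y ^ a)⁻¹) := by
            rw [hzj (inv_mem (pow_mem hx b)), ← pow_succ, pow_succ']; group
        _ = _ := by rw [D.conj_pow hy hcz hyx a, ← hzj (pow_mem hy a), mul_inv_cancel_right]
    rw [e1, mul_assoc, mul_assoc] at e2
    have e3 : c = c ^ a := by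
      have h' := mul_left_cancel e2
      rw [D.comm_zpowers (zpow_mem (mem_zpowers D.z) j) (D.zpowers_le hcz)] at h'
      exact mul_right_cancel h'
    have hc1 : c ≠ 1 := fun h => hxy (by
      rw [hc, inv_mul_eq_one] at h
      exact (eq_mul_inv_iff_mul_eq.1 h).symm)
    have hoc : orderOf c = 3 := orderOf_eq_prime (D.hexp c (D.zpowers_le hcz)) hc1
    have hmod : a ≡ 1 [MOD 3] := by
      rw [← hoc, ← pow_eq_pow_iff_modEq, pow_one]; exact e3.symm
    rw [← pow_mod_orderOf, orderOf_eq_prime (D.hexp y hy) (fun h => hxy (by rw [h]; simp)), hmod]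
    simp
  rw [hya] at hny'
  have hiterx : ∀ i : ℕ, x⁻¹ * (n ^ i * x * (n ^ i)⁻¹) ∈ zpowers D.z := by
    intro i
    induction i with
    | zero => simp
    | succ i ih =>
      obtain ⟨l, hl⟩ := ih
      have hi : n ^ i * x * (n ^ i)⁻¹ = x * D.z ^ l := by
        rw [show D.z ^ l = x⁻¹ * (n ^ i * x * (n ^ i)⁻¹) from hl, mul_inv_cancel_left]
      have : n ^ (i + 1) * x * (n ^ (i + 1))⁻¹ = x * D.z ^ j * D.z ^ l := by
        calc n ^ (i + 1) * x * (n ^ (i + 1))⁻¹ = n * (n ^ i * x * (n ^ i)⁻¹) * n⁻¹ := by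
              rw [pow_succ']; group
          _ = (n * x * n⁻¹) * (n * D.z ^ l * n⁻¹) := by rw [hi]; group
          _ = _ := by rw [hnx, hnzp _ (zpow_mem (mem_zpowers _) l)]
      rw [this, mul_assoc, inv_mul_cancel_left]
      exact mul_mem (zpow_mem (mem_zpowers _) _) (zpow_mem (mem_zpowers _) _)
  have hitery : ∀ i : ℕ, (y * x ^ (b * i))⁻¹ * (n ^ i * y * (n ^ i)⁻¹) ∈ zpowers D.z := by
    intro i
    induction i with
    | zero => simp
    | succ i ih =>
      obtain ⟨l, hl⟩ := ih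
      have hi : n ^ i * y * (n ^ i)⁻¹ = y * x ^ (b * i) * D.z ^ l := by
        rw [show D.z ^ l = _ from hl, mul_inv_cancel_left]
      have hzjc := D.comm_zpowers (zpow_mem (mem_zpowers D.z) j) hx
      have : n ^ (i + 1) * y * (n ^ (i + 1))⁻¹ =
          y * x ^ (b * (i + 1)) * (u * (D.z ^ j) ^ (b * i) * D.z ^ l) := by
        calc n ^ (i + 1) * y * (n ^ (i + 1))⁻¹ = n * (n ^ i * y * (n ^ i)⁻¹) * n⁻¹ := by
              rw [pow_succ']; group
          _ = (n * y * n⁻¹) * (n * x * n⁻¹) ^ (b * i) * (n * D.z ^ l * n⁻¹) := by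
              rw [hi, _root_.conj_pow]; group
          _ = y * x ^ b * (u * x ^ (b * i)) * (D.z ^ j) ^ (b * i) * D.z ^ l := by
              rw [hny', hnx, hnzp _ (zpow_mem (mem_zpowers _) l),
                (show Commute x (D.z ^ j) from hzjc.symm).mul_pow]; group
          _ = _ := by
              rw [D.comm_zpowers hu (pow_mem hx _), Nat.mul_succ, Nat.add_comm, pow_add]; group
      rw [this, inv_mul_cancel_left]
      exact mul_mem (mul_mem hu (pow_mem (zpow_mem (mem_zpowers _) _) _)) (zpow_mem (mem_zpowers _) _)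
  -- the cube is inner
  set q := n ^ 3 with hq
  have hix : x⁻¹ * (q * x * q⁻¹) ∈ zpowers D.z := hiterx 3
  obtain ⟨k₁, hk₁⟩ := D.exists_conj_eq hx hy hxy (inv_mem hix)
  set q₁ := y ^ k₁ * q with hq₁
  have hq₁x : q₁ * x * q₁⁻¹ = x := by
    calc q₁ * x * q₁⁻¹ = y ^ k₁ * (q * x * q⁻¹) * (y ^ k₁)⁻¹ := by rw [hq₁]; group
      _ = y ^ k₁ * (x * (x⁻¹ * (q * x * q⁻¹))) * (y ^ k₁)⁻¹ := by rw [mul_inv_cancel_left]
      _ = (y ^ k₁ * x * (y ^ k₁)⁻¹) * (x⁻¹ * (q * x * q⁻¹)) := by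
          rw [← mul_assoc (y ^ k₁) x, mul_assoc (y ^ k₁ * x) (x⁻¹ * (q * x * q⁻¹)),
            D.comm_zpowers hix (inv_mem (pow_mem hy k₁))]
          group
      _ = _ := by rw [hk₁, inv_mul_cancel_right]
  have hq₁y : y⁻¹ * (q₁ * y * q₁⁻¹) ∈ zpowers D.z := by
    have hx3 : x ^ (b * 3) = 1 := by rw [mul_comm, pow_mul, D.hexp x hx, one_pow]
    have h : (y * x ^ (b * 3))⁻¹ * (q * y * q⁻¹) ∈ zpowers D.z := hitery 3
    rw [hx3, mul_one] at h
    have : y⁻¹ * (q₁ * y * q₁⁻¹) = y⁻¹ * (q * y * q⁻¹) := by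
      have hyy : y ^ k₁ * y = y * y ^ k₁ := by rw [← pow_succ, pow_succ']
      calc y⁻¹ * (q₁ * y * q₁⁻¹) = y⁻¹ * (y ^ k₁ * y * (y⁻¹ * (q * y * q⁻¹)) * (y ^ k₁)⁻¹) := by
            rw [hq₁]; group
        _ = y⁻¹ * (y * (y ^ k₁ * (y⁻¹ * (q * y * q⁻¹))) * (y ^ k₁)⁻¹) := by rw [hyy]; group
        _ = _ := by rw [← D.comm_zpowers h (pow_mem hy k₁)]; group
    rw [this]; exact h
  obtain ⟨k₂, hk₂⟩ := D.exists_conj_eq hy hx (fun h => hxy h.symm) (inv_mem hq₁y)
  set q₂ := x ^ k₂ * q₁ with hq₂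
  have hq₂y : q₂ * y * q₂⁻¹ = y := by
    calc q₂ * y * q₂⁻¹ = x ^ k₂ * (q₁ * y * q₁⁻¹) * (x ^ k₂)⁻¹ := by rw [hq₂]; group
      _ = x ^ k₂ * (y * (y⁻¹ * (q₁ * y * q₁⁻¹))) * (x ^ k₂)⁻¹ := by rw [mul_inv_cancel_left]
      _ = (x ^ k₂ * y * (x ^ k₂)⁻¹) * (y⁻¹ * (q₁ * y * q₁⁻¹)) := by
          rw [← mul_assoc (x ^ k₂) y, mul_assoc (x ^ k₂ * y) (y⁻¹ * (q₁ * y * q₁⁻¹)),
            D.comm_zpowers hq₁y (inv_mem (pow_mem hx k₂))]
          group
      _ = _ := by rw [hk₂, inv_mul_cancel_right]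
  have hq₂x : q₂ * x * q₂⁻¹ = x := by
    have hxx : x ^ k₂ * x = x * x ^ k₂ := by rw [← pow_succ, pow_succ']
    calc q₂ * x * q₂⁻¹ = x ^ k₂ * (q₁ * x * q₁⁻¹) * (x ^ k₂)⁻¹ := by rw [hq₂]; group
      _ = _ := by rw [hq₁x, hxx]; group
  have hq₂n : q₂ ∈ normalizer ((P : Subgroup G) : Set G) :=
    mul_mem (le_normalizer (pow_mem hx _)) (mul_mem (le_normalizer (pow_mem hy _)) (pow_mem hn 3))
  have hq₂C : q₂ ∈ centralizer ((P : Subgroup G) : Set G) := by
    rw [mem_centralizer_iff]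
    intro w hw
    obtain ⟨k, hk⟩ := D.exists_conj_eq hx hy hxy (D.conj_mem_coset hx hw)
    rw [mul_inv_cancel_left] at hk
    obtain ⟨i, v, hv, hwv⟩ := (D.card_inf_centralizer hx hxZ).2 ((y ^ k)⁻¹ * w)
      (mul_mem (inv_mem (pow_mem hy k)) hw) (by
        calc (y ^ k)⁻¹ * w * x = (y ^ k)⁻¹ * (w * x * w⁻¹) * w := by group
          _ = (y ^ k)⁻¹ * (y ^ k * x * (y ^ k)⁻¹) * w := by rw [← hk]
          _ = _ := by group)
    have hw' : w = y ^ k * (x ^ i * v) := by rw [← hwv, mul_inv_cancel_left]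
    have c1 : Commute q₂ y := mul_inv_eq_iff_eq_mul.1 hq₂y
    have c2 : Commute q₂ x := mul_inv_eq_iff_eq_mul.1 hq₂x
    have c3 : Commute q₂ v := by
      obtain ⟨l, rfl⟩ := hv
      exact (show Commute q₂ D.z from mul_inv_eq_iff_eq_mul.1 (D.hN _ hq₂n)).zpow_right l
    rw [hw']
    exact ((c1.pow_right k).mul_right ((c2.pow_right i).mul_right c3)).eq.symm
  have hqPC : q ∈ Setup.PC (P := P) := by
    have : q = (y ^ k₁)⁻¹ * ((x ^ k₂)⁻¹ * q₂) := by rw [hq₂, hq₁]; group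
    rw [this]
    exact mul_mem (mem_sup_left (inv_mem (pow_mem hy _)))
      (mul_mem (mem_sup_left (inv_mem (pow_mem hx _))) (mem_sup_right hq₂C))
  -- the index is prime to three
  let N := normalizer ((P : Subgroup G) : Set G)
  haveI : ((Setup.PC (P := P)).subgroupOf N).Normal :=
    ⟨fun k hk m => mem_subgroupOf.2 (by simpa using Setup.PC_normal_conj m.2 (mem_subgroupOf.1 hk))⟩
  have hoq : (QuotientGroup.mk (⟨n, hn⟩ : N) : N ⧸ (Setup.PC (P := P)).subgroupOf N) ^ 3 = 1 := by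
    rw [← QuotientGroup.mk_pow, QuotientGroup.eq_one_iff, mem_subgroupOf]
    exact hqPC
  rcases (Nat.dvd_prime (by norm_num : Nat.Prime 3)).1 (orderOf_dvd_of_pow_eq_one hoq) with h | h
  · rw [orderOf_eq_one_iff, QuotientGroup.eq_one_iff, mem_subgroupOf] at h
    exact h
  · refine absurd ?_ (Setup.not_dvd_relIndex (P := P))
    rw [Subgroup.relIndex, Subgroup.index_eq_card]
    exact (dvd_of_eq h.symm).trans (orderOf_dvd_natCard _)

theorem conj_class_iff {x w : G} (hx : x ∈ (P : Subgroup G)) (hxZ : x ∉ zpowers D.z) :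
    (w ∈ (P : Subgroup G) ∧ IsConj x w) ↔
      ∃ n ∈ normalizer ((P : Subgroup G) : Set G), n * x * n⁻¹ = w := by
  constructor
  · rintro ⟨hw, hc⟩
    obtain ⟨g, hg⟩ := isConj_iff.1 hc
    exact D.fusion hx hxZ hw hg
  · rintro ⟨n, hn, rfl⟩
    exact ⟨(mem_normalizer_iff.1 hn x).1 hx, isConj_iff.2 ⟨n, rfl⟩⟩

theorem card_fiber {x : G} (hx : x ∈ (P : Subgroup G)) (hxZ : x ∉ zpowers D.z) :
    Nat.card {w : G // w ∈ (P : Subgroup G) ∧ IsConj x w} =
      (Setup.PC (P := P)).relIndex (normalizer ((P : Subgroup G) : Set G)) * 3 := by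
  set N := normalizer ((P : Subgroup G) : Set G)
  rw [Nat.card_congr (Equiv.subtypeEquivRight fun w => D.conj_class_iff hx hxZ),
    ← relIndex_centralizer_eq N x]
  have hS : N ⊓ centralizer ({x} : Set G) = Setup.PC (P := P) ⊓ centralizer ({x} : Set G) := by
    refine le_antisymm (fun n hn => ⟨D.mem_PC_of_fix hx hxZ hn.1 ?_, hn.2⟩)
      (inf_le_inf_right _ Setup.PC_le)
    rw [mem_centralizer_singleton_iff.1 hn.2, mul_inv_cancel_right, inv_mul_cancel]
    exact one_mem _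
  rw [hS, mul_comm, ← Subgroup.relIndex_mul_relIndex (Setup.PC (P := P) ⊓ centralizer ({x} : Set G))
    (Setup.PC (P := P)) N inf_le_left Setup.PC_le]
  congr 1
  rw [relIndex_centralizer_eq, ← D.card_zpowers_z]
  refine Nat.card_congr
    { toFun := fun w => ⟨x⁻¹ * w.1, by
        obtain ⟨k, hk, hkw⟩ := w.2
        rw [← hkw]; exact D.conj_mem_coset_PC hx hk⟩
      invFun := fun u => ⟨x * u.1, by
        obtain ⟨y, hy, hyx⟩ := D.exists_conj_coset hx hxZ (w := x * (u : G))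
          (by rw [inv_mul_cancel_left]; exact u.2)
        exact ⟨y, mem_sup_left hy, hyx⟩⟩
      left_inv := fun w => Subtype.ext (mul_inv_cancel_left _ _)
      right_inv := fun u => Subtype.ext (inv_mul_cancel_left _ _) }

/-- Representatives of the classes of noncentral elements. -/
theorem exists_reps :
    ∃ (m : ℕ) (xr : Fin m → G),
      m * (Setup.PC (P := P)).relIndex (normalizer ((P : Subgroup G) : Set G)) = 8 ∧
      (∀ i, xr i ∈ (P : Subgroup G) ∧ xr i ∉ zpowers D.z) ∧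
      (∀ i j, IsConj (xr i) (xr j) → i = j) ∧
      ∀ w ∈ (P : Subgroup G), w ∉ zpowers D.z → ∃ i, IsConj w (xr i) := by
  classical
  have := Fintype.ofFinite G
  let X : Finset G := Finset.univ.filter fun w => w ∈ (P : Subgroup G) ∧ w ∉ zpowers D.z
  let cl : Finset (ConjClasses G) := X.image ConjClasses.mk
  have hX : X.card = 24 := by
    have h1 : X = (Finset.univ.filter fun w => w ∈ (P : Subgroup G)) \
        (Finset.univ.filter fun w => w ∈ zpowers D.z) := by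
      ext w; simp [X]
    have hsub : (Finset.univ.filter fun w => w ∈ zpowers D.z) ⊆
        (Finset.univ.filter fun w => w ∈ (P : Subgroup G)) := fun w => by
      simp only [Finset.mem_filter, Finset.mem_univ, true_and]; exact fun h => D.zpowers_le h
    rw [h1, Finset.card_sdiff_of_subset hsub, ← Fintype.card_subtype, ← Fintype.card_subtype,
      ← Nat.card_eq_fintype_card, ← Nat.card_eq_fintype_card]
    rw [show Nat.card {w // w ∈ zpowers D.z} = 3 from D.card_zpowers_z,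
      show Nat.card {w // w ∈ (P : Subgroup G)} = 27 from D.h27]
  have hfib : ∀ c ∈ cl, (X.filter fun w => ConjClasses.mk w = c).card =
      (Setup.PC (P := P)).relIndex (normalizer ((P : Subgroup G) : Set G)) * 3 := by
    intro c hc
    obtain ⟨x, hxX, rfl⟩ := Finset.mem_image.1 hc
    obtain ⟨hx, hxZ⟩ := (Finset.mem_filter.1 hxX).2
    rw [← D.card_fiber hx hxZ, ← Nat.card_eq_finsetCard]
    refine Nat.card_congr (Equiv.subtypeEquivRight fun w => ?_)
    simp only [Finset.mem_filter, X, Finset.mem_univ, true_and, ConjClasses.mk_eq_mk_iff_isConj]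
    refine ⟨fun h => ⟨h.1.1, h.2.symm⟩, fun h => ⟨⟨h.1, ?_⟩, h.2.symm⟩⟩
    obtain ⟨g, hg⟩ := isConj_iff.1 h.2
    exact D.not_mem_zpowers_conj hxZ hx hg
  have hcount := Finset.card_eq_sum_card_image ConjClasses.mk X
  rw [Finset.sum_congr rfl hfib, Finset.sum_const, smul_eq_mul, hX] at hcount
  have hchoose : ∀ i : Fin cl.card, ∃ x ∈ X, ConjClasses.mk x = (cl.equivFin.symm i : ConjClasses G) :=
    fun i => Finset.mem_image.1 (cl.equivFin.symm i).2
  choose xr hxr hxm using hchoose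
  refine ⟨cl.card, xr, ?_, fun i => (Finset.mem_filter.1 (hxr i)).2, fun i j h => ?_, fun w hw hwZ => ?_⟩
  · change 24 = cl.card * _ at hcount
    rw [← mul_assoc] at hcount
    omega
  · have h' := ConjClasses.mk_eq_mk_iff_isConj.2 h
    rw [hxm, hxm] at h'
    exact cl.equivFin.symm.injective (Subtype.ext h')
  · have hwc : ConjClasses.mk w ∈ cl := Finset.mem_image.2 ⟨w, Finset.mem_filter.2 ⟨Finset.mem_univ _, hw, hwZ⟩, rfl⟩
    refine ⟨cl.equivFin ⟨_, hwc⟩, ConjClasses.mk_eq_mk_iff_isConj.1 ?_⟩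
    rw [hxm, Equiv.symm_apply_apply]

/-- For even inertial index the noncentral elements are real. -/
theorem conj_inv {x : G} (hx : x ∈ (P : Subgroup G)) (hxZ : x ∉ zpowers D.z)
    (he : 2 ∣ (Setup.PC (P := P)).relIndex (normalizer ((P : Subgroup G) : Set G))) :
    IsConj x x⁻¹ := by
  let N := normalizer ((P : Subgroup G) : Set G)
  haveI : ((Setup.PC (P := P)).subgroupOf N).Normal :=
    ⟨fun k hk m => mem_subgroupOf.2 (by simpa using Setup.PC_normal_conj m.2 (mem_subgroupOf.1 hk))⟩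
  haveI : Fact (Nat.Prime 2) := ⟨Nat.prime_two⟩
  obtain ⟨q, hq⟩ := exists_prime_orderOf_dvd_card' (G := N ⧸ (Setup.PC (P := P)).subgroupOf N) 2
    (by rw [← Subgroup.index_eq_card]; exact he)
  obtain ⟨⟨n, hn⟩, rfl⟩ := QuotientGroup.mk_surjective q
  have hn1 : n ∉ Setup.PC (P := P) := fun h => by
    rw [(QuotientGroup.eq_one_iff _).2 (mem_subgroupOf.2 h), orderOf_one] at hq
    norm_num at hq
  have hn2 : n * n ∈ Setup.PC (P := P) := by
    have h : (QuotientGroup.mk ((⟨n, hn⟩ : N) * ⟨n, hn⟩) :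
        N ⧸ (Setup.PC (P := P)).subgroupOf N) = 1 := by
      rw [QuotientGroup.mk_mul, ← pow_two, ← hq, pow_orderOf_eq_one]
    simpa [mem_subgroupOf] using (QuotientGroup.eq_one_iff _).1 h
  set w := n * x * n⁻¹ with hw
  have hwP : w ∈ (P : Subgroup G) := (mem_normalizer_iff.1 hn x).1 hx
  obtain ⟨j, hj⟩ := D.conj_mem_coset_PC hx hn2
  have hnw : n * w * n⁻¹ = x * D.z ^ j := by
    rw [show D.z ^ j = x⁻¹ * (n * n * x * (n * n)⁻¹) from hj, mul_inv_cancel_left, hw]; group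
  by_cases hxw : w * x = x * w
  · obtain ⟨b, u, hu, hwu⟩ := (D.card_inf_centralizer hx hxZ).2 w hwP hxw
    have hwu' : w = x ^ (b % 3) * u := by
      rw [hwu, ← pow_mod_orderOf x b,
        orderOf_eq_prime (D.hexp x hx) (fun h => hxZ (h ▸ one_mem _))]
    have hb : b % 3 = 2 := by
      have hlt : b % 3 < 3 := Nat.mod_lt _ (by norm_num)
      rcases Nat.lt_or_ge (b % 3) 2 with h | h
      · exfalso
        interval_cases hb : b % 3
        · rw [pow_zero, one_mul] at hwu'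
          exact D.not_mem_zpowers_conj hxZ hx hw.symm (hwu' ▸ hu)
        · refine hn1 (D.mem_PC_of_fix hx hxZ hn ?_)
          rw [← hw, hwu', pow_one, inv_mul_cancel_left]; exact hu
      · omega
    rw [hb] at hwu'
    have hx2 : x ^ 2 = x⁻¹ := by rw [eq_inv_iff_mul_eq_one, ← pow_succ]; exact D.hexp x hx
    rw [hx2] at hwu'
    have hxiZ : x⁻¹ ∉ zpowers D.z := fun h => hxZ (by simpa using inv_mem h)
    obtain ⟨y, hy, hyx⟩ := D.exists_conj_coset (inv_mem hx) hxiZ (w := w)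
      (by rw [hwu', inv_mul_cancel_left]; exact hu)
    refine isConj_iff.2 ⟨y⁻¹ * n, ?_⟩
    calc y⁻¹ * n * x * (y⁻¹ * n)⁻¹ = y⁻¹ * w * y := by rw [hw]; group
      _ = _ := by rw [← hyx]; group
  · exfalso
    set c := ⁅x, w⁆ with hc
    have hcz := D.hcomm x hx w hwP
    have hzj : ∀ {u : G}, u ∈ (P : Subgroup G) → D.z ^ j * u = u * D.z ^ j := fun hu =>
      D.comm_zpowers (zpow_mem (mem_zpowers D.z) j) hu
    have h1 : ⁅w, x * D.z ^ j⁆ = ⁅x, w⁆ := by
      obtain ⟨k, hk⟩ := hcz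
      have hk' : ⁅x, w⁆ = D.z ^ k := hk.symm
      have hnk : n * ⁅x, w⁆ * n⁻¹ = ⁅x, w⁆ := by
        rw [hk', ← conj_zpow, D.hN n hn]
      rw [← hnk, ← hnw]
      simp only [hw, commutatorElement_def]; group
    have h2 : ⁅w, x * D.z ^ j⁆ = ⁅x, w⁆⁻¹ := by
      rw [commutatorElement_inv, commutatorElement_def, commutatorElement_def]
      have := hzj (inv_mem hwP)
      calc w * (x * D.z ^ j) * w⁻¹ * (x * D.z ^ j)⁻¹ = w * x * (D.z ^ j * w⁻¹) * (D.z ^ j)⁻¹ * x⁻¹ := by group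
        _ = _ := by rw [this]; group
    rw [h1] at h2
    have h3 : ⁅x, w⁆ ^ 2 = 1 := by rw [pow_two]; nth_rewrite 2 [h2]; exact mul_inv_cancel _
    have h4 : ⁅x, w⁆ ^ 3 = 1 := D.hexp _ (D.zpowers_le hcz)
    rw [pow_succ, h3, one_mul] at h4
    exact hxw (commutatorElement_eq_one_iff_mul_comm.1 h4).symm

include D in
/-- Inertial index one: `G` has a normal 3-complement. -/
theorem hasNormalPComplement_of_index_one
    (he : (Setup.PC (P := P)).relIndex (normalizer ((P : Subgroup G) : Set G)) = 1) :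
    Cfsg.HasNormalPComplement 3 G := by
  refine CfsgLib.Transfer.hasNormalPComplement_of_controlsFusion P fun x hx g hg => ?_
  by_cases hxZ : x ∈ zpowers D.z
  · refine ⟨1, one_mem _, ?_⟩
    obtain ⟨k, rfl⟩ := hxZ
    rcases D.mem_zpowers_cases (zpow_mem (mem_zpowers D.z) k) with h | h | h
    · simp only [h]; group
    · simp only [h] at hg ⊢
      rw [D.not_conj_z hg rfl]; group
    · simp only [h] at hg ⊢
      have hg' : g * D.z * g⁻¹ ∈ (P : Subgroup G) := by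
        have := inv_mem hg; simpa [mul_assoc] using this
      rw [show g * D.z⁻¹ * g⁻¹ = (g * D.z * g⁻¹)⁻¹ by group, D.not_conj_z hg' rfl]; group
  · obtain ⟨n, hn, hnx⟩ := D.fusion hx hxZ hg rfl
    have hnPC : n ∈ Setup.PC (P := P) := Subgroup.relIndex_eq_one.1 he hn
    obtain ⟨y, hy, hyx⟩ := D.exists_conj_coset hx hxZ (D.conj_mem_coset_PC hx hnPC)
    exact ⟨y, hy, by rw [hyx, hnx]⟩

end Setup

end CfsgLib.Blocks.ExtraThree
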