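import Mathlib
import Cfsg.Agent.Lib.Blocks.PrincipalSection
import Cfsg.Agent.Lib.CharBlocks.PrincipalColumn
import Cfsg.Agent.Lib.Blocks.ChainSum.Count
import Cfsg.Agent.Lib.BlockArith.CharCount
import Cfsg.Agent.Lib.BlockArith.QuotientRank
import Cfsg.Agent.Lib.Blocks.Functional
import Cfsg.Agent.Lib.Char.Linear
import Cfsg.Agent.Lib.OddLocal.Ten.Complement
import Cfsg.Agent.Lib.Transfer.Basic
import Cfsg.Agent.S0939

/-!
# The principal block on sections

* `principal_pairing`: the pairing of the columns at `x y` and `g`;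
* `principal_count`: `k(B₀)` by classes of `p`-elements;
* `blockRank_principal_complement`: a group with a normal `p`-complement;
* `quot_column`, `blockPart_comp_mk`: columns against those of a central quotient.
-/

set_option autoImplicit false

noncomputable section

namespace CfsgLib.Blocks.ExtraThree

open Cfsg CfsgLib.Blocks CfsgLib.BlockArith CfsgLib.Char CfsgLib.Blocks.ChainSum
open scoped ComplexConjugate

universe u

variable {M : Ideal AlgInt} [M.IsMaximal] {G : Type u} [Group G] [Fintype G] {p : ℕ} [hp : Fact p.Prime]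

theorem principal_pairing (hM : IsPModular p M) {x : G} (hx : ∃ k : ℕ, orderOf x = p ^ k)
    [DecidablePred (· ∈ principalBlock M G)] [DecidableEq G]
    [∀ a b : G, Decidable (IsConj a b)]
    {y : Subgroup.centralizer ({x} : Set G)} (hy : ¬ p ∣ orderOf y) (g : G) :
    ∑ ζ : IrrCharacter G, (if ζ ∈ principalBlock M G then
        (ζ : G → ℂ) (x * (y : G)) * conj ((ζ : G → ℂ) g) else 0) =
      blockPart (principalBlock M (Subgroup.centralizer ({x} : Set G)))
        (fun c : Subgroup.centralizer ({x} : Set G) => if IsConj (x * (c : G)) g then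
          (Nat.card (Subgroup.centralizer ({x * (c : G)} : Set G)) : ℂ) else 0) y := by
  classical
  set b₀ := principalBlock M (Subgroup.centralizer ({x} : Set G))
  calc ∑ ζ : IrrCharacter G, (if ζ ∈ principalBlock M G then
        (ζ : G → ℂ) (x * (y : G)) * conj ((ζ : G → ℂ) g) else 0)
      = ∑ ζ : IrrCharacter G, conj ((ζ : G → ℂ) g) *
          blockPart b₀ (fun c : Subgroup.centralizer ({x} : Set G) => (ζ : G → ℂ) (x * (c : G))) y := by
        refine Finset.sum_congr rfl fun ζ _ => ?_
        rw [principal_section hM hx ζ hy]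
        split_ifs <;> ring
    _ = blockPart b₀ (∑ ζ : IrrCharacter G, conj ((ζ : G → ℂ) g) •
          fun c : Subgroup.centralizer ({x} : Set G) => (ζ : G → ℂ) (x * (c : G))) y := by
        simp only [blockPart_apply, CfsgLib.Char.classInner_sum_left, CfsgLib.Char.classInner_smul_left,
          Finset.mul_sum, Finset.sum_mul]
        rw [Finset.sum_comm]
        refine Finset.sum_congr rfl fun φ _ => ?_
        split_ifs
        · exact Finset.sum_congr rfl fun ζ _ => by ring
        · simp
    _ = _ := by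
        refine congrArg (fun f => blockPart b₀ f y) (funext fun c => ?_)
        simp only [Finset.sum_apply, Pi.smul_apply, smul_eq_mul]
        rw [Finset.sum_congr rfl fun (ζ : IrrCharacter G) _ => mul_comm _ _,
          CfsgLib.Char.second_orthogonality]

theorem principal_pairing_zero (hM : IsPModular p M) {x : G} (hx : ∃ k : ℕ, orderOf x = p ^ k)
    [DecidablePred (· ∈ principalBlock M G)]
    {y : Subgroup.centralizer ({x} : Set G)} (hy : ¬ p ∣ orderOf y) {g : G}
    (hne : ∀ c : Subgroup.centralizer ({x} : Set G), ¬ p ∣ orderOf c → ¬ IsConj (x * (c : G)) g) :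
    ∑ ζ : IrrCharacter G, (if ζ ∈ principalBlock M G then
        (ζ : G → ℂ) (x * (y : G)) * conj ((ζ : G → ℂ) g) else 0) = 0 := by
  classical
  rw [principal_pairing hM hx hy g, blockPart_congr_regular hM isPBlock_principalBlock hy
    (f' := fun _ => 0) (fun c hc => if_neg (hne c hc))]
  rw [blockPart_apply]
  refine Finset.sum_eq_zero fun φ _ => ?_
  rw [show (fun _ : Subgroup.centralizer ({x} : Set G) => (0 : ℂ)) = 0 from rfl, classInner_zero_left,
    zero_mul, ite_self]

theorem rankSum_principal (hM : IsPModular p M) {x : G} (hx : ∃ k : ℕ, orderOf x = p ^ k) :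
    rankSum p M (Subgroup.centralizer ({x} : Set G)) (principalBlock M G) =
      blockRank p (principalBlock M (Subgroup.centralizer ({x} : Set G))) := by
  classical
  have : Fintype (Subgroup.centralizer ({x} : Set G)) := Fintype.ofFinite _
  have hset : {b : Set (IrrCharacter (Subgroup.centralizer ({x} : Set G))) |
      IsInducedBlock M (Subgroup.centralizer ({x} : Set G)) b (principalBlock M G)} =
      {principalBlock M (Subgroup.centralizer ({x} : Set G))} := by
    ext b
    refine ⟨fun h => ?_, fun h => ?_⟩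
    · exact (third_main hM (exists_inducedBlock_centralizer hM hx h.1)).mp h
    · rw [Set.mem_singleton_iff] at h
      subst h
      exact (third_main hM (exists_inducedBlock_centralizer hM hx isPBlock_principalBlock)).mpr rfl
  rw [rankSum, hset, finsum_mem_singleton]

/-- `k(B₀)` by classes of `p`-elements. -/
theorem principal_count (hM : IsPModular p M) {ι : Type} [Fintype ι] (x : ι → G)
    (hx : ∀ i, ∃ k : ℕ, orderOf (x i) = p ^ k) (hinj : ∀ i j, IsConj (x i) (x j) → i = j)
    (hne : ∀ i, x i ≠ 1) (hcov : ∀ g : G, g ≠ 1 → (∃ k : ℕ, orderOf g = p ^ k) → ∃ i, IsConj g (x i)) :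
    Nat.card (principalBlock M G) = blockRank p (principalBlock M G) +
      ∑ i, blockRank p (principalBlock M (Subgroup.centralizer ({x i} : Set G))) := by
  classical
  have hxinj : Function.Injective x := fun i j h => hinj i j (h ▸ IsConj.refl _)
  have h1 : (1 : G) ∉ Finset.univ.image x := fun h => by
    obtain ⟨i, -, hi⟩ := Finset.mem_image.1 h; exact hne i hi
  have hp1 : ∃ k : ℕ, orderOf (1 : G) = p ^ k := ⟨0, by rw [orderOf_one, pow_zero]⟩
  rw [card_eq_sum_subsections hM isPBlock_principalBlock (insert 1 (Finset.univ.image x))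
    (fun g hg => by
      rcases Finset.mem_insert.1 hg with rfl | hg
      · exact hp1
      · obtain ⟨i, -, rfl⟩ := Finset.mem_image.1 hg; exact hx i)
    (fun g hg => by
      by_cases hg1 : g = 1
      · subst hg1
        refine ⟨1, ⟨Finset.mem_insert_self _ _, IsConj.refl _⟩, fun y hy => ?_⟩
        obtain ⟨c, hc⟩ := isConj_iff.1 hy.2
        rw [← hc]; group
      · obtain ⟨i, hi⟩ := hcov g hg1 hg
        refine ⟨x i, ⟨Finset.mem_insert_of_mem (Finset.mem_image_of_mem x (Finset.mem_univ i)), hi⟩,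
          fun y hy => ?_⟩
        rcases Finset.mem_insert.1 hy.1 with rfl | hy'
        · obtain ⟨c, hc⟩ := isConj_iff.1 hy.2
          exact absurd (conj_eq_one_iff.1 hc) hg1
        · obtain ⟨j, -, rfl⟩ := Finset.mem_image.1 hy'
          exact congrArg x (hinj j i (hy.2.symm.trans hi))),
    Finset.sum_insert h1, Finset.sum_image fun i _ j _ h => hxinj h]
  congr 1
  · have htop : Subgroup.centralizer ({(1 : G)} : Set G) = ⊤ :=
      eq_top_iff.2 fun g _ => Subgroup.mem_centralizer_singleton_iff.2 (by simp)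
    let e : Subgroup.centralizer ({(1 : G)} : Set G) ≃* G :=
      (MulEquiv.subgroupCongr htop).trans Subgroup.topEquiv
    exact rankSum_top e (fun _ => rfl) isPBlock_principalBlock
  · exact Finset.sum_congr rfl fun i _ => rankSum_principal hM (hx i)

/-- Equal subgroups have principal blocks of equal rank. -/
theorem blockRank_subgroup_congr {H K : Subgroup G} (h : H = K) :
    blockRank p (principalBlock M H) = blockRank p (principalBlock M K) := by subst h; rfl

theorem blockRank_principal_complement (hM : IsPModular p M) (h : HasNormalPComplement p G) :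
    blockRank p (principalBlock M G) = 1 := by
  classical
  have hnc := CfsgLib.OddLocal.Ten.index_pPrimeCore_eq_pow h
  have hB := Cfsg.Agent.S0939.result p M hM hnc
  set r : G → ℂ := pRegularPart p (fun _ => (1 : ℂ)) with hr
  have hspan : Submodule.span ℂ ((fun χ : IrrCharacter G => pRegularPart p (χ : G → ℂ)) ''
      principalBlock M G) = Submodule.span ℂ {r} := by
    refine le_antisymm (Submodule.span_le.2 ?_) (Submodule.span_le.2 ?_)
    · rintro _ ⟨χ, hχ, rfl⟩
      rw [hB] at hχ
      refine Submodule.mem_span_singleton.2 ⟨(χ : G → ℂ) 1, funext fun g => ?_⟩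
      simp only [hr, Pi.smul_apply, smul_eq_mul, pRegularPart_apply]
      split_ifs with hg
      · simp
      · rw [mul_one]; exact (hχ g (mem_of_index_pow hp.out hnc hg)).symm
    · rintro _ rfl
      exact Submodule.subset_span ⟨_, irrOne_mem_principalBlock, rfl⟩
  rw [blockRank, hspan, finrank_span_singleton]
  intro h0
  have := congrFun h0 1
  simp [hr, pRegularPart_apply, hp.out.ne_one] at this

variable (K : Subgroup G) [K.Normal] [Fintype (G ⧸ K)]

omit [M.IsMaximal] hp in
/-- Block parts of inflated functions. -/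
theorem blockPart_comp_mk (b : Set (IrrCharacter G)) {F : G ⧸ K → ℂ}
    (hF : IsClassFunction (G ⧸ K) F) (g : G) :
    blockPart b (F ∘ QuotientGroup.mk) g = blockPart (inflSet K b) F (g : G ⧸ K) := by
  classical
  rw [blockPart_apply, blockPart_apply]
  have hdec : (F ∘ QuotientGroup.mk : G → ℂ) = ∑ θ : IrrCharacter (G ⧸ K),
      classInner F θ • ((θ : G ⧸ K → ℂ) ∘ QuotientGroup.mk) := by
    funext c
    have := congrFun (classFun_eq_sum hF) (c : G ⧸ K)
    simpa using this
  let ι : IrrCharacter (G ⧸ K) → IrrCharacter G := fun θ =>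
    ⟨_, CfsgLib.CharNormal.isIrr_comp_mk' K θ.2⟩
  have hinner : ∀ φ : IrrCharacter G, classInner (F ∘ QuotientGroup.mk) (φ : G → ℂ) =
      ∑ θ : IrrCharacter (G ⧸ K), if ι θ = φ then classInner F θ else 0 := by
    intro φ
    rw [hdec, classInner_sum_left]
    refine Finset.sum_congr rfl fun θ _ => ?_
    rw [classInner_smul_left, show ((θ : G ⧸ K → ℂ) ∘ QuotientGroup.mk) = (ι θ : G → ℂ) from rfl,
      classInner_irrCharacter]
    split_ifs <;> simp
  simp only [hinner, Finset.sum_mul, ite_mul, zero_mul]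
  calc ∑ φ : IrrCharacter G, (if φ ∈ b then
        ∑ θ : IrrCharacter (G ⧸ K), (if ι θ = φ then classInner F θ * (φ : G → ℂ) g else 0) else 0)
      = ∑ φ : IrrCharacter G, ∑ θ : IrrCharacter (G ⧸ K),
          (if ι θ = φ then (if φ ∈ b then classInner F θ * (φ : G → ℂ) g else 0) else 0) := by
        refine Finset.sum_congr rfl fun φ _ => ?_
        split_ifs
        · rfl
        · simp
    _ = _ := by
        rw [Finset.sum_comm]
        refine Finset.sum_congr rfl fun θ _ => ?_
        rw [Finset.sum_ite_eq, if_pos (Finset.mem_univ _)]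
        rfl

theorem inflSet_principal (hM : IsPModular p M) (hK : IsPGroup p K)
    (hC : ∃ k : ℕ, (Subgroup.centralizer (K : Set G)).index = p ^ k) :
    inflSet K (principalBlock M G) = principalBlock M (G ⧸ K) := by
  refine isPBlock_eq_of_mem (isPBlock_inflSet hM hK hC isPBlock_principalBlock) isPBlock_principalBlock
    (χ := irrOne) ?_ irrOne_mem_principalBlock
  exact (mem_inflSet (η := irrOne) rfl).2 irrOne_mem_principalBlock

omit [M.IsMaximal] in
/-- Conjugacy of regular elements modulo a central `p`-subgroup. -/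
theorem isConj_mk_iff (hK : IsPGroup p K) (hKc : K ≤ Subgroup.center G) {c d : G}
    (hc : ¬ p ∣ orderOf c) (hd : ¬ p ∣ orderOf d) :
    IsConj (c : G ⧸ K) (d : G ⧸ K) ↔ IsConj c d := by
  refine ⟨fun h => ?_, fun h => (QuotientGroup.mk' K).map_isConj h⟩
  obtain ⟨q, hq⟩ := isConj_iff.1 h
  obtain ⟨w, rfl⟩ := QuotientGroup.mk_surjective q
  rw [← QuotientGroup.mk_inv, ← QuotientGroup.mk_mul, ← QuotientGroup.mk_mul, QuotientGroup.eq] at hq
  refine isConj_iff.2 ⟨w, ?_⟩
  set e := w * c * w⁻¹ with he
  set k := e⁻¹ * d with hk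
  have hde : d = e * k := by rw [hk, mul_inv_cancel_left]
  have hoe : ¬ p ∣ orderOf e := by
    rw [he, (SemiconjBy.conj_mk w c).orderOf_eq.symm] ; exact hc
  obtain ⟨i, hi⟩ := IsPGroup.iff_orderOf.1 hK ⟨k, hq⟩
  rw [Subgroup.orderOf_mk] at hi
  have hcop : (orderOf e).Coprime (orderOf k) := by
    rw [hi]; exact ((hp.out.coprime_iff_not_dvd).2 hoe).symm.pow_right _
  have hcm : Commute e k := (Subgroup.mem_center_iff.1 (hKc hq) e)
  rw [hde, hcm.orderOf_mul_eq_mul_orderOf_of_coprime hcop, hi] at hd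
  rcases Nat.eq_zero_or_pos i with rfl | hipos
  · rw [pow_zero, orderOf_eq_one_iff] at hi
    rw [hde, hi, mul_one]
  · exact absurd (Dvd.dvd.mul_left (dvd_pow_self p hipos.ne') _) hd

omit [M.IsMaximal] in
theorem not_dvd_orderOf_mk {c : G} (hc : ¬ p ∣ orderOf c) : ¬ p ∣ orderOf (c : G ⧸ K) :=
  fun h => hc (h.trans (orderOf_map_dvd (QuotientGroup.mk' K) c))

omit [M.IsMaximal] in
theorem exists_regular_lift (hK : IsPGroup p K) {q : G ⧸ K} (hq : ¬ p ∣ orderOf q) :
    ∃ c : G, ¬ p ∣ orderOf c ∧ (c : G ⧸ K) = q := by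
  obtain ⟨w, rfl⟩ := QuotientGroup.mk_surjective q
  set o := orderOf (w : G ⧸ K) with ho
  obtain ⟨⟨i, hi⟩⟩ : Nonempty {i : ℕ // (w ^ o) ^ p ^ i = 1} := by
    have hmem : w ^ o ∈ K := by
      rw [← QuotientGroup.eq_one_iff, QuotientGroup.mk_pow, ho, pow_orderOf_eq_one]
    obtain ⟨i, hi⟩ := hK ⟨_, hmem⟩
    exact ⟨⟨i, by simpa using congrArg Subtype.val hi⟩⟩
  -- a power of `w` congruent to one modulo the order of its image
  have hcop : (p ^ i).Coprime o := ((hp.out.coprime_iff_not_dvd).2 hq).pow_left _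
  have ho0 : 0 < o := orderOf_pos _
  set j := (p ^ i) ^ o.totient with hj
  refine ⟨w ^ j, fun h => ?_, ?_⟩
  · have hdvd : orderOf (w ^ j) ∣ o := by
      refine orderOf_dvd_of_pow_eq_one ?_
      rw [← pow_mul, hj]
      obtain ⟨t, ht⟩ : p ^ i ∣ (p ^ i) ^ o.totient :=
        dvd_pow_self _ (Nat.totient_pos.2 ho0).ne'
      rw [ht, show p ^ i * t * o = o * p ^ i * t by ring, pow_mul, pow_mul, hi, one_pow]
    exact hq (h.trans hdvd)
  · rw [QuotientGroup.mk_pow, ← pow_one (w : G ⧸ K), ← pow_mul, one_mul]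
    refine pow_eq_pow_iff_modEq.2 ?_
    rw [← ho, hj]
    exact Nat.ModEq.pow_totient hcop

omit [M.IsMaximal] in
theorem card_centralizer_mk (hK : IsPGroup p K) (hKc : K ≤ Subgroup.center G) {c : G}
    (hc : ¬ p ∣ orderOf c) :
    Nat.card (Subgroup.centralizer ({c} : Set G)) =
      Nat.card K * Nat.card (Subgroup.centralizer ({(c : G ⧸ K)} : Set (G ⧸ K))) := by
  classical
  have h1 := card_isConj_mul_card_centralizer c
  have h2 := card_isConj_mul_card_centralizer (c : G ⧸ K)
  have hG : Nat.card G = Nat.card (G ⧸ K) * Nat.card K := K.card_eq_card_quotient_mul_card_subgroup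
  have hcls : Nat.card {x : G // IsConj c x} = Nat.card {x : G ⧸ K // IsConj (c : G ⧸ K) x} := by
    refine Nat.card_congr (Equiv.ofBijective
      (fun x => ⟨(x.1 : G ⧸ K), (QuotientGroup.mk' K).map_isConj x.2⟩) ⟨fun a b hab => ?_, fun q => ?_⟩)
    · have h' : ((a.1 : G) : G ⧸ K) = (b.1 : G) := congrArg Subtype.val hab
      obtain ⟨u, hu⟩ := isConj_iff.1 a.2
      obtain ⟨v, hv⟩ := isConj_iff.1 b.2
      apply Subtype.ext
      -- both are regular, so equal
      have hr : ∀ w : G, ¬ p ∣ orderOf (w * c * w⁻¹) := fun w => by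
        rw [(SemiconjBy.conj_mk w c).orderOf_eq.symm]; exact hc
      have hk : a.1⁻¹ * b.1 ∈ K := QuotientGroup.eq.1 h'
      obtain ⟨i, hi⟩ := IsPGroup.iff_orderOf.1 hK ⟨_, hk⟩
      rw [Subgroup.orderOf_mk] at hi
      have hcm : Commute a.1 (a.1⁻¹ * b.1) := Subgroup.mem_center_iff.1 (hKc hk) a.1
      have hcop : (orderOf a.1).Coprime (orderOf (a.1⁻¹ * b.1)) := by
        rw [hi, ← hu]; exact ((hp.out.coprime_iff_not_dvd).2 (hr u)).symm.pow_right _
      have ho := hcm.orderOf_mul_eq_mul_orderOf_of_coprime hcop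
      rw [mul_inv_cancel_left, hi] at ho
      rcases Nat.eq_zero_or_pos i with rfl | hipos
      · rw [pow_zero, orderOf_eq_one_iff, inv_mul_eq_one] at hi
        exact hi
      · refine absurd ?_ (hr v)
        rw [hv, ho]
        exact Dvd.dvd.mul_left (dvd_pow_self p hipos.ne') _
    · obtain ⟨x, hx⟩ := q
      obtain ⟨w, hw⟩ := isConj_iff.1 hx
      obtain ⟨w, rfl⟩ := QuotientGroup.mk_surjective w
      exact ⟨⟨w * c * w⁻¹, isConj_iff.2 ⟨w, rfl⟩⟩, Subtype.ext hw⟩
  rw [hcls] at h1
  have hpos : 0 < Nat.card {x : G ⧸ K // IsConj (c : G ⧸ K) x} :=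
    Nat.card_pos_iff.2 ⟨⟨⟨_, IsConj.refl _⟩⟩, inferInstance⟩
  refine Nat.eq_of_mul_eq_mul_left hpos ?_
  rw [h1, hG, ← h2]; ring

/-- Columns of a central extension against those of the quotient. -/
theorem quot_column (hM : IsPModular p M) (hK : IsPGroup p K) (hKc : K ≤ Subgroup.center G)
    [DecidablePred (· ∈ principalBlock M (G ⧸ K))] [DecidableEq G] [∀ a b : G, Decidable (IsConj a b)]
    {s t : G} (hs : ¬ p ∣ orderOf s) (ht : ¬ p ∣ orderOf t) :
    blockPart (principalBlock M G)
        (fun c => if IsConj c t then (Nat.card (Subgroup.centralizer ({c} : Set G)) : ℂ) else 0) s =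
      (Nat.card K : ℂ) * ∑ θ : IrrCharacter (G ⧸ K), (if θ ∈ principalBlock M (G ⧸ K) then
        (θ : G ⧸ K → ℂ) s * conj ((θ : G ⧸ K → ℂ) t) else 0) := by
  classical
  have hC : ∃ k : ℕ, (Subgroup.centralizer (K : Set G)).index = p ^ k :=
    ⟨0, by rw [pow_zero, Subgroup.index_eq_one, Subgroup.centralizer_eq_top_iff_subset]; exact hKc⟩
  set F : G ⧸ K → ℂ := fun q => ∑ θ : IrrCharacter (G ⧸ K),
    (Nat.card K : ℂ) * conj ((θ : G ⧸ K → ℂ) t) * (θ : G ⧸ K → ℂ) q with hF
  have hFsum : F = ∑ θ : IrrCharacter (G ⧸ K),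
      ((Nat.card K : ℂ) * conj ((θ : G ⧸ K → ℂ) t)) • (θ : G ⧸ K → ℂ) := by
    funext q; simp [hF]
  have hFc : IsClassFunction (G ⧸ K) F := by
    rw [hFsum]
    exact isClassFunction_sum _ fun θ _ => isClassFunction_smul (isClassFunction_of_isIrr θ.2) _
  rw [blockPart_congr_regular hM isPBlock_principalBlock hs (f' := F ∘ QuotientGroup.mk) fun c hc => ?_,
    blockPart_comp_mk K _ hFc, inflSet_principal K hM hK hC, blockPart_apply, Finset.mul_sum]
  · refine Finset.sum_congr rfl fun θ _ => ?_
    rw [hFsum, classInner_sum_left]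
    simp only [classInner_smul_left, classInner_irrCharacter, mul_ite, mul_one, mul_zero,
      Finset.sum_ite_eq', Finset.mem_univ, if_true]
    split_ifs <;> ring
  · show _ = F (c : G ⧸ K)
    have h2 := second_orthogonality (G := G ⧸ K) (c : G ⧸ K) (t : G ⧸ K)
    have : F (c : G ⧸ K) = (Nat.card K : ℂ) *
        ∑ θ : IrrCharacter (G ⧸ K), (θ : G ⧸ K → ℂ) c * conj ((θ : G ⧸ K → ℂ) t) := by
      rw [hF, Finset.mul_sum]; exact Finset.sum_congr rfl fun θ _ => by ring
    rw [this, h2]
    by_cases hct : IsConj c t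
    · rw [if_pos hct, if_pos ((isConj_mk_iff K hK hKc hc ht).2 hct), card_centralizer_mk K hK hKc hc]
      push_cast; ring
    · rw [if_neg hct, if_neg (fun h => hct ((isConj_mk_iff K hK hKc hc ht).1 h)), mul_zero]

end CfsgLib.Blocks.ExtraThree
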