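import Mathlib
import Cfsg.Agent.Lib.Blocks.PrincipalSection
import Cfsg.Agent.Lib.Blocks.Functional
import Cfsg.Agent.Lib.Char.ClassAlgebra
import Cfsg.Agent.Lib.Char.Linear
import Cfsg.Agent.Lib.CharBlocks.Degree

/-!
# Values at elements of order three

* `IsEis`: the Eisenstein integers in `ℂ`;
* `value_real`, `value_central_derived`: values at elements of order three;
* `value_ne_zero`: principal block characters do not vanish at central elements of a Sylow subgroup.
-/

set_option autoImplicit false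

noncomputable section

namespace CfsgLib.Blocks.ExtraThree

open Cfsg CfsgLib.Blocks CfsgLib.Char
open scoped ComplexConjugate

universe u

/-- A primitive cube root of unity. -/
def om : ℂ := Complex.exp (2 * Real.pi * Complex.I / 3)

theorem om_primitive : IsPrimitiveRoot om 3 := by
  have := Complex.isPrimitiveRoot_exp 3 (by norm_num)
  simpa [om] using this

theorem om_sq : om ^ 2 = -1 - om := by
  have h := om_primitive.geom_sum_eq_zero (by norm_num)
  simp [Finset.sum_range_succ] at h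
  linear_combination h

theorem om_cube : om ^ 3 = 1 := om_primitive.pow_eq_one

theorem conj_om : conj om = -1 - om := by
  rw [← om_sq, ← Complex.inv_eq_conj]
  · refine eq_inv_of_mul_eq_one_left ?_ |>.symm
    rw [← pow_succ, om_cube]
  · exact norm_eq_one_of_pow_eq_one' (by norm_num : (3 : ℕ) ≠ 0) om_cube

theorem eis_eq_zero {a b : ℤ} (h : (a : ℂ) + (b : ℂ) * om = 0) : a = 0 ∧ b = 0 := by
  have h' := congrArg conj h
  simp only [map_add, map_mul, map_intCast, conj_om, map_zero] at h'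
  have hb : (b : ℂ) * (1 + 2 * om) = 0 := by linear_combination h - h'
  have hne : (1 : ℂ) + 2 * om ≠ 0 := fun h1 => by
    have h2 : om = -1 / 2 := by linear_combination h1 / 2
    have h3 := om_sq
    rw [h2] at h3
    norm_num at h3
  have hb0 : b = 0 := by exact_mod_cast (mul_eq_zero.1 hb).resolve_right hne
  subst hb0
  refine ⟨?_, rfl⟩
  simpa using h

theorem eis_inj {a b a' b' : ℤ} (h : (a : ℂ) + (b : ℂ) * om = (a' : ℂ) + (b' : ℂ) * om) :
    a = a' ∧ b = b' := by
  have := eis_eq_zero (a := a - a') (b := b - b') (by push_cast; linear_combination h)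
  omega

/-- The Eisenstein integers. -/
def IsEis (x : ℂ) : Prop := ∃ a b : ℤ, x = (a : ℂ) + (b : ℂ) * om

theorem IsEis.add {x y : ℂ} (hx : IsEis x) (hy : IsEis y) : IsEis (x + y) := by
  obtain ⟨a, b, rfl⟩ := hx
  obtain ⟨c, d, rfl⟩ := hy
  exact ⟨a + c, b + d, by push_cast; ring⟩

theorem IsEis.int_mul {x : ℂ} (hx : IsEis x) (k : ℤ) : IsEis ((k : ℂ) * x) := by
  obtain ⟨a, b, rfl⟩ := hx
  exact ⟨k * a, k * b, by push_cast; ring⟩

theorem IsEis.zero : IsEis 0 := ⟨0, 0, by simp⟩

theorem IsEis.sum {ι : Type*} (s : Finset ι) {f : ι → ℂ} (h : ∀ i ∈ s, IsEis (f i)) :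
    IsEis (∑ i ∈ s, f i) := Finset.sum_induction f IsEis (fun _ _ => IsEis.add) IsEis.zero h

theorem isEis_root {ζ : ℂ} (h : ζ ^ 3 = 1) :
    ∃ a b : ℤ, ζ = (a : ℂ) + (b : ℂ) * om ∧ (3 : ℤ) ∣ a + b - 1 := by
  obtain ⟨i, hi, rfl⟩ := om_primitive.eq_pow_of_pow_eq_one h
  interval_cases i
  · exact ⟨1, 0, by simp, by norm_num⟩
  · exact ⟨0, 1, by simp, by norm_num⟩
  · exact ⟨-1, -1, by rw [om_sq]; push_cast; ring, by norm_num⟩

variable {G : Type u} [Group G] [Finite G]

/-- A real value at an element of order dividing three is a rational integer congruent to the degree. -/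
theorem value_real {χ : G → ℂ} (hχ : IsCharacter G χ) {x : G} (hx : x ^ 3 = 1)
    (hreal : χ x⁻¹ = χ x) : ∃ u : ℤ, χ x = u ∧ (3 : ℤ) ∣ u - (charDegree χ : ℤ) := by
  obtain ⟨d, ρ, hρ⟩ := hχ
  obtain ⟨z, hz, hsum⟩ := exists_roots_char_pow ρ x
  have hz3 : ∀ i, z i ^ 3 = 1 := fun i => by
    obtain ⟨k, hk⟩ := orderOf_dvd_of_pow_eq_one hx
    rw [hk, pow_mul, (hz i), one_pow]
  choose a b hab hc using fun i => isEis_root (hz3 i)
  have h1 : χ x = ((∑ i, a i : ℤ) : ℂ) + ((∑ i, b i : ℤ) : ℂ) * om := by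
    rw [← hρ, ← pow_one x, hsum 1]
    simp only [pow_one, hab, Finset.sum_add_distrib, ← Finset.sum_mul]
    push_cast; rfl
  have h2 : conj (χ x) = χ x := by rw [← char_inv ⟨d, ρ, hρ⟩, hreal]
  rw [h1] at h2
  simp only [map_add, map_mul, map_intCast, conj_om] at h2
  obtain ⟨-, hb⟩ := eis_inj (a := (∑ i, a i) - ∑ i, b i) (b := -∑ i, b i) (a' := ∑ i, a i) (b' := ∑ i, b i)
    (by push_cast; push_cast at h2; linear_combination h2)
  refine ⟨∑ i, a i, by rw [h1, show ∑ i, b i = 0 by omega]; simp, ?_⟩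
  have h3 : χ 1 = (Module.finrank ℂ (Fin d → ℂ) : ℂ) := by rw [← hρ]; simp
  have h4 : (charDegree χ : ℤ) = Module.finrank ℂ (Fin d → ℂ) := by
    have := CfsgLib.Blocks.charDegree_eq (⟨d, ρ, hρ⟩ : IsCharacter G χ)
    rw [h3] at this
    exact_mod_cast this.symm
  have h5 : (3 : ℤ) ∣ ∑ i, (a i + b i - 1) := Finset.dvd_sum fun i _ => hc i
  simp only [Finset.sum_sub_distrib, Finset.sum_add_distrib] at h5
  rw [show ∑ i, b i = 0 by omega] at h5
  rw [h4]
  simpa using h5

/-- An irreducible character at a central element of order dividing three. -/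
theorem central_value {χ : G → ℂ} (hχ : IsIrrCharacter G χ) {z : G} (hz : z ∈ Subgroup.center G)
    (hz3 : z ^ 3 = 1) : ∃ ζ : ℂ, ζ ^ 3 = 1 ∧ ∀ y, χ (z * y) = ζ * χ y := by
  have := Fintype.ofFinite G
  have h1 : χ 1 ≠ 0 := irr_one_ne_zero hχ
  have hmul : ∀ y, χ (z * y) = χ z / χ 1 * χ y := by
    intro y
    have h := sum_char_conj_mul hχ z y
    rw [Finset.sum_congr rfl fun b _ => show χ (b * z * b⁻¹ * y) = χ (z * y) by
      rw [Subgroup.mem_center_iff.1 hz b, mul_inv_cancel_right]] at h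
    rw [Finset.sum_const, Finset.card_univ, ← Nat.card_eq_fintype_card, nsmul_eq_mul] at h
    refine mul_left_cancel₀ (card_ne_zero' (G := G)) ?_
    rw [h]; ring
  refine ⟨χ z / χ 1, ?_, hmul⟩
  have h3 := hmul z
  have h4 := hmul (z * z)
  rw [show z * (z * z) = z ^ 3 by rw [pow_succ, pow_two, mul_assoc], hz3] at h4
  refine mul_right_cancel₀ h1 ?_
  rw [h3] at h4
  have hz' : χ z = χ z / χ 1 * χ 1 := by field_simp
  nth_rewrite 3 [hz'] at h4
  rw [one_mul]
  linear_combination -h4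

/-- Values at a central element of the derived subgroup of a Sylow subgroup. -/
theorem value_central_derived {χ : G → ℂ} (hχ : IsCharacter G χ) (S : Subgroup G)
    (hS : IsPGroup 3 S) {z : S} (hz : z ∈ Subgroup.center S) (hz3 : z ^ 3 = 1)
    (hzd : z ∈ commutator S) :
    ∃ A B : ℤ, χ z = (A : ℂ) + (B : ℂ) * om ∧ (3 : ℤ) ∣ B ∧ (3 : ℤ) ∣ A - (charDegree χ : ℤ) := by
  classical
  have := Fintype.ofFinite S
  obtain ⟨m, hm, -⟩ := char_decomp (isCharacter_res S hχ)
  have hμ : ∀ μ : IrrCharacter S, ∃ a b : ℤ, (μ : S → ℂ) z = (a : ℂ) + (b : ℂ) * om ∧ (3 : ℤ) ∣ b ∧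
      (3 : ℤ) ∣ a - (charDegree (μ : S → ℂ) : ℤ) := by
    intro μ
    have hd := CfsgLib.Blocks.charDegree_eq (isCharacter_of_isIrr μ.2)
    by_cases h1 : charDegree (μ : S → ℂ) = 1
    · refine ⟨1, 0, ?_, dvd_zero _, by rw [h1]; norm_num⟩
      have hlin : (μ : S → ℂ) 1 = 1 := by rw [hd, h1, Nat.cast_one]
      have hk := Abelianization.commutator_subset_ker (linearHom (isCharacter_of_isIrr μ.2) hlin) hzd
      rw [MonoidHom.mem_ker] at hk
      rw [← linearHom_apply (isCharacter_of_isIrr μ.2) hlin, hk]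
      simp
    · obtain ⟨ζ, hζ, hmul⟩ := central_value μ.2 hz hz3
      obtain ⟨a, b, hab, -⟩ := isEis_root hζ
      have h3 : (3 : ℤ) ∣ (charDegree (μ : S → ℂ) : ℤ) := by
        obtain ⟨i, hi⟩ := IsPGroup.iff_card.1 hS
        obtain ⟨j, -, hj⟩ := (Nat.dvd_prime_pow (by norm_num : Nat.Prime 3)).1
          (hi ▸ CfsgLib.CharBlocks.charDegree_dvd_card μ.2)
        have hj0 : j ≠ 0 := fun h => h1 (by rw [hj, h, pow_zero])
        rw [hj]; exact_mod_cast dvd_pow_self 3 hj0
      refine ⟨a * charDegree (μ : S → ℂ), b * charDegree (μ : S → ℂ), ?_, h3.mul_left b,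
        dvd_sub (h3.mul_left a) h3⟩
      have hz1 := hmul 1
      rw [mul_one] at hz1
      rw [hz1, hd, hab]; push_cast; ring
  choose a b hab hb ha using hμ
  refine ⟨∑ μ, (m μ : ℤ) * a μ, ∑ μ, (m μ : ℤ) * b μ, ?_, Finset.dvd_sum fun μ _ => (hb μ).mul_left _, ?_⟩
  · have h := congrFun hm z
    simp only [Finset.sum_apply, Pi.smul_apply, smul_eq_mul, hab] at h
    rw [h]
    push_cast
    rw [Finset.sum_mul, ← Finset.sum_add_distrib]
    exact Finset.sum_congr rfl fun μ _ => by ring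
  · have h := congrFun hm 1
    simp only [Finset.sum_apply, Pi.smul_apply, smul_eq_mul, OneMemClass.coe_one,
      CfsgLib.Blocks.charDegree_eq hχ, fun μ : IrrCharacter S => CfsgLib.Blocks.charDegree_eq (isCharacter_of_isIrr μ.2)] at h
    have h' : (charDegree χ : ℤ) = ∑ μ : IrrCharacter S, (m μ : ℤ) * (charDegree (μ : S → ℂ) : ℤ) := by
      exact_mod_cast h
    rw [h', ← Finset.sum_sub_distrib]
    exact Finset.dvd_sum fun μ _ => by rw [← mul_sub]; exact (ha μ).mul_left _

/-- No member of the principal block vanishes at an element with class size prime to `p`. -/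
theorem value_ne_zero {M : Ideal AlgInt} [M.IsMaximal] {p : ℕ} (hM : IsPModular p M)
    {χ : IrrCharacter G} (hχ : χ ∈ principalBlock M G) {x : G}
    (hx : ¬ p ∣ (Subgroup.centralizer ({x} : Set G)).index) : (χ : G → ℂ) x ≠ 0 := by
  intro h0
  have h := hχ x
  simp only [centralChar, h0, mul_zero, zero_div, sub_zero, mul_one, div_one] at h
  obtain ⟨a, b, ha, hb, hab⟩ := h
  have hb0 : (b : ℂ) ≠ 0 := fun hz => hb (by
    rw [show b = 0 from Subtype.ext hz]; exact M.zero_mem)
  have he : a = ((Subgroup.centralizer ({x} : Set G)).index : AlgInt) * b := by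
    apply Subtype.ext
    rw [div_eq_iff hb0] at hab
    simpa using hab
  rw [he] at ha
  rcases (Ideal.IsMaximal.isPrime inferInstance).mem_or_mem ha with h | h
  · exact hx ((natCast_mem_iff hM _).1 h)
  · exact hb h

end CfsgLib.Blocks.ExtraThree
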