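import Mathlib
import Cfsg.Agent.Lib.Blocks.ExtraThree.Section
import Cfsg.Agent.Lib.Blocks.ExtraThree.Values
import Cfsg.Agent.Lib.Blocks.ExtraThree.Fusion
import Cfsg.Agent.Lib.Blocks.ExtraThree.Comb
import Cfsg.Agent.Lib.Blocks.ThreeChars.Basic

/-!
# The quotient of the centralizer of the centre

* `Setup.exists_local`: the principal block of `C(z) ⧸ ⟨z⟩`, its columns at the noncentral classes,
  the relations between its members on regular elements and the rank of the principal block of `C(z)`.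
-/

set_option autoImplicit false

noncomputable section

namespace CfsgLib.Blocks.ExtraThree

open Cfsg CfsgLib.Blocks CfsgLib.BlockArith CfsgLib.Char
open scoped ComplexConjugate commutatorElement

universe u

variable {M : Ideal AlgInt} [M.IsMaximal] {G : Type u} [Group G] [Fintype G] {P : Sylow 3 G}

namespace Setup

variable (D : Setup P)

/-- The centralizer of `z`. -/
abbrev Cz : Subgroup G := Subgroup.centralizer ({D.z} : Set G)

/-- `z` in its centralizer. -/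
def zC : D.Cz := ⟨D.z, Subgroup.mem_centralizer_singleton_iff.2 rfl⟩

theorem zC_center : D.zC ∈ Subgroup.center D.Cz :=
  Subgroup.mem_center_iff.2 fun w => Subtype.ext (Subgroup.mem_centralizer_singleton_iff.1 w.2)

/-- The subgroup generated by `z` in its centralizer. -/
abbrev Kz : Subgroup D.Cz := Subgroup.zpowers D.zC

theorem Kz_le_center : D.Kz ≤ Subgroup.center D.Cz := Subgroup.zpowers_le.2 D.zC_center

instance Kz_normal : D.Kz.Normal :=
  ⟨fun k hk w => by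
    rw [Subgroup.mem_center_iff.1 (D.Kz_le_center hk) w, mul_inv_cancel_right]; exact hk⟩

theorem orderOf_zC : orderOf D.zC = 3 := by rw [← D.orderOf_z]; exact (Subgroup.orderOf_coe D.zC).symm

theorem card_Kz : Nat.card D.Kz = 3 := by rw [Nat.card_zpowers, D.orderOf_zC]

theorem Kz_isPGroup : IsPGroup 3 D.Kz := IsPGroup.of_card (n := 1) (by rw [D.card_Kz, pow_one])

theorem P_le_Cz : (P : Subgroup G) ≤ D.Cz := fun y hy =>
  Subgroup.mem_centralizer_singleton_iff.2 (D.hzc y hy).symm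

theorem mem_Kz_iff (w : D.Cz) : w ∈ D.Kz ↔ (w : G) ∈ Subgroup.zpowers D.z := by
  constructor
  · rintro ⟨k, rfl⟩; exact ⟨k, by simp [zC]⟩
  · rintro ⟨k, hk⟩; exact ⟨k, Subtype.ext (by simpa [zC] using hk)⟩

/-- The image of an element of `P`. -/
def bar {x : G} (hx : x ∈ (P : Subgroup G)) : D.Cz ⧸ D.Kz :=
  QuotientGroup.mk (⟨x, D.P_le_Cz hx⟩ : D.Cz)

theorem bar_ne_one {x : G} (hx : x ∈ (P : Subgroup G)) (hxZ : x ∉ Subgroup.zpowers D.z) :
    D.bar hx ≠ 1 := fun h => hxZ ((D.mem_Kz_iff _).1 ((QuotientGroup.eq_one_iff _).1 h))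

theorem bar_order {x : G} (hx : x ∈ (P : Subgroup G)) : ∃ k : ℕ, orderOf (D.bar hx) = 3 ^ k := by
  have h : D.bar hx ^ 3 = 1 := by
    rw [Setup.bar, ← QuotientGroup.mk_pow, QuotientGroup.eq_one_iff]
    have : (⟨x, D.P_le_Cz hx⟩ : D.Cz) ^ 3 = 1 := Subtype.ext (D.hexp x hx)
    rw [this]; exact one_mem _
  rcases (Nat.dvd_prime (by norm_num : Nat.Prime 3)).1 (orderOf_dvd_of_pow_eq_one h) with h | h
  · exact ⟨0, by rw [h, pow_zero]⟩
  · exact ⟨1, by rw [h, pow_one]⟩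

/-- The Sylow subgroup of the quotient. -/
def barP : Sylow 3 (D.Cz ⧸ D.Kz) :=
  Sylow.mapSurjective (QuotientGroup.mk'_surjective D.Kz) (P.subtype D.P_le_Cz)

theorem mem_barP {q : D.Cz ⧸ D.Kz} :
    q ∈ (D.barP : Subgroup (D.Cz ⧸ D.Kz)) ↔ ∃ (x : G) (hx : x ∈ (P : Subgroup G)), D.bar hx = q := by
  rw [Setup.barP, Sylow.coe_mapSurjective, Sylow.coe_subtype, Subgroup.mem_map]
  constructor
  · rintro ⟨w, hw, rfl⟩; exact ⟨w, hw, rfl⟩
  · rintro ⟨x, hx, rfl⟩; exact ⟨⟨x, D.P_le_Cz hx⟩, hx, rfl⟩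

theorem bar_commute {x y : G} (hx : x ∈ (P : Subgroup G)) (hy : y ∈ (P : Subgroup G)) :
    D.bar hx * D.bar hy = D.bar hy * D.bar hx := by
  rw [Setup.bar, Setup.bar, ← QuotientGroup.mk_mul, ← QuotientGroup.mk_mul, QuotientGroup.eq, D.mem_Kz_iff]
  have h := D.hcomm y⁻¹ (inv_mem hy) x⁻¹ (inv_mem hx)
  rw [commutatorElement_def, inv_inv, inv_inv] at h
  simpa [mul_assoc] using h

theorem card_barP : Nat.card (D.barP : Subgroup (D.Cz ⧸ D.Kz)) = 9 := by
  have h1 := (D.barP).card_eq_multiplicity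
  have h2 := (P.subtype D.P_le_Cz).card_eq_multiplicity
  rw [Sylow.coe_subtype, Nat.card_congr (Subgroup.subgroupOfEquivOfLe D.P_le_Cz).toEquiv, D.h27,
    D.Kz.card_eq_card_quotient_mul_card_subgroup, D.card_Kz] at h2
  rw [Nat.factorization_mul Nat.card_pos.ne' (by norm_num), Finsupp.add_apply,
    Nat.Prime.factorization_self (by norm_num : Nat.Prime 3), pow_succ] at h2
  rw [h1]
  omega

theorem complement_bar {x : G} (hx : x ∈ (P : Subgroup G)) (hxZ : x ∉ Subgroup.zpowers D.z) :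
    HasNormalPComplement 3 (Subgroup.centralizer ({D.bar hx} : Set (D.Cz ⧸ D.Kz))) := by
  set C := Subgroup.centralizer ({D.bar hx} : Set (D.Cz ⧸ D.Kz))
  have hle : (D.barP : Subgroup (D.Cz ⧸ D.Kz)) ≤ C := by
    intro q hq
    obtain ⟨y, hy, rfl⟩ := D.mem_barP.1 hq
    exact Subgroup.mem_centralizer_singleton_iff.2 (D.bar_commute hy hx)
  refine CfsgLib.Transfer.hasNormalPComplement_of_normalizer_le_centralizer (D.barP.subtype hle)
    fun n hn => ?_
  rw [Subgroup.mem_centralizer_iff]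
  intro q hq
  obtain ⟨y, hy, hyq⟩ := D.mem_barP.1 (show (q : D.Cz ⧸ D.Kz) ∈ (D.barP : Subgroup _) from hq)
  obtain ⟨w, hw⟩ := QuotientGroup.mk_surjective (n : D.Cz ⧸ D.Kz)
  -- the lift normalizes `P`
  have hwN : (w : G) ∈ Subgroup.normalizer ((P : Subgroup G) : Set G) := by
    refine Subgroup.mem_normalizer_fintype fun v hv => ?_
    have hvq : (⟨D.bar hv, hle (D.mem_barP.2 ⟨v, hv, rfl⟩)⟩ : C) ∈
        ((D.barP.subtype hle : Sylow 3 C) : Subgroup C) := by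
      rw [Sylow.coe_subtype, Subgroup.mem_subgroupOf]
      exact D.mem_barP.2 ⟨v, hv, rfl⟩
    have h2 := (Subgroup.mem_normalizer_iff.1 hn _).1 hvq
    rw [Sylow.coe_subtype, Subgroup.mem_subgroupOf] at h2
    obtain ⟨u, hu, huv⟩ := D.mem_barP.1 h2
    simp only [Subgroup.coe_mul, Subgroup.coe_inv, ← hw, Setup.bar, ← QuotientGroup.mk_inv,
      ← QuotientGroup.mk_mul, QuotientGroup.eq, D.mem_Kz_iff] at huv
    show _ ∈ (P : Subgroup G)
    have := mul_mem hu (D.zpowers_le huv)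
    simpa [mul_assoc] using this
  -- it fixes `x` modulo `z`
  have hnx : x⁻¹ * ((w : G) * x * (w : G)⁻¹) ∈ Subgroup.zpowers D.z := by
    have h := Subgroup.mem_centralizer_singleton_iff.1 n.2
    rw [← eq_mul_inv_iff_mul_eq, ← hw] at h
    have h' : D.bar hx = (w : D.Cz ⧸ D.Kz) * D.bar hx * ((w : D.Cz ⧸ D.Kz))⁻¹ := by
      have h3 := Subgroup.mem_centralizer_singleton_iff.1 n.2
      rw [← hw] at h3
      rw [h3, mul_inv_cancel_right]
    simp only [Setup.bar, ← QuotientGroup.mk_inv, ← QuotientGroup.mk_mul, QuotientGroup.eq,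
      D.mem_Kz_iff] at h'
    simpa [mul_assoc] using h'
  have hwPC := D.mem_PC_of_fix hx hxZ hwN hnx
  have hyw := D.conj_mem_coset_PC hy hwPC
  apply Subtype.ext
  rw [Subgroup.coe_mul, Subgroup.coe_mul, ← hw, ← hyq]
  have hyw' : D.bar hy = (w : D.Cz ⧸ D.Kz) * D.bar hy * ((w : D.Cz ⧸ D.Kz))⁻¹ := by
    simp only [Setup.bar, ← QuotientGroup.mk_inv, ← QuotientGroup.mk_mul, QuotientGroup.eq, D.mem_Kz_iff]
    simpa [mul_assoc] using hyw
  conv_lhs => rw [hyw']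
  rw [inv_mul_cancel_right]

/-- The classes of `3`-elements of the quotient. -/
theorem bar_cover {m : ℕ} {xr : Fin m → G} (hxr : ∀ i, xr i ∈ (P : Subgroup G) ∧ xr i ∉ Subgroup.zpowers D.z)
    (hcov : ∀ w ∈ (P : Subgroup G), w ∉ Subgroup.zpowers D.z → ∃ i, IsConj w (xr i))
    {q : D.Cz ⧸ D.Kz} (hq : q ≠ 1) (hqo : ∃ k : ℕ, orderOf q = 3 ^ k) :
    ∃ i, IsConj q (D.bar (hxr i).1) := by
  obtain ⟨k, hk⟩ := hqo
  have hqP : IsPGroup 3 (Subgroup.zpowers q) := IsPGroup.of_card (n := k) (by rw [Nat.card_zpowers, hk])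
  obtain ⟨R, hR⟩ := hqP.exists_le_sylow
  obtain ⟨c, hc⟩ := MulAction.exists_smul_eq (D.Cz ⧸ D.Kz) R D.barP
  have hmem : c * q * c⁻¹ ∈ (D.barP : Subgroup _) := by
    rw [← hc, Sylow.coe_subgroup_smul]
    exact ⟨q, hR (Subgroup.mem_zpowers q), rfl⟩
  obtain ⟨y, hy, hyq⟩ := D.mem_barP.1 hmem
  have hyZ : y ∉ Subgroup.zpowers D.z := fun h => hq (by
    have h1 : D.bar hy = 1 := (QuotientGroup.eq_one_iff _).2 ((D.mem_Kz_iff _).2 h)
    rw [h1] at hyq
    exact conj_eq_one_iff.1 hyq.symm)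
  obtain ⟨i, hi⟩ := hcov y hy hyZ
  obtain ⟨g, hg⟩ := isConj_iff.1 hi
  obtain ⟨n, hn, hnx⟩ := D.fusion hy hyZ (hxr i).1 hg
  have hnC : n ∈ D.Cz := Subgroup.mem_centralizer_singleton_iff.2 (mul_inv_eq_iff_eq_mul.1 (D.hN n hn))
  refine ⟨i, (isConj_iff.2 ⟨c, hyq.symm⟩).trans (isConj_iff.2 ⟨QuotientGroup.mk (⟨n, hnC⟩ : D.Cz), ?_⟩)⟩
  simp only [Setup.bar, ← QuotientGroup.mk_inv, ← QuotientGroup.mk_mul]
  congr 1
  exact Subtype.ext hnx

theorem bar_inj {x y : G} (hx : x ∈ (P : Subgroup G)) (hy : y ∈ (P : Subgroup G))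
    (hyZ : y ∉ Subgroup.zpowers D.z) (h : IsConj (D.bar hx) (D.bar hy)) : IsConj x y := by
  obtain ⟨c, hc⟩ := isConj_iff.1 h
  obtain ⟨c, rfl⟩ := QuotientGroup.mk_surjective c
  simp only [Setup.bar, ← QuotientGroup.mk_inv, ← QuotientGroup.mk_mul, QuotientGroup.eq,
    D.mem_Kz_iff, Subgroup.coe_mul, Subgroup.coe_inv] at hc
  have hc' : y⁻¹ * ((c : G) * x * (c : G)⁻¹) ∈ Subgroup.zpowers D.z := by
    simpa [mul_assoc] using inv_mem hc
  obtain ⟨v, -, hv⟩ := D.exists_conj_coset hy hyZ hc'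
  exact (isConj_iff.2 ⟨(c : G), rfl⟩).trans (isConj_iff.2 ⟨v, hv⟩).symm

/-- The data of the quotient. -/
structure LocalData (M : Ideal AlgInt) (m : ℕ) (xr : Fin m → G)
    (hxr : ∀ i, xr i ∈ (P : Subgroup G)) where
  v : Fin m → {θ : IrrCharacter (D.Cz ⧸ D.Kz) // θ ∈ principalBlock M (D.Cz ⧸ D.Kz)} → ℤ
  hv : ∀ k θ, (θ.1 : D.Cz ⧸ D.Kz → ℂ) (D.bar (hxr k)) = (v k θ : ℂ)
  v_ne : ∀ k θ, v k θ ≠ 0
  v_deg : ∀ k θ, (3 : ℤ) ∣ v k θ - (charDegree (θ.1 : D.Cz ⧸ D.Kz → ℂ) : ℤ)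
  gvv : ∀ k l, ∀ [Fintype {θ : IrrCharacter (D.Cz ⧸ D.Kz) // θ ∈ principalBlock M (D.Cz ⧸ D.Kz)}],
    ∑ θ, v k θ * v l θ = if k = l then 9 else 0
  card : Nat.card {θ : IrrCharacter (D.Cz ⧸ D.Kz) // θ ∈ principalBlock M (D.Cz ⧸ D.Kz)} = 6 ∨
    (Nat.card {θ : IrrCharacter (D.Cz ⧸ D.Kz) // θ ∈ principalBlock M (D.Cz ⧸ D.Kz)} = 9 ∧ m = 1 ∧
      ∀ k θ, v k θ = 1 ∨ v k θ = -1)
  rank : blockRank 3 (principalBlock M D.Cz) + m =
    Nat.card {θ : IrrCharacter (D.Cz ⧸ D.Kz) // θ ∈ principalBlock M (D.Cz ⧸ D.Kz)}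
  ker : ∀ [Fintype {θ : IrrCharacter (D.Cz ⧸ D.Kz) // θ ∈ principalBlock M (D.Cz ⧸ D.Kz)}]
    (c : {θ : IrrCharacter (D.Cz ⧸ D.Kz) // θ ∈ principalBlock M (D.Cz ⧸ D.Kz)} → ℂ),
    (∀ h : D.Cz ⧸ D.Kz, ¬ 3 ∣ orderOf h → ∑ θ, c θ * (θ.1 : D.Cz ⧸ D.Kz → ℂ) h = 0) →
      ∀ θ, 9 * c θ = ∑ k, (∑ θ', (v k θ' : ℂ) * c θ') * (v k θ : ℂ)

theorem exists_local (hM : IsPModular 3 M) {m : ℕ} (hm : m = 1 ∨ m = 2 ∨ m = 4) (xr : Fin m → G)
    (hxr : ∀ i, xr i ∈ (P : Subgroup G) ∧ xr i ∉ Subgroup.zpowers D.z)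
    (hinj : ∀ i j, IsConj (xr i) (xr j) → i = j)
    (hcov : ∀ w ∈ (P : Subgroup G), w ∉ Subgroup.zpowers D.z → ∃ i, IsConj w (xr i))
    (hreal : ∀ i, IsConj (xr i) (xr i)⁻¹) :
    Nonempty (D.LocalData M m xr fun i => (hxr i).1) := by
  classical
  have := Fintype.ofFinite (D.Cz ⧸ D.Kz)
  have iF : Fintype {θ : IrrCharacter (D.Cz ⧸ D.Kz) // θ ∈ principalBlock M (D.Cz ⧸ D.Kz)} :=
    Fintype.ofFinite _
  set xb : Fin m → D.Cz ⧸ D.Kz := fun i => D.bar (hxr i).1 with hxb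
  have hxb_inj : ∀ i j, IsConj (xb i) (xb j) → i = j := fun i j h =>
    hinj i j (D.bar_inj (hxr i).1 (hxr j).1 (hxr j).2 h)
  have hxb1 : ∀ i, xb i ≠ 1 := fun i => D.bar_ne_one (hxr i).1 (hxr i).2
  have hxbo : ∀ i, ∃ k : ℕ, orderOf (xb i) = 3 ^ k := fun i => D.bar_order (hxr i).1
  have hcube : ∀ i, xb i ^ 3 = 1 := fun i => by
    simp only [hxb, Setup.bar, ← QuotientGroup.mk_pow]
    rw [show (⟨xr i, D.P_le_Cz (hxr i).1⟩ : D.Cz) ^ 3 = 1 from Subtype.ext (D.hexp _ (hxr i).1),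
      QuotientGroup.mk_one]
  -- realness
  have hreal' : ∀ i, IsConj (xb i) (xb i)⁻¹ := by
    intro i
    obtain ⟨g, hg⟩ := isConj_iff.1 (hreal i)
    obtain ⟨n, hn, hnx⟩ := D.fusion (hxr i).1 (hxr i).2 (inv_mem (hxr i).1) hg
    have hnC : n ∈ D.Cz := Subgroup.mem_centralizer_singleton_iff.2 (mul_inv_eq_iff_eq_mul.1 (D.hN n hn))
    refine isConj_iff.2 ⟨QuotientGroup.mk (⟨n, hnC⟩ : D.Cz), ?_⟩
    simp only [hxb, Setup.bar, ← QuotientGroup.mk_inv, ← QuotientGroup.mk_mul]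
    congr 1
    exact Subtype.ext hnx
  have hval : ∀ (k : Fin m) (θ : {θ : IrrCharacter (D.Cz ⧸ D.Kz) // θ ∈ principalBlock M (D.Cz ⧸ D.Kz)}),
      ∃ u : ℤ, (θ.1 : D.Cz ⧸ D.Kz → ℂ) (xb k) = u ∧
        (3 : ℤ) ∣ u - (charDegree (θ.1 : D.Cz ⧸ D.Kz → ℂ) : ℤ) := fun k θ =>
    value_real (isCharacter_of_isIrr θ.1.2) (hcube k)
      ((isClassFunction_iff.1 (isClassFunction_of_isIrr θ.1.2)) _ _ (hreal' k)).symm
  choose v hv hvd using hval
  have hv0 : ∀ k θ, v k θ ≠ 0 := by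
    intro k θ h
    refine value_ne_zero hM θ.2 (x := xb k) ?_ (by rw [hv, h, Int.cast_zero])
    intro hd
    refine D.barP.not_dvd_index (hd.trans (Subgroup.index_dvd_of_le fun q hq => ?_))
    obtain ⟨y, hy, rfl⟩ := D.mem_barP.1 hq
    exact Subgroup.mem_centralizer_singleton_iff.2 (D.bar_commute hy (hxr k).1)
  have hsum : ∀ f : IrrCharacter (D.Cz ⧸ D.Kz) → ℂ,
      ∑ θ : {θ : IrrCharacter (D.Cz ⧸ D.Kz) // θ ∈ principalBlock M (D.Cz ⧸ D.Kz)}, f θ.1 =
        ∑ θ : IrrCharacter (D.Cz ⧸ D.Kz), if θ ∈ principalBlock M (D.Cz ⧸ D.Kz) then f θ else 0 := by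
    intro f
    rw [← Finset.sum_filter, ← Finset.sum_subtype
      (Finset.univ.filter fun θ => θ ∈ principalBlock M (D.Cz ⧸ D.Kz)) (fun θ => by simp) f]
  have hgram : ∀ k l, ∑ θ, v k θ * v l θ = if k = l then 9 else 0 := by
    intro k l
    refine Int.cast_injective (α := ℂ) ?_
    have hcast : ∀ θ : {θ : IrrCharacter (D.Cz ⧸ D.Kz) // θ ∈ principalBlock M (D.Cz ⧸ D.Kz)},
        ((v k θ * v l θ : ℤ) : ℂ) =
          (θ.1 : D.Cz ⧸ D.Kz → ℂ) (xb k) * conj ((θ.1 : D.Cz ⧸ D.Kz → ℂ) (xb l)) := fun θ => by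
      rw [hv, hv, map_intCast]; push_cast; rfl
    push_cast at hcast ⊢
    rw [Finset.sum_congr rfl fun θ _ => hcast θ,
      hsum (fun θ => (θ : D.Cz ⧸ D.Kz → ℂ) (xb k) * conj ((θ : D.Cz ⧸ D.Kz → ℂ) (xb l)))]
    split_ifs with hkl
    · subst hkl
      have := Fintype.ofFinite (Subgroup.centralizer ({xb k} : Set (D.Cz ⧸ D.Kz)))
      have hnc := CfsgLib.OddLocal.Ten.index_pPrimeCore_eq_pow (D.complement_bar (hxr k).1 (hxr k).2)
      have h1 := sum_principal_section_complement hM (hxbo k) hnc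
        (y := (1 : Subgroup.centralizer ({xb k} : Set (D.Cz ⧸ D.Kz)))) (by simp)
      simp only [OneMemClass.coe_one, mul_one] at h1
      rw [h1]
      have hle : (D.barP : Subgroup (D.Cz ⧸ D.Kz)) ≤ Subgroup.centralizer ({xb k} : Set (D.Cz ⧸ D.Kz)) :=
        fun q hq => by
          obtain ⟨y, hy, rfl⟩ := D.mem_barP.1 hq
          exact Subgroup.mem_centralizer_singleton_iff.2 (D.bar_commute hy (hxr k).1)
      rw [← (D.barP.subtype hle).card_eq_multiplicity, Sylow.coe_subtype,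
        Nat.card_congr (Subgroup.subgroupOfEquivOfLe hle).toEquiv, D.card_barP]
      norm_num
    · simpa using CfsgLib.CharBlocks.principal_column_ne hM (hxbo k) (hxbo l) fun h => hkl (hxb_inj k l h)
  -- counting
  have hcount := principal_count hM xb hxbo hxb_inj hxb1 fun q hq hqo => D.bar_cover hxr hcov hq hqo
  have hone : ∀ i, blockRank 3 (principalBlock M (Subgroup.centralizer ({xb i} : Set (D.Cz ⧸ D.Kz)))) = 1 :=
    fun i => by
      have := Fintype.ofFinite (Subgroup.centralizer ({xb i} : Set (D.Cz ⧸ D.Kz)))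
      exact blockRank_principal_complement hM (D.complement_bar (hxr i).1 (hxr i).2)
  rw [Finset.sum_congr rfl fun i _ => hone i] at hcount
  simp only [Finset.sum_const, Finset.card_univ, Fintype.card_fin, smul_eq_mul, mul_one] at hcount
  have hC : ∃ k : ℕ, (Subgroup.centralizer (D.Kz : Set D.Cz)).index = 3 ^ k :=
    ⟨0, by rw [pow_zero, Subgroup.index_eq_one, Subgroup.centralizer_eq_top_iff_subset]; exact D.Kz_le_center⟩
  have hrank : blockRank 3 (principalBlock M D.Cz) = blockRank 3 (principalBlock M (D.Cz ⧸ D.Kz)) := by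
    rw [blockRank_inflSet hM D.Kz_isPGroup hC isPBlock_principalBlock,
      inflSet_principal D.Kz hM D.Kz_isPGroup hC]
  -- the one-row
  set θ₀ : {θ : IrrCharacter (D.Cz ⧸ D.Kz) // θ ∈ principalBlock M (D.Cz ⧸ D.Kz)} :=
    ⟨irrOne, irrOne_mem_principalBlock⟩ with hθ₀
  have hv1 : ∀ k, v k θ₀ = 1 := fun k => by
    have h := hv k θ₀
    rw [show (θ₀.1 : D.Cz ⧸ D.Kz → ℂ) (xb k) = 1 from irrOne_apply _] at h
    exact_mod_cast h.symm
  have hcard : Fintype.card {θ : IrrCharacter (D.Cz ⧸ D.Kz) // θ ∈ principalBlock M (D.Cz ⧸ D.Kz)} = 6 ∨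
      (Fintype.card {θ : IrrCharacter (D.Cz ⧸ D.Kz) // θ ∈ principalBlock M (D.Cz ⧸ D.Kz)} = 9 ∧ m = 1 ∧
        ∀ k θ, v k θ = 1 ∨ v k θ = -1) := by
    rcases hm with rfl | hm2
    · rcases card_of_one_column (v 0) (by simpa using hgram 0 0) (hv0 0) (hv1 0) with h | h | ⟨h, h'⟩
      · exfalso
        have h3 := CfsgLib.Blocks.ThreeChars.card_sylow_of_card_eq_three hM
          (show Nat.card (principalBlock M (D.Cz ⧸ D.Kz)) = 3 by
            rw [← h, ← Nat.card_eq_fintype_card]) D.barP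
        rw [D.card_barP] at h3
        norm_num at h3
      · exact Or.inl h
      · exact Or.inr ⟨h, rfl, fun k θ => by fin_cases k; exact h' θ⟩
    · left
      have h01 : (⟨0, by omega⟩ : Fin m) ≠ ⟨1, by omega⟩ := by simp
      refine card_of_two_columns (v ⟨0, by omega⟩) (v ⟨1, by omega⟩) (by simpa using hgram ⟨0, by omega⟩ ⟨0, by omega⟩)
        (by simpa using hgram ⟨1, by omega⟩ ⟨1, by omega⟩) (by simpa [h01] using hgram ⟨0, by omega⟩ ⟨1, by omega⟩)
        (hv0 _) (hv0 _) (fun θ => ?_) (hv1 _) (hv1 _)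
      simpa using dvd_sub (hvd ⟨0, by omega⟩ θ) (hvd ⟨1, by omega⟩ θ)
  refine ⟨{ v := v, hv := hv, v_ne := hv0, v_deg := hvd, gvv := ?_, card := ?_, rank := ?_, ker := ?_ }⟩
  · intro k l inst
    obtain rfl : inst = iF := Subsingleton.elim _ _
    exact hgram k l
  · rcases hcard with h | ⟨h, h'⟩
    · left; rwa [Nat.card_eq_fintype_card]
    · exact Or.inr ⟨by rwa [Nat.card_eq_fintype_card], h'⟩
  · rw [hrank, hcount]
  · intro inst c hc
    obtain rfl : inst = iF := Subsingleton.elim _ _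
    -- the kernel of the restriction to the regular elements is spanned by the columns
    let L : ({θ : IrrCharacter (D.Cz ⧸ D.Kz) // θ ∈ principalBlock M (D.Cz ⧸ D.Kz)} → ℂ) →ₗ[ℂ]
        (D.Cz ⧸ D.Kz → ℂ) :=
      { toFun := fun c h => ∑ θ, c θ * pRegularPart 3 (θ.1 : D.Cz ⧸ D.Kz → ℂ) h
        map_add' := fun a b => by funext h; simp [add_mul, Finset.sum_add_distrib]
        map_smul' := fun a b => by funext h; simp [Finset.mul_sum, mul_assoc] }
    have hrange : Module.finrank ℂ (LinearMap.range L) = blockRank 3 (principalBlock M (D.Cz ⧸ D.Kz)) := by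
      rw [blockRank]
      have hr : LinearMap.range L = Submodule.span ℂ
          ((fun χ : IrrCharacter (D.Cz ⧸ D.Kz) => pRegularPart 3 (χ : D.Cz ⧸ D.Kz → ℂ)) ''
            principalBlock M (D.Cz ⧸ D.Kz)) := by
        refine le_antisymm ?_ (Submodule.span_le.2 ?_)
        · rintro _ ⟨c, rfl⟩
          have : L c = ∑ θ, c θ • pRegularPart 3 (θ.1 : D.Cz ⧸ D.Kz → ℂ) := by
            funext h; simp [L]
          rw [this]
          exact Submodule.sum_mem _ fun θ _ =>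
            Submodule.smul_mem _ _ (Submodule.subset_span ⟨θ.1, θ.2, rfl⟩)
        · rintro _ ⟨θ, hθ, rfl⟩
          refine ⟨Pi.single ⟨θ, hθ⟩ 1, ?_⟩
          funext h
          simp [L, Pi.single_apply]
      rw [hr]
    have hker : Module.finrank ℂ (LinearMap.ker L) = m := by
      have h := LinearMap.finrank_range_add_finrank_ker L
      rw [hrange, Module.finrank_fintype_fun_eq_card, ← Nat.card_eq_fintype_card] at h
      change _ = Nat.card (principalBlock M (D.Cz ⧸ D.Kz)) at h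
      omega
    let w : Fin m → LinearMap.ker L := fun k => ⟨fun θ => (v k θ : ℂ), by
      rw [LinearMap.mem_ker]
      funext h
      show ∑ θ, (v k θ : ℂ) * pRegularPart 3 (θ.1 : D.Cz ⧸ D.Kz → ℂ) h = 0
      by_cases hh : 3 ∣ orderOf h
      · simp [pRegularPart_apply, hh]
      simp only [pRegularPart_apply, if_neg hh]
      have h0 := principal_pairing_zero hM (hxbo k)
        (y := (1 : Subgroup.centralizer ({xb k} : Set (D.Cz ⧸ D.Kz)))) (by simp) (g := h) (by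
          intro q hq hcj
          obtain ⟨u, hu⟩ := isConj_iff.1 hcj
          refine hh ?_
          rw [← hu, (SemiconjBy.conj_mk u (xb k * (q : D.Cz ⧸ D.Kz))).orderOf_eq.symm]
          have hcm : Commute (xb k) (q : D.Cz ⧸ D.Kz) :=
            (Subgroup.mem_centralizer_singleton_iff.1 q.2).symm
          have h3 : orderOf (xb k) = 3 := orderOf_eq_prime (hcube k) (hxb1 k)
          rw [hcm.orderOf_mul_eq_mul_orderOf_of_coprime (by
            rw [h3, Subgroup.orderOf_coe]; exact (Nat.Prime.coprime_iff_not_dvd (by norm_num)).2 hq), h3]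
          exact dvd_mul_right 3 _)
      simp only [OneMemClass.coe_one, mul_one] at h0
      rw [← hsum (fun θ => (θ : D.Cz ⧸ D.Kz → ℂ) (xb k) * conj ((θ : D.Cz ⧸ D.Kz → ℂ) h))] at h0
      have h1 := congrArg conj h0
      rw [map_sum, map_zero] at h1
      rw [← h1]
      exact Finset.sum_congr rfl fun θ _ => by rw [map_mul, Complex.conj_conj, hv, map_intCast]⟩
    have hgC : ∀ k l, ∑ θ, (v k θ : ℂ) * (v l θ : ℂ) = if k = l then 9 else 0 := fun k l => by
      have := congrArg (fun x : ℤ => (x : ℂ)) (hgram k l)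
      push_cast at this
      convert this using 2
    have hind : LinearIndependent ℂ w := by
      rw [Fintype.linearIndependent_iff]
      intro a ha l
      have h2 : ∀ θ, ∑ k, a k * (v k θ : ℂ) = 0 := fun θ => by
        have := congrFun (congrArg Subtype.val ha) θ
        simpa [w] using this
      have h3 : ∑ θ, (∑ k, a k * (v k θ : ℂ)) * (v l θ : ℂ) = 0 := by simp [h2]
      simp only [Finset.sum_mul, mul_assoc] at h3
      rw [Finset.sum_comm] at h3
      simp [← Finset.mul_sum, hgC] at h3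
      exact h3
    have hspan := hind.span_eq_top_of_card_eq_finrank' (by rw [Fintype.card_fin, hker])
    have hcmem : (⟨c, by
        rw [LinearMap.mem_ker]
        funext h
        show ∑ θ, c θ * pRegularPart 3 (θ.1 : D.Cz ⧸ D.Kz → ℂ) h = 0
        by_cases hh : 3 ∣ orderOf h
        · simp [pRegularPart_apply, hh]
        · simp only [pRegularPart_apply, if_neg hh]; exact hc h hh⟩ : LinearMap.ker L) ∈
        Submodule.span ℂ (Set.range w) := by rw [hspan]; trivial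
    obtain ⟨a, ha⟩ := (Submodule.mem_span_range_iff_exists_fun ℂ).1 hcmem
    intro θ
    have hval : ∀ θ', c θ' = ∑ k, a k * (v k θ' : ℂ) := fun θ' => by
      have := congrFun (congrArg Subtype.val ha) θ'
      simpa [w] using this.symm
    have hco : ∀ l, ∑ θ', (v l θ' : ℂ) * c θ' = 9 * a l := by
      intro l
      simp only [hval, Finset.mul_sum, mul_left_comm _ (a _)]
      rw [Finset.sum_comm]
      simp only [← Finset.mul_sum]
      simp [hgC]
      ring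
    simp only [hco, hval θ, Finset.mul_sum, mul_assoc]

end Setup

end CfsgLib.Blocks.ExtraThree
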