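import Mathlib
import Cfsg.Agent.Lib.Blocks.ExtraThree.Local
import Cfsg.Agent.Lib.Blocks.ExtraThree.Lattice

/-!
# The coefficient vectors on the section of the centre

* `Setup.exists_coefficient`: the restriction to the section of `z` in the principal block of `C(z) ⧸ ⟨z⟩`;
* `Setup.exists_coef`: the resulting `Coef`.
-/

set_option autoImplicit false

noncomputable section

namespace CfsgLib.Blocks.ExtraThree

open Cfsg CfsgLib.Blocks CfsgLib.BlockArith CfsgLib.Char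
open scoped ComplexConjugate commutatorElement

universe u

section algebra

variable {Θ : Type*} [Fintype Θ] {m : ℕ}

/-- Nine times the projection modulo the columns. -/
def pr (v : Fin m → Θ → ℤ) (p : Θ → ℤ) (θ : Θ) : ℤ := 9 * p θ - ∑ k, (∑ t, v k t * p t) * v k θ

/-- Nine times the inner product modulo the columns. -/
def form (v : Fin m → Θ → ℤ) (p q : Θ → ℤ) : ℤ :=
  9 * ∑ t, p t * q t - ∑ k, (∑ t, v k t * p t) * (∑ t, v k t * q t)

variable (v : Fin m → Θ → ℤ)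

theorem form_comm (p q : Θ → ℤ) : form v p q = form v q p := by
  unfold form
  congr 1
  · congr 1; exact Finset.sum_congr rfl fun t _ => mul_comm _ _
  · exact Finset.sum_congr rfl fun k _ => mul_comm _ _

theorem sum_pr_mul (p q : Θ → ℤ) : ∑ θ, pr v p θ * q θ = form v p q := by
  simp only [pr, form, sub_mul, Finset.sum_sub_distrib, Finset.mul_sum, Finset.sum_mul, mul_assoc]
  congr 1
  rw [Finset.sum_comm]

theorem sum_v_pr (hv : ∀ k l, ∑ t, v k t * v l t = if k = l then 9 else 0) (p : Θ → ℤ) (l : Fin m) :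
    ∑ θ, v l θ * pr v p θ = 0 := by
  simp only [pr, mul_sub, Finset.sum_sub_distrib, Finset.mul_sum]
  have e : ∀ k, ∑ θ, v l θ * ((∑ t, v k t * p t) * v k θ) = (∑ t, v k t * p t) * (if l = k then 9 else 0) := by
    intro k
    rw [← hv, Finset.mul_sum]
    exact Finset.sum_congr rfl fun θ _ => by ring
  rw [Finset.sum_comm, Finset.sum_congr rfl fun k _ => e k]
  simp only [mul_ite, mul_zero, Finset.sum_ite_eq, Finset.mem_univ, if_true, Finset.sum_mul]
  rw [← Finset.sum_sub_distrib]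
  exact Finset.sum_eq_zero fun θ _ => by ring

theorem sum_pr_pr (hv : ∀ k l, ∑ t, v k t * v l t = if k = l then 9 else 0) (p q : Θ → ℤ) :
    ∑ θ, pr v p θ * pr v q θ = 9 * form v p q := by
  rw [sum_pr_mul, form]
  simp only [sum_v_pr v hv, mul_zero, Finset.sum_const_zero, sub_zero]
  rw [Finset.sum_congr rfl fun θ _ => mul_comm (p θ) _, sum_pr_mul, form_comm]

theorem pr_mul_eis (p a b : Θ → ℤ) :
    ∑ θ, (pr v p θ : ℂ) * ((a θ : ℂ) + (b θ : ℂ) * om) = (form v a p : ℂ) + (form v b p : ℂ) * om := by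
  rw [form_comm v a p, form_comm v b p, ← sum_pr_mul v p a, ← sum_pr_mul v p b]
  push_cast
  rw [Finset.sum_mul, ← Finset.sum_add_distrib]
  exact Finset.sum_congr rfl fun θ _ => by ring

/-- A combination killed by the projection. -/
theorem pr_annihilates (p : Θ → ℤ) {c : Θ → ℂ}
    (hc : ∀ θ, 9 * c θ = ∑ k, (∑ θ', (v k θ' : ℂ) * c θ') * (v k θ : ℂ)) :
    ∑ θ, (pr v p θ : ℂ) * c θ = 0 := by
  simp only [pr]
  push_cast
  simp only [sub_mul, Finset.sum_sub_distrib, sub_eq_zero]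
  calc ∑ θ, 9 * (p θ : ℂ) * c θ
      = ∑ θ, ∑ k, (∑ θ', (v k θ' : ℂ) * c θ') * ((p θ : ℂ) * (v k θ : ℂ)) := by
        refine Finset.sum_congr rfl fun θ _ => ?_
        rw [show 9 * (p θ : ℂ) * c θ = (p θ : ℂ) * (9 * c θ) by ring, hc, Finset.mul_sum]
        exact Finset.sum_congr rfl fun k _ => by ring
    _ = ∑ k, (∑ θ', (v k θ' : ℂ) * c θ') * ∑ θ, (p θ : ℂ) * (v k θ : ℂ) := by
        rw [Finset.sum_comm]; simp only [← Finset.mul_sum]
    _ = _ := by
        symm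
        rw [Finset.sum_congr rfl fun θ _ => show (∑ k, (∑ t, (v k t : ℂ) * (p t : ℂ)) * (v k θ : ℂ)) * c θ =
          ∑ k, (∑ t, (v k t : ℂ) * (p t : ℂ)) * ((v k θ : ℂ) * c θ) by
            rw [Finset.sum_mul]; exact Finset.sum_congr rfl fun k _ => by ring, Finset.sum_comm]
        simp only [← Finset.mul_sum]
        refine Finset.sum_congr rfl fun k _ => ?_
        rw [mul_comm]
        congr 1
        exact Finset.sum_congr rfl fun _ _ => mul_comm _ _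

theorem sum_expand {ι : Type*} [Fintype ι] (F F' : ι → Θ → ℂ) (x y : Θ → ℂ) :
    ∑ θ, ∑ θ', (∑ χ, F χ θ * F' χ θ') * (x θ * y θ') =
      ∑ χ, (∑ θ, x θ * F χ θ) * (∑ θ', y θ' * F' χ θ') := by
  calc _ = ∑ θ, ∑ χ, ∑ θ', F χ θ * F' χ θ' * (x θ * y θ') := by
        refine Finset.sum_congr rfl fun θ _ => ?_
        simp only [Finset.sum_mul]
        exact Finset.sum_comm
    _ = ∑ χ, ∑ θ, ∑ θ', F χ θ * F' χ θ' * (x θ * y θ') := Finset.sum_comm
    _ = _ := by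
        refine Finset.sum_congr rfl fun χ _ => ?_
        rw [Finset.sum_mul_sum]
        exact Finset.sum_congr rfl fun θ _ => Finset.sum_congr rfl fun θ' _ => by ring

end algebra

variable {M : Ideal AlgInt} [M.IsMaximal] {G : Type u} [Group G] [Fintype G] {P : Sylow 3 G}

namespace Setup

variable (D : Setup P)

theorem z_order_pow : ∃ k : ℕ, orderOf D.z = 3 ^ k := ⟨1, by rw [D.orderOf_z, pow_one]⟩

theorem pow_z_mul (c : D.Cz) {N : ℕ} (hN : N % 3 = 1) (hcN : orderOf c ∣ N) :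
    (D.z * (c : G)) ^ N = D.z := by
  have hcm : Commute D.z (c : G) := (Subgroup.mem_centralizer_singleton_iff.1 c.2).symm
  rw [hcm.mul_pow, pow_eq_pow_mod N (D.hexp D.z D.hzP), hN, pow_one,
    orderOf_dvd_iff_pow_eq_one.1 (Subgroup.orderOf_coe c ▸ hcN), mul_one]

theorem sq_mod_three {n : ℕ} (h : ¬ 3 ∣ n) : n ^ 2 % 3 = 1 := by
  rw [Nat.pow_mod]
  rcases (show n % 3 = 1 ∨ n % 3 = 2 by omega) with h | h <;> rw [h] <;> norm_num

theorem conj_pow_eq {g a b : G} (h : g * a * g⁻¹ = b) (N : ℕ) : g * a ^ N * g⁻¹ = b ^ N := by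
  rw [← h, _root_.conj_pow]

theorem not_isConj_shift {c : D.Cz} (hc : ¬ 3 ∣ orderOf c) {y : G} (hy : y ∈ (P : Subgroup G))
    (hyz : y ≠ D.z) : ¬ IsConj (D.z * (c : G)) y := by
  intro h
  obtain ⟨g, hg⟩ := isConj_iff.1 h
  have hN := sq_mod_three hc
  have h' := conj_pow_eq hg (orderOf c ^ 2)
  rw [D.pow_z_mul c hN (dvd_pow_self _ two_ne_zero), pow_eq_pow_mod _ (D.hexp y hy), hN, pow_one] at h'
  exact hyz (D.not_conj_z hy h')

theorem not_isConj_shift_inv {c t : D.Cz} (hc : ¬ 3 ∣ orderOf c) (ht : ¬ 3 ∣ orderOf t) :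
    ¬ IsConj (D.z * (c : G)) (D.z * (t : G))⁻¹ := by
  intro h
  obtain ⟨g, hg⟩ := isConj_iff.1 h
  have hN := sq_mod_three (show ¬ 3 ∣ orderOf c * orderOf t from fun hd =>
    ((Nat.Prime.dvd_mul (by norm_num)).1 hd).elim hc ht)
  have h' := conj_pow_eq hg ((orderOf c * orderOf t) ^ 2)
  rw [D.pow_z_mul c hN (Dvd.dvd.pow (dvd_mul_right _ _) two_ne_zero), inv_pow,
    D.pow_z_mul t hN (Dvd.dvd.pow (dvd_mul_left _ _) two_ne_zero)] at h'
  have h2 := D.not_conj_z (inv_mem D.hzP) h'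
  have h3 : D.z ^ 2 = 1 := by
    rw [pow_two]; nth_rewrite 1 [← h2]; exact inv_mul_cancel _
  have h4 := D.hexp D.z D.hzP
  rw [pow_succ, h3, one_mul] at h4
  exact D.hz1 h4

theorem z_mem_commutator {x : G} (hx : x ∈ (P : Subgroup G)) (hxZ : x ∉ Subgroup.zpowers D.z) :
    (⟨D.z, D.hzP⟩ : (P : Subgroup G)) ∈ commutator (P : Subgroup G) := by
  obtain ⟨y, hy, hyx⟩ := D.exists_noncomm hx hxZ
  set c : (P : Subgroup G) := ⁅(⟨y, hy⟩ : (P : Subgroup G)), ⟨x, hx⟩⁆ with hc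
  have hcmem : c ∈ commutator (P : Subgroup G) :=
    Subgroup.commutator_mem_commutator (Subgroup.mem_top _) (Subgroup.mem_top _)
  have hcc : (c : G) = ⁅y, x⁆ := by simp [hc, commutatorElement_def]
  rcases D.mem_zpowers_cases (D.hcomm y hy x hx) with h | h | h
  · exact absurd (commutatorElement_eq_one_iff_mul_comm.1 h) hyx
  · rwa [show (⟨D.z, D.hzP⟩ : (P : Subgroup G)) = c from Subtype.ext (by rw [hcc, h])]
  · rw [show (⟨D.z, D.hzP⟩ : (P : Subgroup G)) = c⁻¹ from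
      Subtype.ext (by rw [Subgroup.coe_inv, hcc, h, inv_inv])]
    exact inv_mem hcmem

theorem three_part_centralizer {x : G} (hx : x ∈ (P : Subgroup G)) (hxZ : x ∉ Subgroup.zpowers D.z) :
    3 ^ (Nat.card (Subgroup.centralizer ({x} : Set G))).factorization 3 = 9 := by
  classical
  haveI : Fact (Nat.Prime 3) := ⟨by norm_num⟩
  obtain ⟨S⟩ : Nonempty (Sylow 3 (Subgroup.centralizer ({x} : Set G))) := inferInstance
  rw [← S.card_eq_multiplicity]
  have h1 : Nat.card (S : Subgroup (Subgroup.centralizer ({x} : Set G))) ≤ 9 := by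
    have he := Nat.card_congr ((S : Subgroup (Subgroup.centralizer ({x} : Set G))).equivMapOfInjective
      (Subgroup.centralizer ({x} : Set G)).subtype (Subgroup.subtype_injective _)).toEquiv
    exact he.le.trans' le_rfl |>.trans (D.card_le_nine hx hxZ (Subgroup.map_subtype_le _) (S.2.map _))
  have h2 : 9 ∣ Nat.card (S : Subgroup (Subgroup.centralizer ({x} : Set G))) := by
    rw [S.card_eq_multiplicity]
    have h9 : 3 ^ 2 ∣ Nat.card (Subgroup.centralizer ({x} : Set G)) := by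
      rw [show 3 ^ 2 = 9 from rfl, ← (D.card_inf_centralizer hx hxZ).1]
      exact Subgroup.card_dvd_of_le inf_le_right
    rw [show 9 = 3 ^ 2 from rfl]
    exact pow_dvd_pow 3 (((Nat.prime_three).pow_dvd_iff_le_factorization Nat.card_pos.ne').1 h9)
  exact le_antisymm h1 (Nat.le_of_dvd Nat.card_pos h2)

theorem exists_coefficient (hM : IsPModular 3 M) {χ : IrrCharacter G} (hχ : χ ∈ principalBlock M G)
    [Fintype {θ : IrrCharacter (D.Cz ⧸ D.Kz) // θ ∈ principalBlock M (D.Cz ⧸ D.Kz)}] :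
    ∃ a b : {θ : IrrCharacter (D.Cz ⧸ D.Kz) // θ ∈ principalBlock M (D.Cz ⧸ D.Kz)} → ℤ,
      ∀ t : D.Cz, ¬ 3 ∣ orderOf t → (χ : G → ℂ) (D.z * (t : G)) =
        ∑ θ, ((a θ : ℂ) + (b θ : ℂ) * om) * (θ.1 : D.Cz ⧸ D.Kz → ℂ) t := by
  classical
  haveI : Fact (Nat.Prime 3) := ⟨by norm_num⟩
  have := Fintype.ofFinite (D.Cz ⧸ D.Kz)
  set b₀ := principalBlock M D.Cz with hb₀
  obtain ⟨n, hn, -⟩ := char_decomp (isCharacter_res D.Cz (isCharacter_of_isIrr χ.2))
  choose ζ hζ hζmul using fun φ : IrrCharacter D.Cz => central_value φ.2 D.zC_center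
    (Subtype.ext (D.hexp D.z D.hzP) : D.zC ^ 3 = 1)
  choose α β hαβ _ using fun φ : IrrCharacter D.Cz => isEis_root (hζ φ)
  have hC : ∃ k : ℕ, (Subgroup.centralizer (D.Kz : Set D.Cz)).index = 3 ^ k :=
    ⟨0, by rw [pow_zero, Subgroup.index_eq_one, Subgroup.centralizer_eq_top_iff_subset]; exact D.Kz_le_center⟩
  have hinfl : inflSet D.Kz b₀ = principalBlock M (D.Cz ⧸ D.Kz) :=
    inflSet_principal D.Kz hM D.Kz_isPGroup hC
  have hcomb : ∀ φ : IrrCharacter D.Cz, ∃ c : IrrCharacter (D.Cz ⧸ D.Kz) → ℤ, φ ∈ b₀ →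
      ∀ t : D.Cz, ¬ 3 ∣ orderOf t → (φ : D.Cz → ℂ) t =
        ∑ ψ : IrrCharacter (D.Cz ⧸ D.Kz),
          if ψ ∈ principalBlock M (D.Cz ⧸ D.Kz) then (c ψ : ℂ) * (ψ : D.Cz ⧸ D.Kz → ℂ) t else 0 := by
    intro φ
    by_cases hφ : φ ∈ b₀
    · obtain ⟨c, hc⟩ := exists_quotient_combination hM D.Kz_isPGroup hC isPBlock_principalBlock hφ
      refine ⟨c, fun _ t ht => ?_⟩
      rw [hc t ht]
      exact Finset.sum_congr rfl fun ψ _ => if_congr (by rw [hinfl]) rfl rfl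
    · exact ⟨0, fun h => absurd h hφ⟩
  choose c hc using hcomb
  refine ⟨fun θ => ∑ φ : IrrCharacter D.Cz, if φ ∈ b₀ then (n φ : ℤ) * α φ * c φ θ.1 else 0,
    fun θ => ∑ φ : IrrCharacter D.Cz, if φ ∈ b₀ then (n φ : ℤ) * β φ * c φ θ.1 else 0, fun t ht => ?_⟩
  have h1 := principal_section hM D.z_order_pow χ (y := t) ht
  rw [if_pos hχ] at h1
  have hf : (fun y : D.Cz => (χ : G → ℂ) (D.z * (y : G))) =
      ∑ φ : IrrCharacter D.Cz, ((n φ : ℂ) * ζ φ) • (φ : D.Cz → ℂ) := by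
    funext y
    have := congrFun hn (D.zC * y)
    simp only [Finset.sum_apply, Pi.smul_apply, smul_eq_mul, Subgroup.coe_mul] at this ⊢
    rw [show ((D.zC : G)) = D.z from rfl] at this
    rw [this]
    exact Finset.sum_congr rfl fun φ _ => by rw [hζmul]; ring
  rw [← h1, blockPart_apply, hf]
  simp only [classInner_sum_left, classInner_smul_left, classInner_irrCharacter, mul_ite, mul_one, mul_zero,
    Finset.sum_ite_eq', Finset.mem_univ, if_true]
  have hsum : ∀ f : IrrCharacter (D.Cz ⧸ D.Kz) → ℂ,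
      ∑ θ : {θ : IrrCharacter (D.Cz ⧸ D.Kz) // θ ∈ principalBlock M (D.Cz ⧸ D.Kz)}, f θ.1 =
        ∑ θ : IrrCharacter (D.Cz ⧸ D.Kz), if θ ∈ principalBlock M (D.Cz ⧸ D.Kz) then f θ else 0 := by
    intro f
    rw [← Finset.sum_filter, ← Finset.sum_subtype
      (Finset.univ.filter fun θ => θ ∈ principalBlock M (D.Cz ⧸ D.Kz)) (fun θ => by simp) f]
  simp only [Int.cast_sum, Finset.sum_mul, ← Finset.sum_add_distrib]
  rw [Finset.sum_comm]
  refine Finset.sum_congr rfl fun φ _ => ?_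
  by_cases hφ : φ ∈ b₀
  · have hφ' : φ ∈ principalBlock M (Subgroup.centralizer ({D.z} : Set G)) := hφ
    simp only [if_pos hφ, if_pos hφ']
    rw [hc φ hφ t ht, ← hsum (fun ψ => (c φ ψ : ℂ) * (ψ : D.Cz ⧸ D.Kz → ℂ) t), Finset.mul_sum]
    refine Finset.sum_congr rfl fun θ _ => ?_
    rw [hαβ]; push_cast; ring
  · have hφ' : φ ∉ principalBlock M (Subgroup.centralizer ({D.z} : Set G)) := hφ
    simp only [if_neg hφ, if_neg hφ']
    simp

theorem exists_coef (hM : IsPModular 3 M) {m : ℕ} (hm : m = 1 ∨ m = 2 ∨ m = 4) (xr : Fin m → G)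
    (hxr : ∀ i, xr i ∈ (P : Subgroup G) ∧ xr i ∉ Subgroup.zpowers D.z)
    (hinj : ∀ i j, IsConj (xr i) (xr j) → i = j) (hreal : ∀ i, IsConj (xr i) (xr i)⁻¹)
    (L : D.LocalData M m xr fun i => (hxr i).1)
    [Fintype {χ : IrrCharacter G // χ ∈ principalBlock M G}]
    [Fintype {θ : IrrCharacter (D.Cz ⧸ D.Kz) // θ ∈ principalBlock M (D.Cz ⧸ D.Kz)}] :
    ∃ C : Coef {χ : IrrCharacter G // χ ∈ principalBlock M G}
        {θ : IrrCharacter (D.Cz ⧸ D.Kz) // θ ∈ principalBlock M (D.Cz ⧸ D.Kz)} m,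
      ∀ χ, C.j χ = (charDegree (χ.1 : G → ℂ) : ℤ) := by
  classical
  haveI : Fact (Nat.Prime 3) := ⟨by norm_num⟩
  have := Fintype.ofFinite (D.Cz ⧸ D.Kz)
  set one : {χ : IrrCharacter G // χ ∈ principalBlock M G} := ⟨irrOne, irrOne_mem_principalBlock⟩ with hone
  set θ₀ : {θ : IrrCharacter (D.Cz ⧸ D.Kz) // θ ∈ principalBlock M (D.Cz ⧸ D.Kz)} :=
    ⟨irrOne, irrOne_mem_principalBlock⟩ with hθ₀
  have hk0 : 0 < m := by omega
  have hsumG : ∀ f : IrrCharacter G → ℂ,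
      ∑ χ : {χ : IrrCharacter G // χ ∈ principalBlock M G}, f χ.1 =
        ∑ χ : IrrCharacter G, if χ ∈ principalBlock M G then f χ else 0 := by
    intro f
    rw [← Finset.sum_filter, ← Finset.sum_subtype
      (Finset.univ.filter fun χ => χ ∈ principalBlock M G) (fun χ => by simp) f]
  have hsumQ : ∀ f : IrrCharacter (D.Cz ⧸ D.Kz) → ℂ,
      ∑ θ : {θ : IrrCharacter (D.Cz ⧸ D.Kz) // θ ∈ principalBlock M (D.Cz ⧸ D.Kz)}, f θ.1 =
        ∑ θ : IrrCharacter (D.Cz ⧸ D.Kz), if θ ∈ principalBlock M (D.Cz ⧸ D.Kz) then f θ else 0 := by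
    intro f
    rw [← Finset.sum_filter, ← Finset.sum_subtype
      (Finset.univ.filter fun θ => θ ∈ principalBlock M (D.Cz ⧸ D.Kz)) (fun θ => by simp) f]
  -- the coefficients
  have hcoef : ∀ χ : {χ : IrrCharacter G // χ ∈ principalBlock M G},
      ∃ a b : {θ : IrrCharacter (D.Cz ⧸ D.Kz) // θ ∈ principalBlock M (D.Cz ⧸ D.Kz)} → ℤ,
        (∀ t : D.Cz, ¬ 3 ∣ orderOf t → (χ.1 : G → ℂ) (D.z * (t : G)) =
          ∑ θ, ((a θ : ℂ) + (b θ : ℂ) * om) * (θ.1 : D.Cz ⧸ D.Kz → ℂ) t) ∧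
        (χ = one → a = Pi.single θ₀ 1 ∧ b = 0) := by
    intro χ
    by_cases h : χ = one
    · subst h
      refine ⟨Pi.single θ₀ 1, 0, fun t _ => ?_, fun _ => ⟨rfl, rfl⟩⟩
      rw [Fintype.sum_eq_single θ₀ fun θ hθ => by simp [Pi.single_eq_of_ne hθ]]
      simp [hone, hθ₀, irrOne_apply]
    · obtain ⟨a, b, hab⟩ := D.exists_coefficient hM χ.2
      exact ⟨a, b, hab, fun h' => absurd h' h⟩
  choose a b hW h1 using hcoef
  let F := fun χ θ => (a χ θ : ℂ) + (b χ θ : ℂ) * om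
  -- the consequences of vanishing on regular elements
  have hker : ∀ c : {θ : IrrCharacter (D.Cz ⧸ D.Kz) // θ ∈ principalBlock M (D.Cz ⧸ D.Kz)} → ℂ,
      (∀ q : D.Cz ⧸ D.Kz, ¬ 3 ∣ orderOf q → ∑ θ, c θ * (θ.1 : D.Cz ⧸ D.Kz → ℂ) q = 0) →
      ∀ p, ∑ θ, (pr L.v p θ : ℂ) * c θ = 0 := fun c hc p => pr_annihilates L.v p (L.ker c hc)
  have hbil : ∀ Z : {θ : IrrCharacter (D.Cz ⧸ D.Kz) // θ ∈ principalBlock M (D.Cz ⧸ D.Kz)} →
      {θ : IrrCharacter (D.Cz ⧸ D.Kz) // θ ∈ principalBlock M (D.Cz ⧸ D.Kz)} → ℂ,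
      (∀ s t : D.Cz ⧸ D.Kz, ¬ 3 ∣ orderOf s → ¬ 3 ∣ orderOf t → ∑ θ, ∑ θ', Z θ θ' *
        ((θ.1 : D.Cz ⧸ D.Kz → ℂ) s * (θ'.1 : D.Cz ⧸ D.Kz → ℂ) t) = 0) →
      ∀ p q, ∑ θ, ∑ θ', Z θ θ' * ((pr L.v p θ : ℂ) * (pr L.v q θ' : ℂ)) = 0 := by
    intro Z hZ p q
    have h2 : ∀ t : D.Cz ⧸ D.Kz, ¬ 3 ∣ orderOf t →
        ∑ θ', (∑ θ, (pr L.v p θ : ℂ) * Z θ θ') * (θ'.1 : D.Cz ⧸ D.Kz → ℂ) t = 0 := by
      intro t ht
      have h3 := hker (fun θ => ∑ θ', Z θ θ' * (θ'.1 : D.Cz ⧸ D.Kz → ℂ) t) (fun s hs => by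
        rw [← hZ s t hs ht]
        refine Finset.sum_congr rfl fun θ _ => ?_
        rw [Finset.sum_mul]
        exact Finset.sum_congr rfl fun θ' _ => by ring) p
      rw [← h3]
      simp only [Finset.sum_mul, Finset.mul_sum]
      rw [Finset.sum_comm]
      exact Finset.sum_congr rfl fun θ _ => Finset.sum_congr rfl fun θ' _ => by ring
    rw [← hker _ h2 q, Finset.sum_comm]
    refine Finset.sum_congr rfl fun θ' _ => ?_
    rw [Finset.mul_sum]
    exact Finset.sum_congr rfl fun θ _ => by ring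
  have hlift : ∀ q : D.Cz ⧸ D.Kz, ¬ 3 ∣ orderOf q → ∃ t : D.Cz, ¬ 3 ∣ orderOf t ∧ (t : D.Cz ⧸ D.Kz) = q :=
    fun q hq => exists_regular_lift D.Kz D.Kz_isPGroup hq
  -- orthogonality on the section of `z`
  have hO1 : ∀ s t : D.Cz, ¬ 3 ∣ orderOf s → ¬ 3 ∣ orderOf t →
      ∑ χ : {χ : IrrCharacter G // χ ∈ principalBlock M G},
          (χ.1 : G → ℂ) (D.z * (s : G)) * conj ((χ.1 : G → ℂ) (D.z * (t : G))) =
        3 * ∑ θ : {θ : IrrCharacter (D.Cz ⧸ D.Kz) // θ ∈ principalBlock M (D.Cz ⧸ D.Kz)},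
          (θ.1 : D.Cz ⧸ D.Kz → ℂ) s * conj ((θ.1 : D.Cz ⧸ D.Kz → ℂ) t) := by
    intro s t hs ht
    rw [hsumG (fun χ => (χ : G → ℂ) (D.z * (s : G)) * conj ((χ : G → ℂ) (D.z * (t : G)))),
      principal_pairing hM D.z_order_pow hs (D.z * (t : G)),
      blockPart_congr_regular hM isPBlock_principalBlock hs
        (f' := fun c => if IsConj c t then (Nat.card (Subgroup.centralizer ({c} : Set D.Cz)) : ℂ) else 0)
        (fun c hc => by
          rw [card_centralizer_shift D.z_order_pow hc]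
          exact if_congr (isConj_shift_iff D.z_order_pow hc ht) rfl rfl),
      quot_column D.Kz hM D.Kz_isPGroup D.Kz_le_center hs ht, D.card_Kz,
      hsumQ (fun θ => (θ : D.Cz ⧸ D.Kz → ℂ) s * conj ((θ : D.Cz ⧸ D.Kz → ℂ) t))]
    norm_num
  have hO2 : ∀ s t : D.Cz, ¬ 3 ∣ orderOf s → ¬ 3 ∣ orderOf t →
      ∑ χ : {χ : IrrCharacter G // χ ∈ principalBlock M G},
          (χ.1 : G → ℂ) (D.z * (s : G)) * (χ.1 : G → ℂ) (D.z * (t : G)) = 0 := by
    intro s t hs ht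
    have h := principal_pairing_zero hM D.z_order_pow hs (g := (D.z * (t : G))⁻¹)
      fun c hc => D.not_isConj_shift_inv hc ht
    rw [← hsumG (fun χ => (χ : G → ℂ) (D.z * (s : G)) * conj ((χ : G → ℂ) (D.z * (t : G))⁻¹))] at h
    rw [← h]
    exact Finset.sum_congr rfl fun χ _ => by
      rw [char_inv (isCharacter_of_isIrr χ.1.2), Complex.conj_conj]
  have hO3 : ∀ y : G, y ∈ (P : Subgroup G) → y ≠ D.z → ∀ t : D.Cz, ¬ 3 ∣ orderOf t →
      ∑ χ : {χ : IrrCharacter G // χ ∈ principalBlock M G},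
          (χ.1 : G → ℂ) (D.z * (t : G)) * conj ((χ.1 : G → ℂ) y) = 0 := by
    intro y hy hyz t ht
    rw [hsumG (fun χ => (χ : G → ℂ) (D.z * (t : G)) * conj ((χ : G → ℂ) y))]
    exact principal_pairing_zero hM D.z_order_pow ht fun c hc => D.not_isConj_shift hc hy hyz
  -- the Gram relations
  let A := fun χ p => form L.v (a χ) p
  let B := fun χ p => form L.v (b χ) p
  have hprF : ∀ χ p, ∑ θ, (pr L.v p θ : ℂ) * F χ θ = (A χ p : ℂ) + (B χ p : ℂ) * om := fun χ p =>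
    pr_mul_eis L.v p (a χ) (b χ)
  have hgvv := fun k l => L.gvv k l
  have hS1 : ∀ p q, ∑ χ, ((A χ p : ℂ) + (B χ p : ℂ) * om) * conj ((A χ q : ℂ) + (B χ q : ℂ) * om) =
      27 * (form L.v p q : ℂ) := by
    intro p q
    have h := hbil (fun θ θ' => (∑ χ, F χ θ * conj (F χ θ')) - if θ = θ' then 3 else 0) ?_ p q
    · simp only [sub_mul, Finset.sum_sub_distrib, sum_expand, ite_mul, zero_mul, Finset.sum_ite_eq,
        Finset.mem_univ, if_true, ← Finset.mul_sum, sub_eq_zero] at h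
      have hc : ∀ χ, ∑ θ', (pr L.v q θ' : ℂ) * conj (F χ θ') = conj ((A χ q : ℂ) + (B χ q : ℂ) * om) := by
        intro χ
        rw [← hprF, map_sum]
        exact Finset.sum_congr rfl fun θ _ => by rw [map_mul, map_intCast]
      simp only [hprF, hc] at h
      rw [h]
      have := congrArg (fun x : ℤ => (x : ℂ)) (sum_pr_pr L.v hgvv p q)
      push_cast at this
      rw [this]; ring
    · intro s t hs ht
      obtain ⟨s', hs', rfl⟩ := hlift s hs
      obtain ⟨t', ht', htq⟩ := hlift t⁻¹ (by rwa [orderOf_inv])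
      have h := hO1 s' t' hs' ht'
      simp only [hW _ _ hs', hW _ _ ht', htq, map_sum, map_mul,
        fun θ : {θ : IrrCharacter (D.Cz ⧸ D.Kz) // θ ∈ principalBlock M (D.Cz ⧸ D.Kz)} =>
          (congrArg conj (char_inv (isCharacter_of_isIrr θ.1.2) t)).trans (Complex.conj_conj _)] at h
      simp only [sub_mul, Finset.sum_sub_distrib, sum_expand, ite_mul, zero_mul, Finset.sum_ite_eq,
        Finset.mem_univ, if_true, ← Finset.mul_sum, sub_eq_zero]
      rw [← h]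
      exact Finset.sum_congr rfl fun χ _ => by
        congr 1 <;> exact Finset.sum_congr rfl fun θ _ => mul_comm _ _
  have hS2 : ∀ p q, ∑ χ, ((A χ p : ℂ) + (B χ p : ℂ) * om) * ((A χ q : ℂ) + (B χ q : ℂ) * om) = 0 := by
    intro p q
    have h := hbil (fun θ θ' => ∑ χ, F χ θ * F χ θ') ?_ p q
    · simp only [sum_expand, hprF] at h
      exact h
    · intro s t hs ht
      obtain ⟨s', hs', rfl⟩ := hlift s hs
      obtain ⟨t', ht', rfl⟩ := hlift t ht
      have h := hO2 s' t' hs' ht'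
      simp only [hW _ _ hs', hW _ _ ht'] at h
      rw [sum_expand, ← h]
      exact Finset.sum_congr rfl fun χ _ => by
        congr 1 <;> exact Finset.sum_congr rfl fun θ _ => mul_comm _ _
  have hgram : ∀ p q, ∑ χ, A χ p * A χ q = 18 * form L.v p q ∧ ∑ χ, B χ p * B χ q = 18 * form L.v p q ∧
      ∑ χ, A χ p * B χ q = 9 * form L.v p q := by
    intro p q
    obtain ⟨e1, e2⟩ := eis_inj (a := ∑ χ, (A χ p * A χ q + B χ p * B χ q - A χ p * B χ q))
      (b := ∑ χ, (B χ p * A χ q - A χ p * B χ q)) (a' := 27 * form L.v p q) (b' := 0) (by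
        have h := hS1 p q
        push_cast
        rw [Finset.sum_mul, ← Finset.sum_add_distrib, zero_mul, add_zero, ← h]
        refine Finset.sum_congr rfl fun χ _ => ?_
        simp only [map_add, map_mul, map_intCast, conj_om]
        linear_combination (B χ p : ℂ) * (B χ q : ℂ) * om_sq)
    obtain ⟨e3, e4⟩ := eis_inj (a := ∑ χ, (A χ p * A χ q - B χ p * B χ q))
      (b := ∑ χ, (A χ p * B χ q + B χ p * A χ q - B χ p * B χ q)) (a' := 0) (b' := 0) (by
        have h := hS2 p q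
        push_cast
        rw [Finset.sum_mul, ← Finset.sum_add_distrib, zero_mul, add_zero, ← h]
        refine Finset.sum_congr rfl fun χ _ => ?_
        linear_combination -(B χ p : ℂ) * (B χ q : ℂ) * om_sq)
    simp only [Finset.sum_add_distrib, Finset.sum_sub_distrib] at e1 e2 e3 e4
    refine ⟨?_, ?_, ?_⟩ <;> omega
  have hlin : ∀ r : {χ : IrrCharacter G // χ ∈ principalBlock M G} → ℤ,
      (∀ t : D.Cz, ¬ 3 ∣ orderOf t → ∑ χ, (r χ : ℂ) * (χ.1 : G → ℂ) (D.z * (t : G)) = 0) →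
      ∀ p, ∑ χ, r χ * A χ p = 0 ∧ ∑ χ, r χ * B χ p = 0 := by
    intro r hr p
    have h := hker (fun θ => ∑ χ, (r χ : ℂ) * F χ θ) (fun q hq => by
      obtain ⟨t, ht, rfl⟩ := hlift q hq
      rw [← hr t ht]
      simp only [hW _ _ ht, Finset.sum_mul, Finset.mul_sum]
      rw [Finset.sum_comm]
      exact Finset.sum_congr rfl fun χ _ => Finset.sum_congr rfl fun θ _ => by ring) p
    simp only [Finset.mul_sum] at h
    rw [Finset.sum_comm] at h
    refine eis_eq_zero ?_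
    push_cast
    rw [Finset.sum_mul, ← Finset.sum_add_distrib, ← h]
    refine Finset.sum_congr rfl fun χ _ => ?_
    rw [mul_assoc, ← mul_add, ← hprF, Finset.mul_sum]
    exact Finset.sum_congr rfl fun θ _ => by ring
  -- the columns at the `xr`
  have hval : ∀ (k : Fin m) (χ : {χ : IrrCharacter G // χ ∈ principalBlock M G}),
      ∃ u : ℤ, (χ.1 : G → ℂ) (xr k) = u ∧ (3 : ℤ) ∣ u - (charDegree (χ.1 : G → ℂ) : ℤ) := fun k χ =>
    value_real (isCharacter_of_isIrr χ.1.2) (D.hexp _ (hxr k).1)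
      ((isClassFunction_iff.1 (isClassFunction_of_isIrr χ.1.2)) _ _ (hreal k)).symm
  choose u hu hud using hval
  have hxo : ∀ k, ∃ i : ℕ, orderOf (xr k) = 3 ^ i := fun k =>
    ⟨1, by rw [pow_one]; exact orderOf_eq_prime (D.hexp _ (hxr k).1) fun h => (hxr k).2 (h ▸ one_mem _)⟩
  have hdeg : ∀ χ : {χ : IrrCharacter G // χ ∈ principalBlock M G},
      (χ.1 : G → ℂ) 1 = ((charDegree (χ.1 : G → ℂ) : ℤ) : ℂ) := fun χ => by
    rw [CfsgLib.Blocks.charDegree_eq (isCharacter_of_isIrr χ.1.2)]; push_cast; rfl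
  have huu : ∀ k l, ∑ χ, u k χ * u l χ = if k = l then 9 else 0 := by
    intro k l
    refine Int.cast_injective (α := ℂ) ?_
    push_cast
    rw [Finset.sum_congr rfl fun χ _ => show (u k χ : ℂ) * (u l χ : ℂ) =
        (χ.1 : G → ℂ) (xr k) * conj ((χ.1 : G → ℂ) (xr l)) by rw [hu, hu, map_intCast],
      hsumG (fun χ => (χ : G → ℂ) (xr k) * conj ((χ : G → ℂ) (xr l)))]
    split_ifs with hkl
    · subst hkl
      have := Fintype.ofFinite (Subgroup.centralizer ({xr k} : Set G))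
      have hnc := CfsgLib.OddLocal.Ten.index_pPrimeCore_eq_pow (D.complement_centralizer (hxr k).1 (hxr k).2)
      have h := sum_principal_section_complement hM (hxo k) hnc
        (y := (1 : Subgroup.centralizer ({xr k} : Set G))) (by rw [orderOf_one]; norm_num)
      simp only [OneMemClass.coe_one, mul_one] at h
      rw [h, D.three_part_centralizer (hxr k).1 (hxr k).2]
      norm_num
    · simpa using CfsgLib.CharBlocks.principal_column_ne hM (hxo k) (hxo l) fun h => hkl (hinj k l h)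
  have hdu : ∀ k, ∑ χ : {χ : IrrCharacter G // χ ∈ principalBlock M G},
      (charDegree (χ.1 : G → ℂ) : ℤ) * u k χ = 0 := by
    intro k
    refine Int.cast_injective (α := ℂ) ?_
    push_cast
    rw [Finset.sum_congr rfl fun χ _ => show ((charDegree (χ.1 : G → ℂ) : ℕ) : ℂ) * (u k χ : ℂ) =
        (χ.1 : G → ℂ) 1 * conj ((χ.1 : G → ℂ) (xr k)) by rw [hu, map_intCast, hdeg]; push_cast; rfl,
      hsumG (fun χ => (χ : G → ℂ) 1 * conj ((χ : G → ℂ) (xr k)))]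
    exact CfsgLib.CharBlocks.principal_column_ne hM ⟨0, by rw [orderOf_one, pow_zero]⟩ (hxo k) fun h => by
      obtain ⟨g, hg⟩ := isConj_iff.1 h
      rw [mul_one, mul_inv_cancel] at hg
      exact (hxr k).2 (hg ▸ one_mem _)
  have hrow : ∀ y : G, y ∈ (P : Subgroup G) → y ≠ D.z →
      ∀ r : {χ : IrrCharacter G // χ ∈ principalBlock M G} → ℤ, (∀ χ, (χ.1 : G → ℂ) y = r χ) →
      ∀ p, ∑ χ, r χ * A χ p = 0 ∧ ∑ χ, r χ * B χ p = 0 := by
    intro y hy hyz r hr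
    refine hlin r fun t ht => ?_
    rw [← hO3 y hy hyz t ht]
    exact Finset.sum_congr rfl fun χ _ => by rw [hr, map_intCast, mul_comm]
  -- the columns of the quotient
  have hv0 : ∀ k, L.v k θ₀ = 1 := fun k => by
    have h := L.hv k θ₀
    rw [show (θ₀.1 : D.Cz ⧸ D.Kz → ℂ) (D.bar (hxr k).1) = 1 from irrOne_apply _] at h
    exact_mod_cast h.symm
  have hdegQ : ∀ θ : {θ : IrrCharacter (D.Cz ⧸ D.Kz) // θ ∈ principalBlock M (D.Cz ⧸ D.Kz)},
      (θ.1 : D.Cz ⧸ D.Kz → ℂ) ((1 : D.Cz) : D.Cz ⧸ D.Kz) =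
        ((charDegree (θ.1 : D.Cz ⧸ D.Kz → ℂ) : ℤ) : ℂ) := fun θ => by
    rw [QuotientGroup.mk_one, CfsgLib.Blocks.charDegree_eq (isCharacter_of_isIrr θ.1.2)]; push_cast; rfl
  have hvd : ∀ k, ∑ θ, L.v k θ * (charDegree ((θ : {θ : IrrCharacter (D.Cz ⧸ D.Kz) //
      θ ∈ principalBlock M (D.Cz ⧸ D.Kz)}).1 : D.Cz ⧸ D.Kz → ℂ) : ℤ) = 0 := by
    intro k
    refine Int.cast_injective (α := ℂ) ?_
    push_cast
    rw [Finset.sum_congr rfl fun θ _ => show (L.v k θ : ℂ) * ((charDegree (θ.1 : D.Cz ⧸ D.Kz → ℂ) : ℕ) : ℂ) =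
        (θ.1 : D.Cz ⧸ D.Kz → ℂ) (D.bar (hxr k).1) * conj ((θ.1 : D.Cz ⧸ D.Kz → ℂ) 1) by
          rw [L.hv, CfsgLib.Blocks.charDegree_eq (isCharacter_of_isIrr θ.1.2), map_natCast],
      hsumQ (fun θ => (θ : D.Cz ⧸ D.Kz → ℂ) (D.bar (hxr k).1) * conj ((θ : D.Cz ⧸ D.Kz → ℂ) 1))]
    exact CfsgLib.CharBlocks.principal_column_ne hM (D.bar_order (hxr k).1)
      ⟨0, by rw [orderOf_one, pow_zero]⟩ fun h => by
        obtain ⟨g, hg⟩ := isConj_iff.1 h
        exact D.bar_ne_one (hxr k).1 (hxr k).2 (conj_eq_one_iff.1 hg)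
  -- the value at `z`
  have hz : ∀ χ : {χ : IrrCharacter G // χ ∈ principalBlock M G},
      (3 : ℤ) ∣ ∑ θ, b χ θ * (charDegree (θ.1 : D.Cz ⧸ D.Kz → ℂ) : ℤ) ∧
      (3 : ℤ) ∣ ∑ θ, a χ θ * (charDegree (θ.1 : D.Cz ⧸ D.Kz → ℂ) : ℤ) - (charDegree (χ.1 : G → ℂ) : ℤ) ∧
      (χ.1 : G → ℂ) D.z = ((∑ θ, a χ θ * (charDegree (θ.1 : D.Cz ⧸ D.Kz → ℂ) : ℤ) : ℤ) : ℂ) +
        ((∑ θ, b χ θ * (charDegree (θ.1 : D.Cz ⧸ D.Kz → ℂ) : ℤ) : ℤ) : ℂ) * om := by
    intro χ
    have hw := hW χ 1 (by rw [orderOf_one]; norm_num)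
    rw [OneMemClass.coe_one, mul_one, Finset.sum_congr rfl fun θ _ => by rw [hdegQ θ]] at hw
    obtain ⟨x, y, hxy, hy, hx⟩ := value_central_derived (isCharacter_of_isIrr χ.1.2) (P : Subgroup G) P.2
      (z := ⟨D.z, D.hzP⟩) (Subgroup.mem_center_iff.2 fun w => Subtype.ext (D.hzc w w.2).symm)
      (Subtype.ext (D.hexp D.z D.hzP)) (D.z_mem_commutator (hxr ⟨0, hk0⟩).1 (hxr ⟨0, hk0⟩).2)
    have heq : (χ.1 : G → ℂ) D.z = ((∑ θ, a χ θ * (charDegree (θ.1 : D.Cz ⧸ D.Kz → ℂ) : ℤ) : ℤ) : ℂ) +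
        ((∑ θ, b χ θ * (charDegree (θ.1 : D.Cz ⧸ D.Kz → ℂ) : ℤ) : ℤ) : ℂ) * om := by
      rw [hw]; push_cast
      rw [Finset.sum_mul, ← Finset.sum_add_distrib]
      exact Finset.sum_congr rfl fun θ _ => by ring
    obtain ⟨ex, ey⟩ := eis_inj (hxy.symm.trans heq)
    exact ⟨ey ▸ hy, ex ▸ hx, heq⟩
  have hshift : ∀ (k : Fin m) (w : {θ : IrrCharacter (D.Cz ⧸ D.Kz) // θ ∈ principalBlock M (D.Cz ⧸ D.Kz)} → ℤ),
      (3 : ℤ) ∣ ∑ θ, L.v k θ * w θ - ∑ θ, w θ * (charDegree (θ.1 : D.Cz ⧸ D.Kz → ℂ) : ℤ) := by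
    intro k w
    rw [← Finset.sum_sub_distrib]
    refine Finset.dvd_sum fun θ _ => ?_
    rw [mul_comm (L.v k θ), ← mul_sub]
    exact (L.v_deg k θ).mul_left _
  refine ⟨{
    v := L.v, θ₀ := θ₀, a := a, b := b, u := fun χ k => u k χ,
    j := fun χ => (charDegree (χ.1 : G → ℂ) : ℤ), deg := fun χ => (charDegree (χ.1 : G → ℂ) : ℤ),
    one := one, hm := hk0, cardΘ := ?_, gvv := hgvv, v_ne := L.v_ne, v_cong := ?_, v_one := hv0,
    Φ := form L.v, Φ_def := fun _ _ => rfl,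
    gaa := fun p q => (hgram p q).1, gbb := fun p q => (hgram p q).2.1, gab := fun p q => (hgram p q).2.2,
    guu := huu, gau := ?_, gbu := ?_, da := ?_, db := ?_, du := hdu, b_cong := ?_, a_cong := ?_,
    u_cong := fun k χ => hud k χ, one_a := ?_, one_b := ?_, one_u := ?_, one_j := ?_, one_deg := ?_,
    nonzero := ?_ }, fun _ => rfl⟩
  · simpa only [Nat.card_eq_fintype_card] using L.card
  · intro k l θ
    simpa using dvd_sub (L.v_deg k θ) (L.v_deg l θ)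
  · intro k p
    exact (hrow (xr k) (hxr k).1 (fun h => (hxr k).2 (h ▸ Subgroup.mem_zpowers _)) (u k) (hu k) p).1
  · intro k p
    exact (hrow (xr k) (hxr k).1 (fun h => (hxr k).2 (h ▸ Subgroup.mem_zpowers _)) (u k) (hu k) p).2
  · intro p
    exact (hrow 1 (one_mem _) (Ne.symm D.hz1) _ hdeg p).1
  · intro p
    exact (hrow 1 (one_mem _) (Ne.symm D.hz1) _ hdeg p).2
  · intro k χ
    simpa using dvd_add (hshift k (b χ)) (hz χ).1
  · intro k χ
    have := dvd_add (hshift k (a χ)) (hz χ).2.1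
    simpa [sub_eq_add_neg, add_assoc] using this
  · intro p
    rw [(h1 one rfl).1, form]
    simp [Pi.single_apply, hv0]
  · intro p
    rw [(h1 one rfl).2, form]
    simp
  · intro k
    have h := hu k one
    rw [show (one.1 : G → ℂ) (xr k) = 1 from irrOne_apply _] at h
    exact_mod_cast h.symm
  · have h := hdeg one
    rw [show (one.1 : G → ℂ) 1 = 1 from irrOne_apply _] at h
    exact_mod_cast h.symm
  · have h := hdeg one
    rw [show (one.1 : G → ℂ) 1 = 1 from irrOne_apply _] at h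
    exact_mod_cast h.symm
  · intro χ
    by_contra hcon
    simp only [not_or, not_exists, not_not] at hcon
    have hnull : ∀ w : {θ : IrrCharacter (D.Cz ⧸ D.Kz) // θ ∈ principalBlock M (D.Cz ⧸ D.Kz)} → ℤ,
        form L.v w w = 0 → ∑ θ, w θ * (charDegree (θ.1 : D.Cz ⧸ D.Kz → ℂ) : ℤ) = 0 := by
      intro w hw
      have h0 := (Finset.sum_eq_zero_iff_of_nonneg fun θ _ => mul_self_nonneg (pr L.v w θ)).1
        (by rw [sum_pr_pr L.v hgvv, hw, mul_zero])
      have h9 := sum_pr_mul L.v w fun θ => (charDegree (θ.1 : D.Cz ⧸ D.Kz → ℂ) : ℤ)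
      have e1 : ∑ θ, pr L.v w θ * (charDegree (θ.1 : D.Cz ⧸ D.Kz → ℂ) : ℤ) = 0 :=
        Finset.sum_eq_zero fun θ hθ => by rw [mul_self_eq_zero.1 (h0 θ hθ), zero_mul]
      rw [e1, form] at h9
      simp only [hvd, mul_zero, Finset.sum_const_zero, sub_zero] at h9
      linarith
    refine value_ne_zero hM χ.2 (x := D.z) (fun hd => P.not_dvd_index
      (hd.trans (Subgroup.index_dvd_of_le D.P_le_Cz))) ?_
    rw [(hz χ).2.2, hnull _ hcon.2.1, hnull _ hcon.2.2]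
    simp

end Setup

end CfsgLib.Blocks.ExtraThree
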