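import Mathlib
import Cfsg.Agent.Lib.Blocks.ExtraThree.Coefficients

/-!
# Invariants of the principal 3-block, extraspecial Sylow subgroup of order 27

* `Setup.invariants_even`: inertial index 2, 4, 8;
* `Setup.invariants_one`: inertial index 1.
-/

set_option autoImplicit false

noncomputable section

namespace CfsgLib.Blocks.ExtraThree

open Cfsg CfsgLib.Blocks CfsgLib.BlockArith CfsgLib.Char
open scoped ComplexConjugate

universe u

variable {M : Ideal AlgInt} [M.IsMaximal] {G : Type u} [Group G] [Fintype G] {P : Sylow 3 G}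

/-- Height zero in the principal block means degree prime to three. -/
theorem height_zero_iff (χ : IrrCharacter G) :
    blockHeight 3 (principalBlock M G) (χ : G → ℂ) = 0 ↔ ¬ 3 ∣ charDegree (χ : G → ℂ) := by
  have h1 : charDegree ((irrOne : IrrCharacter G) : G → ℂ) = 1 :=
    CfsgLib.CharBlocks.charDegree_eq (by rw [irrOne_apply, Nat.cast_one])
  have hinf : sInf ((fun ψ : IrrCharacter G => (charDegree (ψ : G → ℂ)).factorization 3) ''
      principalBlock M G) = 0 :=
    Nat.sInf_eq_zero.2 (Or.inl ⟨irrOne, irrOne_mem_principalBlock, by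
      show (charDegree ((irrOne : IrrCharacter G) : G → ℂ)).factorization 3 = 0
      rw [h1]; simp⟩)
  rw [blockHeight, hinf, Nat.sub_zero, Nat.factorization_eq_zero_iff]
  have := CfsgLib.CharBlocks.charDegree_pos χ.2
  constructor
  · rintro (h | h | h)
    · exact absurd Nat.prime_three h
    · exact h
    · omega
  · intro h; exact Or.inr (Or.inl h)

namespace Setup

variable (D : Setup P)

/-- Representatives of the nontrivial classes of `3`-elements. -/
def reps3 {m : ℕ} (xr : Fin m → G) : Fin 2 ⊕ Fin m → G := Sum.elim ![D.z, D.z⁻¹] xr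

theorem z_inv_ne : D.z⁻¹ ≠ D.z := fun h => by
  have h3 : D.z ^ 2 = 1 := by rw [pow_two]; nth_rewrite 1 [← h]; exact inv_mul_cancel _
  have h4 := D.hexp D.z D.hzP
  rw [pow_succ, h3, one_mul] at h4
  exact D.hz1 h4

theorem count_eq (hM : IsPModular 3 M) {m : ℕ} (xr : Fin m → G)
    (hxr : ∀ i, xr i ∈ (P : Subgroup G) ∧ xr i ∉ Subgroup.zpowers D.z)
    (hinj : ∀ i j, IsConj (xr i) (xr j) → i = j)
    (hcov : ∀ w ∈ (P : Subgroup G), w ∉ Subgroup.zpowers D.z → ∃ i, IsConj w (xr i)) :
    Nat.card (principalBlock M G) =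
      blockRank 3 (principalBlock M G) + 2 * blockRank 3 (principalBlock M D.Cz) + m := by
  classical
  haveI : Fact (Nat.Prime 3) := ⟨by norm_num⟩
  have hzz : ¬ IsConj D.z D.z⁻¹ := fun h => by
    obtain ⟨g, hg⟩ := isConj_iff.1 h
    exact D.z_inv_ne (D.not_conj_z (inv_mem D.hzP) hg)
  have hzx : ∀ i, ¬ IsConj D.z (xr i) := fun i h => by
    obtain ⟨g, hg⟩ := isConj_iff.1 h
    exact (hxr i).2 (D.not_conj_z (hxr i).1 hg ▸ Subgroup.mem_zpowers _)
  have hzix : ∀ i, ¬ IsConj D.z⁻¹ (xr i) := fun i h => by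
    obtain ⟨g, hg⟩ := isConj_iff.1 h
    have h' := D.not_conj_z (g := g) (inv_mem (hxr i).1) (by rw [← hg]; group)
    exact (hxr i).2 (by rw [← inv_inv (xr i), h']; exact inv_mem (Subgroup.mem_zpowers _))
  have hcube : ∀ s, D.reps3 xr s ∈ (P : Subgroup G) := by
    rintro (i | i)
    · fin_cases i
      · exact D.hzP
      · exact inv_mem D.hzP
    · exact (hxr i).1
  have hne : ∀ s, D.reps3 xr s ≠ 1 := by
    rintro (i | i)
    · fin_cases i
      · exact D.hz1
      · exact inv_ne_one.2 D.hz1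
    · exact fun h => (hxr i).2 (by rw [show xr i = 1 from h]; exact one_mem _)
  have hord : ∀ s, ∃ k : ℕ, orderOf (D.reps3 xr s) = 3 ^ k := fun s =>
    ⟨1, by rw [pow_one]; exact orderOf_eq_prime (D.hexp _ (hcube s)) (hne s)⟩
  have hinj' : ∀ s t, IsConj (D.reps3 xr s) (D.reps3 xr t) → s = t := by
    rintro (i | i) (j | j) h
    · fin_cases i <;> fin_cases j <;> first | rfl | exact absurd h hzz | exact absurd h.symm hzz
    · fin_cases i
      · exact absurd h (hzx j)
      · exact absurd h (hzix j)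
    · fin_cases j
      · exact absurd h.symm (hzx i)
      · exact absurd h.symm (hzix i)
    · exact congrArg Sum.inr (hinj i j h)
  have hcov' : ∀ g : G, g ≠ 1 → (∃ k : ℕ, orderOf g = 3 ^ k) → ∃ s, IsConj g (D.reps3 xr s) := by
    intro g hg ⟨k, hk⟩
    have hgP : IsPGroup 3 (Subgroup.zpowers g) := IsPGroup.of_card (n := k) (by rw [Nat.card_zpowers, hk])
    obtain ⟨R, hR⟩ := hgP.exists_le_sylow
    obtain ⟨c, hc⟩ := MulAction.exists_smul_eq G R P
    have hmem : c * g * c⁻¹ ∈ (P : Subgroup G) := by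
      rw [← hc, Sylow.coe_subgroup_smul]
      exact ⟨g, hR (Subgroup.mem_zpowers g), rfl⟩
    have hconj : IsConj g (c * g * c⁻¹) := isConj_iff.2 ⟨c, rfl⟩
    by_cases hZ : c * g * c⁻¹ ∈ Subgroup.zpowers D.z
    · rcases D.mem_zpowers_cases hZ with h | h | h
      · exact absurd (conj_eq_one_iff.1 h) hg
      · exact ⟨Sum.inl 0, by rw [h] at hconj; exact hconj⟩
      · exact ⟨Sum.inl 1, by rw [h] at hconj; exact hconj⟩
    · obtain ⟨i, hi⟩ := hcov _ hmem hZ
      exact ⟨Sum.inr i, hconj.trans hi⟩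
  rw [principal_count hM (D.reps3 xr) hord hinj' hne hcov', Fintype.sum_sum_type, Fin.sum_univ_two, add_assoc]
  have hC : Subgroup.centralizer ({D.z⁻¹} : Set G) = D.Cz := by
    ext w
    rw [Subgroup.mem_centralizer_singleton_iff, Subgroup.mem_centralizer_singleton_iff]
    exact ⟨fun h => (Commute.inv_right_iff.1 (show Commute w D.z⁻¹ from h)).eq,
      fun h => (Commute.inv_right (show Commute w D.z from h)).eq⟩
  have hone : ∀ i, blockRank 3 (principalBlock M (Subgroup.centralizer ({xr i} : Set G))) = 1 := fun i => by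
    have := Fintype.ofFinite (Subgroup.centralizer ({xr i} : Set G))
    exact blockRank_principal_complement hM (D.complement_centralizer (hxr i).1 (hxr i).2)
  rw [show D.reps3 xr (Sum.inl 0) = D.z from rfl, show D.reps3 xr (Sum.inl 1) = D.z⁻¹ from rfl,
    blockRank_subgroup_congr (M := M) (p := 3) hC,
    Finset.sum_congr rfl fun i _ => show blockRank 3 (principalBlock M
      (Subgroup.centralizer ({D.reps3 xr (Sum.inr i)} : Set G))) = 1 from hone i]
  simp only [Finset.sum_const, Finset.card_univ, Fintype.card_fin, smul_eq_mul, mul_one]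
  ring

include D in
theorem invariants_even (hM : IsPModular 3 M) {e : ℕ}
    (he : (Setup.PC (P := P)).relIndex (Subgroup.normalizer ((P : Subgroup G) : Set G)) = e)
    (he2 : e = 2 ∨ e = 4 ∨ e = 8) :
    ∃ m : ℕ, m * e = 8 ∧ Nat.card (principalBlock M G) = 2 * (6 - m) + 6 ∧
      Nat.card {χ : IrrCharacter G // χ ∈ principalBlock M G ∧
        blockHeight 3 (principalBlock M G) (χ : G → ℂ) = 0} = 6 ∧
      blockRank 3 (principalBlock M G) = 6 - m := by
  classical
  obtain ⟨m, xr, hme, hxr, hinj, hcov⟩ := D.exists_reps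
  rw [he] at hme
  have hm : m = 1 ∨ m = 2 ∨ m = 4 := by rcases he2 with rfl | rfl | rfl <;> omega
  have hreal : ∀ i, IsConj (xr i) (xr i)⁻¹ := fun i => D.conj_inv (hxr i).1 (hxr i).2 (by
    rw [he]; rcases he2 with rfl | rfl | rfl <;> norm_num)
  obtain ⟨L⟩ := D.exists_local hM hm xr hxr hinj hcov hreal
  have := Fintype.ofFinite {χ : IrrCharacter G // χ ∈ principalBlock M G}
  have := Fintype.ofFinite {θ : IrrCharacter (D.Cz ⧸ D.Kz) // θ ∈ principalBlock M (D.Cz ⧸ D.Kz)}
  obtain ⟨C, hC⟩ := D.exists_coef hM hm xr hxr hinj hreal L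
  obtain ⟨hk, hk0⟩ := C.counts
  have hrep' := C.card_reps'
  obtain ⟨hrep, hm6⟩ := C.card_reps
  have hrank := L.rank
  rw [Nat.card_eq_fintype_card] at hrank
  have hcount := D.count_eq hM xr hxr hinj hcov
  have hk' : Nat.card (principalBlock M G) = 2 * (6 - m) + 6 := by
    rw [← hk, ← Nat.card_eq_fintype_card]
  refine ⟨m, hme, hk', ?_, by omega⟩
  rw [← hk0]
  refine Nat.card_congr ((Equiv.subtypeEquiv (Equiv.refl _) fun χ => ?_).trans
    (Equiv.subtypeSubtypeEquivSubtypeExists (fun χ => χ ∈ principalBlock M G)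
      fun χ => ¬ (3 : ℤ) ∣ C.j χ).symm)
  constructor
  · rintro ⟨h, h0⟩
    refine ⟨h, ?_⟩
    rw [hC]
    exact_mod_cast (height_zero_iff χ).1 h0
  · rintro ⟨h, h0⟩
    rw [hC] at h0
    exact ⟨h, (height_zero_iff χ).2 (by exact_mod_cast h0)⟩

include D in
theorem invariants_one (hM : IsPModular 3 M)
    (he : (Setup.PC (P := P)).relIndex (Subgroup.normalizer ((P : Subgroup G) : Set G)) = 1) :
    Nat.card (principalBlock M G) = 11 ∧
      Nat.card {χ : IrrCharacter G // χ ∈ principalBlock M G ∧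
        blockHeight 3 (principalBlock M G) (χ : G → ℂ) = 0} = 9 ∧
      blockRank 3 (principalBlock M G) = 1 := by
  classical
  haveI : Fact (Nat.Prime 3) := ⟨by norm_num⟩
  have hG := D.hasNormalPComplement_of_index_one he
  obtain ⟨m, xr, hme, hxr, hinj, hcov⟩ := D.exists_reps
  rw [he, mul_one] at hme
  have hcount := D.count_eq hM xr hxr hinj hcov
  have := Fintype.ofFinite D.Cz
  have h1 : blockRank 3 (principalBlock M G) = 1 := blockRank_principal_complement hM hG
  have hCz : blockRank 3 (principalBlock M D.Cz) = 1 :=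
    blockRank_principal_complement hM (CfsgLib.Transfer.hasNormalPComplement_subgroup hG D.Cz)
  have hk : Nat.card (principalBlock M G) = 11 := by omega
  refine ⟨hk, ?_, h1⟩
  have hnc := CfsgLib.OddLocal.Ten.index_pPrimeCore_eq_pow hG
  have hsq := sum_degree_sq_principal hM hnc
  rw [show (3 : ℕ) ^ (Nat.card G).factorization 3 = 27 by rw [← P.card_eq_multiplicity]; exact D.h27] at hsq
  set B := Finset.univ.filter fun χ : IrrCharacter G => χ ∈ principalBlock M G with hB
  have hBcard : B.card = 11 := by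
    rw [← hk, ← Nat.card_eq_finsetCard]
    exact Nat.card_congr (Equiv.subtypeEquivRight fun χ => by simp [hB])
  have hsq' : ∑ χ ∈ B, charDegree (χ : G → ℂ) * charDegree (χ : G → ℂ) = 27 := by
    refine Nat.cast_injective (R := ℂ) ?_
    push_cast
    have h := hsq
    push_cast at h
    rw [hB, Finset.sum_filter, ← h]
    exact Finset.sum_congr rfl fun χ _ => by
      split_ifs
      · rw [CfsgLib.Blocks.charDegree_eq (isCharacter_of_isIrr χ.2)]
      · rfl
  -- the degrees are one or three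
  have hdeg : ∀ χ ∈ B, charDegree (χ : G → ℂ) = 1 ∨ charDegree (χ : G → ℂ) = 3 := by
    intro χ hχ
    have hle : charDegree (χ : G → ℂ) * charDegree (χ : G → ℂ) ≤ 27 :=
      hsq' ▸ Finset.single_le_sum (f := fun ψ : IrrCharacter G =>
        charDegree (ψ : G → ℂ) * charDegree (ψ : G → ℂ)) (fun _ _ => Nat.zero_le _) hχ
    have hpos := CfsgLib.CharBlocks.charDegree_pos χ.2
    have hlt : charDegree (χ : G → ℂ) < 6 := by nlinarith
    set K := pPrimeCore 3 G with hK
    have : K.Normal := by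
      have := CfsgLib.Cores.pPrimeCore_characteristic (G := G) 3
      exact inferInstance
    have := Fintype.ofFinite K
    have hmem : χ ∈ principalBlock M G := (Finset.mem_filter.1 hχ).2
    rw [Cfsg.Agent.S0939.result 3 M hM hnc] at hmem
    have hres : classInner (fun k : K => (χ : G → ℂ) k) (fun _ => 1) ≠ 0 := by
      rw [CfsgLib.Char.classInner_one_right, Finset.sum_congr rfl fun (k : K) _ => hmem k k.2,
        Finset.sum_const, Finset.card_univ, nsmul_eq_mul]
      refine mul_ne_zero (inv_ne_zero CfsgLib.Char.card_ne_zero') (mul_ne_zero ?_ (irr_one_ne_zero χ.2))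
      exact_mod_cast Fintype.card_pos.ne'
    have hone : IsIrrCharacter K (fun _ : K => (1 : ℂ)) := (irrOne : IrrCharacter K).2
    have hdvd := (degree_quotient_dvd_index K χ.2 hone hres (c := charDegree (χ : G → ℂ)) (d := 1)
      (CfsgLib.Blocks.charDegree_eq (isCharacter_of_isIrr χ.2)) (by simp)).2
    rw [Nat.div_one] at hdvd
    obtain ⟨k, hk⟩ := hnc
    rw [hk] at hdvd
    obtain ⟨i, -, hi⟩ := (Nat.dvd_prime_pow Nat.prime_three).1 hdvd
    rw [hi] at hlt ⊢
    rcases i with _ | _ | i
    · left; rfl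
    · right; rfl
    · exfalso
      have : 3 ^ 2 ≤ 3 ^ (i + 1 + 1) := Nat.pow_le_pow_right (by norm_num) (by omega)
      omega
  have hsplit := Finset.card_filter_add_card_filter_not (s := B)
    (fun χ : IrrCharacter G => charDegree (χ : G → ℂ) = 1)
  have hsum := hsq'
  have e1 : ∀ χ ∈ B.filter (fun χ : IrrCharacter G => charDegree (χ : G → ℂ) = 1),
      charDegree (χ : G → ℂ) * charDegree (χ : G → ℂ) = 1 := fun χ hχ => by
    rw [(Finset.mem_filter.1 hχ).2]
  have e2 : ∀ χ ∈ B.filter (fun χ : IrrCharacter G => ¬ charDegree (χ : G → ℂ) = 1),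
      charDegree (χ : G → ℂ) * charDegree (χ : G → ℂ) = 9 := fun χ hχ => by
    rw [(hdeg χ (Finset.mem_filter.1 hχ).1).resolve_left (Finset.mem_filter.1 hχ).2]
  rw [← Finset.sum_filter_add_sum_filter_not B (fun χ : IrrCharacter G => charDegree (χ : G → ℂ) = 1),
    Finset.sum_congr rfl e1, Finset.sum_congr rfl e2] at hsum
  simp only [Finset.sum_const, smul_eq_mul, mul_one] at hsum
  have h9 : (B.filter fun χ : IrrCharacter G => charDegree (χ : G → ℂ) = 1).card = 9 := by omega
  rw [← h9, ← Nat.card_eq_finsetCard]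
  refine Nat.card_congr (Equiv.subtypeEquivRight fun χ => ?_)
  rw [Finset.mem_filter, hB, Finset.mem_filter, height_zero_iff]
  constructor
  · rintro ⟨h, h0⟩
    refine ⟨⟨Finset.mem_univ _, h⟩, (hdeg χ (Finset.mem_filter.2 ⟨Finset.mem_univ _, h⟩)).resolve_right ?_⟩
    intro h3; exact h0 (h3 ▸ dvd_rfl)
  · rintro ⟨⟨-, h⟩, h1⟩
    exact ⟨h, by rw [h1]; norm_num⟩

end Setup

end CfsgLib.Blocks.ExtraThree
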